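import Mathlib

/-!
Groups with a three-local structure of the symmetric group of degree eight: the data and the
interfaces of the pieces of the proof.

The letters `0, …, 4` of `Sym 5` correspond to `3, …, 7` in degree eight.
-/

set_option autoImplicit false

namespace CfsgLib.SEightThree

open Equiv

universe u

/-- `Sym 3 × Sym 5`. -/
abbrev KF : Type := Perm (Fin 3) × Perm (Fin 5)

/-- The three-cycle of `Sym 3`. -/
def zF : KF := (swap 0 1 * swap 1 2, 1)

/-- The three-cycle `(2 3 4)` of `Sym 5`. -/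
def dF : KF := (1, swap 2 3 * swap 3 4)

/-- The transposition centralizing both three-cycles. -/
def tF : KF := (1, swap 0 1)

/-- The involution inverting `zF` and centralizing `dF`. -/
def eF : KF := (swap 0 1, 1)

/-- A transposition inverting `dF`. -/
def fF : KF := (1, swap 2 3)

/-- `(3 4)` -/
def hF : KF := (1, swap 3 4)

/-- `(1 2)` -/
def cF : KF := (1, swap 1 2)

/-- `(1 4)(2 3)` -/
def aF : KF := (1, swap 1 4 * swap 2 3)

/-- `(1 3)(2 4)` -/
def bF : KF := (1, swap 1 3 * swap 2 4)

/-- The three-cycle `(0 1 2)` of `Sym 5`. -/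
def xF : KF := (1, swap 0 1 * swap 1 2)

/-- The transposition `(s 4)`. -/
def sF (s : Fin 5) : KF := (1, swap s 4)

/-- The double transpositions of the four-group on the four letters other than `1 - s`,
for `s = 0, 1`: `(s 4)(2 3)`. -/
def uF (s : Fin 5) : KF := (1, swap s 4 * swap 2 3)

/-- The even permutations of five letters. -/
def L₁F : Subgroup KF := (⊥ : Subgroup (Perm (Fin 3))).prod (alternatingGroup (Fin 5))

/-- The data. The last field distinguishes the two possible conclusions. -/
structure Setup (G : Type u) [Group G] where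
  ψ : KF →* G
  inj : Function.Injective ψ
  range_eq : ψ.range = Subgroup.normalizer (Subgroup.zpowers (ψ zF) : Set G)
  g : G
  g_z : g * ψ zF * g⁻¹ = ψ dF
  g_d : g * ψ dF * g⁻¹ = ψ zF
  g_t : g * ψ tF * g⁻¹ = ψ tF
  card_y : Nat.card (Subgroup.centralizer ({ψ zF * ψ dF} : Set G)) = 36
  sq_y : ∀ x ∈ Subgroup.centralizer ({ψ zF * ψ dF} : Set G),
    x ^ 2 ∈ Subgroup.closure ({ψ zF, ψ dF} : Set G)
  not_dvd : ¬ 27 ∣ Nat.card G
  cases_e : (g * ψ eF * g⁻¹ = ψ fF ∧ g * ψ fF * g⁻¹ = ψ eF) ∨
    (g * ψ eF * g⁻¹ = ψ (fF * tF) ∧ g * ψ fF * g⁻¹ = ψ (eF * tF))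

variable {G : Type u} [Group G]

/-- The configuration of the symmetric group. -/
def Setup.IsSym (S : Setup G) : Prop :=
  S.g * S.ψ eF * S.g⁻¹ = S.ψ fF ∧ S.g * S.ψ fF * S.g⁻¹ = S.ψ eF

/-- The configuration of the wreathed group. -/
def Setup.IsWr (S : Setup G) : Prop :=
  S.g * S.ψ eF * S.g⁻¹ = S.ψ (fF * tF) ∧ S.g * S.ψ fF * S.g⁻¹ = S.ψ (eF * tF)

theorem Setup.isSym_or_isWr (S : Setup G) : S.IsSym ∨ S.IsWr := S.cases_e

/-- The conjugated embedding, with the normalizer of the second three-cycle as image. -/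
def Setup.φ (S : Setup G) : KF →* G := (MulAut.conj S.g).toMonoidHom.comp S.ψ

theorem Setup.φ_apply (S : Setup G) (k : KF) : S.φ k = S.g * S.ψ k * S.g⁻¹ := rfl

theorem Setup.φ_inj (S : Setup G) : Function.Injective S.φ :=
  (MulAut.conj S.g).injective.comp S.inj

theorem Setup.φ_zF (S : Setup G) : S.φ zF = S.ψ dF := S.g_z

theorem Setup.φ_dF (S : Setup G) : S.φ dF = S.ψ zF := S.g_d

theorem Setup.φ_tF (S : Setup G) : S.φ tF = S.ψ tF := S.g_t

/-- The four-group fixing the letter `0`. -/
def Setup.V (S : Setup G) : Subgroup G := Subgroup.closure {S.ψ aF, S.ψ bF}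

/-- The first simple factor. -/
def Setup.L₁ (S : Setup G) : Subgroup G := L₁F.map S.ψ

/-- The second simple factor. -/
def Setup.L₂ (S : Setup G) : Subgroup G := L₁F.map S.φ

/-- The four-group in the second factor. -/
def Setup.V' (S : Setup G) : Subgroup G := Subgroup.closure {S.φ aF, S.φ bF}

/-- The elementary abelian subgroup of order sixteen in the wreathed configuration. -/
def Setup.W (S : Setup G) : Subgroup G := S.V ⊔ S.V'

/-- The subgroup generated by both factors. -/
def Setup.N (S : Setup G) : Subgroup G := S.L₁ ⊔ S.L₂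

/-- The centralizer of the pair of transpositions `e, h`. -/
def Setup.K (S : Setup G) : Subgroup G :=
  Subgroup.centralizer ({S.ψ eF, S.ψ hF} : Set G)

/-- The pair of transpositions `e, h`. -/
def Setup.Z (S : Setup G) : Subgroup G := Subgroup.closure {S.ψ eF, S.ψ hF}

/-- The relations which have to be refuted by enumeration: the quotient of `K` by `Z` is
alternating of degree five. -/
def Setup.BadFive (S : Setup G) : Prop :=
  (S.φ (sF 0) * S.ψ cF) ^ 5 ∈ S.Z ∧ (S.φ (sF 0) * S.ψ tF * S.ψ cF) ^ 3 ∈ S.Z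

end CfsgLib.SEightThree
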