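import Mathlib
import Cfsg.Agent.Lib.SEightThree.Basic

/-!
The data are present in every group with the three-local structure of the symmetric group of
degree eight.
-/

set_option autoImplicit false
set_option maxRecDepth 100000
set_option synthInstance.maxSize 1024
set_option synthInstance.maxHeartbeats 200000
set_option linter.style.haveILetI false

namespace CfsgLib.SEightThree

open Equiv

universe u

namespace SetupAux

/-- The three-cycle of degree three. -/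
def σ₃ : Perm (Fin 3) := swap 0 1 * swap 1 2

/-- The three-cycle `(2 3 4)`. -/
def δ₅ : Perm (Fin 5) := swap 2 3 * swap 3 4

/-- A five-cycle. -/
def c₅ : Perm (Fin 5) := swap 0 1 * swap 1 2 * swap 2 3 * swap 3 4

theorem perm_five_of_normalizes : ∀ b : Perm (Fin 5),
    b ^ 3 = 1 → (c₅ * b = b * c₅ ∨ c₅ * b = b⁻¹ * c₅) → b = 1 := by
  decide +kernel

theorem perm_three_of_cube : ∀ a : Perm (Fin 3), a ^ 3 = 1 → a = 1 ∨ a = σ₃ ∨ a = σ₃⁻¹ := by
  decide +kernel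

theorem perm_three_commute : ∀ a : Perm (Fin 3),
    a * σ₃ = σ₃ * a → a = 1 ∨ a = σ₃ ∨ a = σ₃⁻¹ := by
  decide +kernel

theorem perm_five_commute : ∀ b : Perm (Fin 5),
    b ^ 3 = 1 → b * δ₅ = δ₅ * b → b = 1 ∨ b = δ₅ ∨ b = δ₅⁻¹ := by
  decide +kernel

theorem perm_three_conj : ∀ a : Perm (Fin 3), a * σ₃ * a⁻¹ = σ₃ ∨ a * σ₃ * a⁻¹ = σ₃⁻¹ := by
  decide +kernel

theorem isConj_delta {b : Perm (Fin 5)} (h3 : b ^ 3 = 1) (h1 : b ≠ 1) : IsConj b δ₅ := by
  have ho : orderOf b = 3 := orderOf_eq_prime h3 h1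
  have hod : orderOf δ₅ = 3 := orderOf_eq_prime (by decide +kernel) (by decide +kernel)
  have key : ∀ c : Perm (Fin 5), orderOf c = 3 → c.cycleType = {3} := fun c hc => by
    obtain ⟨n, hn⟩ := Equiv.Perm.cycleType_prime_order (σ := c) (hc.symm ▸ Nat.prime_three)
    rw [hc] at hn
    have hs : c.cycleType.sum ≤ 5 := by
      rw [Equiv.Perm.sum_cycleType]
      exact (Finset.card_le_univ _).trans (le_of_eq (Fintype.card_fin 5))
    rw [hn, Multiset.sum_replicate, smul_eq_mul] at hs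
    have hn0 : n = 0 := by omega
    rw [hn, hn0]
    rfl
  exact Equiv.Perm.isConj_iff_cycleType_eq.2 ((key b ho).trans (key δ₅ hod).symm)

theorem frame_facts :
    fF * zF * fF⁻¹ = zF ∧ fF * dF * fF⁻¹ = dF⁻¹ ∧ eF * zF * eF⁻¹ = zF⁻¹ ∧ eF * dF * eF⁻¹ = dF ∧
      tF * zF * tF⁻¹ = zF ∧ tF * dF * tF⁻¹ = dF ∧ zF * dF = dF * zF ∧ eF * eF = 1 ∧ fF * fF = 1 ∧
      tF * tF = 1 ∧ tF * eF = eF * tF ∧ tF * fF = fF * tF ∧ tF ≠ 1 := by
  refine ⟨?_, ?_, ?_, ?_, ?_, ?_, ?_, ?_, ?_, ?_, ?_, ?_, ?_⟩ <;> decide +kernel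

theorem frame_ne : dF ≠ 1 ∧ zF ≠ 1 ∧ dF ≠ zF ∧ dF ≠ zF⁻¹ := by
  refine ⟨?_, ?_, ?_, ?_⟩ <;> decide +kernel

theorem cent_frame_sq : ∀ k : KF, k * zF * k⁻¹ = zF → k * dF * k⁻¹ = dF → k * k = 1 →
    k = 1 ∨ k = tF := by
  decide +kernel

theorem invert_d : ∀ k : KF, k * zF * k⁻¹ = zF → k * dF * k⁻¹ = dF⁻¹ → k * k = 1 →
    ∃ j : Fin 3, dF ^ j.1 * k * (dF ^ j.1)⁻¹ = fF ∨ dF ^ j.1 * k * (dF ^ j.1)⁻¹ = fF * tF := by
  decide +kernel

theorem invert_z : ∀ k : KF, k * dF * k⁻¹ = dF → k * zF * k⁻¹ = zF⁻¹ → k * k = 1 →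
    ∃ l : Fin 3, zF ^ l.1 * k * (zF ^ l.1)⁻¹ = eF ∨ zF ^ l.1 * k * (zF ^ l.1)⁻¹ = eF * tF := by
  decide +kernel

theorem cent_frame_eF : ∀ k : KF, k * zF * k⁻¹ = zF → k * dF * k⁻¹ = dF →
    k * eF * k⁻¹ ≠ eF * tF := by
  decide +kernel

theorem adjust : ∀ j l : Fin 3, (zF ^ l.1 * dF ^ j.1) * zF * (zF ^ l.1 * dF ^ j.1)⁻¹ = zF ∧
    (zF ^ l.1 * dF ^ j.1) * dF * (zF ^ l.1 * dF ^ j.1)⁻¹ = dF ∧
    (zF ^ l.1 * dF ^ j.1) * tF * (zF ^ l.1 * dF ^ j.1)⁻¹ = tF ∧
    zF ^ l.1 * fF * (zF ^ l.1)⁻¹ = fF ∧ zF ^ l.1 * (fF * tF) * (zF ^ l.1)⁻¹ = fF * tF ∧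
    dF ^ j.1 * eF * (dF ^ j.1)⁻¹ = eF ∧ dF ^ j.1 * (eF * tF) * (dF ^ j.1)⁻¹ = eF * tF ∧
    zF ^ l.1 * dF ^ j.1 = dF ^ j.1 * zF ^ l.1 := by
  decide +kernel

theorem fst_conj_self (k : KF) : k * zF * k⁻¹ = zF ∨ k * zF * k⁻¹ = zF⁻¹ := by
  rcases perm_three_conj k.1 with h | h
  · refine Or.inl (Prod.ext h ?_)
    show k.2 * 1 * (k.2)⁻¹ = 1
    simp
  · refine Or.inr (Prod.ext h ?_)
    show k.2 * 1 * (k.2)⁻¹ = 1⁻¹
    simp

theorem eq_zF_of_normal {a : KF} (h3 : a ^ 3 = 1) (h1 : a ≠ 1)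
    (hn : ∀ k : KF, k * a * k⁻¹ = a ∨ k * a * k⁻¹ = a⁻¹) : a = zF ∨ a = zF⁻¹ := by
  have hb : a.2 = 1 := by
    refine perm_five_of_normalizes _ (congrArg Prod.snd h3) ?_
    rcases hn (1, c₅) with h | h
    · exact Or.inl (mul_inv_eq_iff_eq_mul.1 (congrArg Prod.snd h))
    · exact Or.inr (mul_inv_eq_iff_eq_mul.1 (congrArg Prod.snd h))
  rcases perm_three_of_cube a.1 (congrArg Prod.fst h3) with h | h | h
  · exact absurd (Prod.ext h hb) h1
  · exact Or.inl (Prod.ext h hb)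
  · exact Or.inr (Prod.ext h (hb.trans inv_one.symm))

theorem eq_mul_of_commute {p : KF} (h3 : p ^ 3 = 1) (hz : p * zF = zF * p)
    (hd : p * dF = dF * p) :
    ∃ i j : ℤ, p = zF ^ i * dF ^ j ∧ (i = 0 ∨ i = 1 ∨ i = -1) ∧ (j = 0 ∨ j = 1 ∨ j = -1) := by
  have ha := perm_three_commute p.1 (congrArg Prod.fst hz)
  have hb := perm_five_commute p.2 (congrArg Prod.snd h3) (congrArg Prod.snd hd)
  rcases ha with ha | ha | ha <;> rcases hb with hb | hb | hb
  · exact ⟨0, 0, Prod.ext (by rw [ha]; decide +kernel) (by rw [hb]; decide +kernel),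
      by omega, by omega⟩
  · exact ⟨0, 1, Prod.ext (by rw [ha]; decide +kernel) (by rw [hb]; decide +kernel),
      by omega, by omega⟩
  · exact ⟨0, -1, Prod.ext (by rw [ha]; decide +kernel) (by rw [hb]; decide +kernel),
      by omega, by omega⟩
  · exact ⟨1, 0, Prod.ext (by rw [ha]; decide +kernel) (by rw [hb]; decide +kernel),
      by omega, by omega⟩
  · exact ⟨1, 1, Prod.ext (by rw [ha]; decide +kernel) (by rw [hb]; decide +kernel),
      by omega, by omega⟩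
  · exact ⟨1, -1, Prod.ext (by rw [ha]; decide +kernel) (by rw [hb]; decide +kernel),
      by omega, by omega⟩
  · exact ⟨-1, 0, Prod.ext (by rw [ha]; decide +kernel) (by rw [hb]; decide +kernel),
      by omega, by omega⟩
  · exact ⟨-1, 1, Prod.ext (by rw [ha]; decide +kernel) (by rw [hb]; decide +kernel),
      by omega, by omega⟩
  · exact ⟨-1, -1, Prod.ext (by rw [ha]; decide +kernel) (by rw [hb]; decide +kernel),
      by omega, by omega⟩

variable {G : Type u} [Group G]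

theorem mem_normalizer_zpowers_of_conj {z n : G} (h : n * z * n⁻¹ = z ∨ n * z * n⁻¹ = z⁻¹) :
    n ∈ Subgroup.normalizer (Subgroup.zpowers z : Set G) := by
  rw [Subgroup.mem_normalizer_iff_map_conj_eq, MonoidHom.map_zpowers]
  have e : (MulAut.conj n : G →* G) z = n * z * n⁻¹ := rfl
  rw [e]
  rcases h with h | h <;> rw [h]
  exact Subgroup.zpowers_inv

theorem cent_inv_eq (x : G) :
    Subgroup.centralizer ({x⁻¹} : Set G) = Subgroup.centralizer ({x} : Set G) := by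
  ext a
  simp only [Subgroup.mem_centralizer_singleton_iff]
  exact ⟨fun h => (Commute.inv_right_iff.1 h).eq, fun h => (Commute.inv_right h).eq⟩

theorem mem_cent_conj {g x a : G} (h : a ∈ Subgroup.centralizer ({x} : Set G)) :
    g * a * g⁻¹ ∈ Subgroup.centralizer ({g * x * g⁻¹} : Set G) := by
  rw [Subgroup.mem_centralizer_singleton_iff] at h ⊢
  calc g * a * g⁻¹ * (g * x * g⁻¹) = g * (a * x) * g⁻¹ := by group
    _ = g * (x * a) * g⁻¹ := by rw [h]
    _ = g * x * g⁻¹ * (g * a * g⁻¹) := by group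

theorem card_cent_conj (g x : G) :
    Nat.card (Subgroup.centralizer ({g * x * g⁻¹} : Set G)) =
      Nat.card (Subgroup.centralizer ({x} : Set G)) := by
  refine (Nat.card_congr (Equiv.subtypeEquiv (MulAut.conj g).toEquiv fun a => ?_)).symm
  simp only [MulEquiv.toEquiv_eq_coe, MulEquiv.coe_toEquiv, MulAut.conj_apply]
  constructor
  · exact mem_cent_conj
  · intro h
    have h2 := mem_cent_conj (g := g⁻¹) h
    simpa [mul_assoc] using h2

/-- The normalised embedding of `KF`. -/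
theorem exists_frame [Finite G]
    (D : Subgroup G) (y z : G) (hgen : Subgroup.closure {y, z} = D)
    (hcomm : IsMulCommutative D) (hcard : Nat.card D = 9) (hexp : ∀ a ∈ D, a ^ 3 = 1)
    (eL : Subgroup.normalizer (Subgroup.zpowers z : Set G) ≃* KF) :
    ∃ ψ : KF →* G, Function.Injective ψ ∧
      ψ.range = Subgroup.normalizer (Subgroup.zpowers (ψ zF) : Set G) ∧
      (ψ zF = z ∨ ψ zF = z⁻¹) ∧ ψ zF ∈ D ∧ ψ dF ∈ D ∧
      ∀ x ∈ D, ∃ i j : ℤ, x = ψ zF ^ i * ψ dF ^ j ∧ (i = 0 ∨ i = 1 ∨ i = -1) ∧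
        (j = 0 ∨ j = 1 ∨ j = -1) := by
  have hc : ∀ a ∈ D, ∀ b ∈ D, a * b = b * a := fun a ha b hb =>
    congrArg Subtype.val (hcomm.is_comm.comm (⟨a, ha⟩ : D) ⟨b, hb⟩)
  have hyD : y ∈ D := hgen ▸ Subgroup.subset_closure (Or.inl rfl)
  have hzD : z ∈ D := hgen ▸ Subgroup.subset_closure (Or.inr rfl)
  have hnot : y ∉ Subgroup.zpowers z := fun h => by
    have hle : D ≤ Subgroup.zpowers z := by
      rw [← hgen, Subgroup.closure_le]
      rintro w (rfl | rfl)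
      · exact h
      · exact Subgroup.mem_zpowers _
    have h1 := Subgroup.card_le_of_le hle
    rw [Nat.card_zpowers, hcard] at h1
    have h2 := Nat.le_of_dvd (by norm_num) (orderOf_dvd_of_pow_eq_one (hexp z hzD))
    omega
  have hz1 : z ≠ 1 := fun h => by
    have hle : D ≤ Subgroup.zpowers y := by
      rw [← hgen, Subgroup.closure_le]
      rintro w (rfl | rfl)
      · exact Subgroup.mem_zpowers _
      · rw [h]; exact one_mem _
    have h1 := Subgroup.card_le_of_le hle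
    rw [Nat.card_zpowers, hcard] at h1
    have h2 := Nat.le_of_dvd (by norm_num) (orderOf_dvd_of_pow_eq_one (hexp y hyD))
    omega
  have hDL : ∀ x ∈ D, x ∈ Subgroup.normalizer (Subgroup.zpowers z : Set G) := fun x hx =>
    mem_normalizer_zpowers_of_conj (Or.inl (by rw [hc x hx z hzD, mul_inv_cancel_right]))
  let φ : KF →* G := (Subgroup.normalizer (Subgroup.zpowers z : Set G)).subtype.comp
    eL.symm.toMonoidHom
  have hφinj : Function.Injective φ := fun a b h => eL.symm.injective (Subtype.ext h)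
  have hφrange : φ.range = Subgroup.normalizer (Subgroup.zpowers z : Set G) := by
    ext x
    refine ⟨?_, fun hx => ⟨eL ⟨x, hx⟩, ?_⟩⟩
    · rintro ⟨k, rfl⟩
      exact (eL.symm k).2
    · show ((eL.symm (eL ⟨x, hx⟩) : Subgroup.normalizer (Subgroup.zpowers z : Set G)) : G) = x
      rw [eL.symm_apply_apply]
  obtain ⟨a, ha⟩ : z ∈ φ.range := by rw [hφrange]; exact hDL z hzD
  have ha3 : a ^ 3 = 1 := hφinj (by rw [map_pow, ha, hexp z hzD, map_one])
  have ha1 : a ≠ 1 := fun h => hz1 (by rw [← ha, h, map_one])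
  have han : ∀ k : KF, k * a * k⁻¹ = a ∨ k * a * k⁻¹ = a⁻¹ := fun k => by
    have hk : φ k ∈ Subgroup.normalizer (Subgroup.zpowers z : Set G) := hφrange ▸ ⟨k, rfl⟩
    rw [Subgroup.mem_normalizer_iff_map_conj_eq, MonoidHom.map_zpowers] at hk
    have hmem : φ k * z * (φ k)⁻¹ ∈ Subgroup.zpowers z :=
      (SetLike.ext_iff.1 hk _).1 (Subgroup.mem_zpowers _)
    obtain ⟨m, hm⟩ := hmem
    have hm' : z ^ m = φ k * z * (φ k)⁻¹ := hm
    have hz3 : z ^ (3 : ℤ) = 1 := by exact_mod_cast hexp z hzD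
    have hmod : z ^ m = z ^ (m % 3) := by
      conv_lhs => rw [← Int.emod_add_mul_ediv m 3]
      rw [zpow_add, zpow_mul, hz3, one_zpow, mul_one]
    have hlt : m % 3 = 0 ∨ m % 3 = 1 ∨ m % 3 = 2 := by omega
    rcases hlt with h | h | h
    · rw [hmod, h, zpow_zero] at hm'
      exact absurd (conj_eq_one_iff.1 hm'.symm) hz1
    · left
      refine hφinj ?_
      rw [map_mul, map_mul, map_inv, ha, ← hm', hmod, h, zpow_one]
    · right
      refine hφinj ?_
      rw [map_mul, map_mul, map_inv, map_inv, ha, ← hm', hmod, h, eq_inv_iff_mul_eq_one]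
      rw [← zpow_add_one]
      exact hz3
  have hzK : φ zF = z ∨ φ zF = z⁻¹ := by
    rcases eq_zF_of_normal ha3 ha1 han with h | h
    · exact Or.inl (h ▸ ha)
    · exact Or.inr (by rw [← ha, h, map_inv, inv_inv])
  have hzKD : φ zF ∈ D := by
    rcases hzK with h | h <;> rw [h]
    exacts [hzD, inv_mem hzD]
  obtain ⟨p, hp⟩ : y ∈ φ.range := by rw [hφrange]; exact hDL y hyD
  have hp3 : p ^ 3 = 1 := hφinj (by rw [map_pow, hp, hexp y hyD, map_one])
  have hpz : p * zF = zF * p := hφinj (by rw [map_mul, map_mul, hp]; exact hc _ hyD _ hzKD)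
  have hpa := perm_three_commute p.1 (congrArg Prod.fst hpz)
  obtain ⟨q, hqz, hq1⟩ : ∃ q : KF, φ q ∈ D ∧ q.1 = 1 ∧ q.2 = p.2 := by
    rcases hpa with h | h | h
    · exact ⟨p, hp ▸ hyD, h, rfl⟩
    · refine ⟨zF⁻¹ * p, by rw [map_mul, map_inv, hp]; exact mul_mem (inv_mem hzKD) hyD, ?_, ?_⟩
      · show (σ₃)⁻¹ * p.1 = 1
        rw [h, inv_mul_cancel]
      · show (1 : Perm (Fin 5))⁻¹ * p.2 = p.2
        rw [inv_one, one_mul]
    · refine ⟨zF * p, by rw [map_mul, hp]; exact mul_mem hzKD hyD, ?_, ?_⟩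
      · show σ₃ * p.1 = 1
        rw [h, mul_inv_cancel]
      · show (1 : Perm (Fin 5)) * p.2 = p.2
        rw [one_mul]
  have hb1 : p.2 ≠ 1 := fun h => hnot (by
    have hpzk : p = 1 ∨ p = zF ∨ p = zF⁻¹ := by
      rcases hpa with h' | h' | h'
      · exact Or.inl (Prod.ext h' h)
      · exact Or.inr (Or.inl (Prod.ext h' h))
      · exact Or.inr (Or.inr (Prod.ext h' (h.trans inv_one.symm)))
    have hzz : φ zF ∈ Subgroup.zpowers z := by
      rcases hzK with h' | h' <;> rw [h']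
      exacts [Subgroup.mem_zpowers z, inv_mem (Subgroup.mem_zpowers z)]
    rw [← hp]
    rcases hpzk with h' | h' | h' <;> rw [h']
    · rw [map_one]; exact one_mem _
    · exact hzz
    · rw [map_inv]; exact inv_mem hzz)
  obtain ⟨π, hπ⟩ := isConj_iff.1 (isConj_delta (congrArg Prod.snd hp3) hb1)
  obtain ⟨k, hk⟩ : ∃ k : KF, k * q * k⁻¹ = dF := by
    refine ⟨(1, π), Prod.ext ?_ ?_⟩
    · show 1 * q.1 * 1⁻¹ = 1
      rw [hq1.1, mul_one, mul_inv_cancel]
    · show π * q.2 * π⁻¹ = δ₅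
      rw [hq1.2, hπ]
  let ψ : KF →* G := φ.comp (MulAut.conj k⁻¹).toMonoidHom
  have hψd : ψ dF = φ q := by
    show φ (k⁻¹ * dF * k⁻¹⁻¹) = φ q
    rw [← hk]
    congr 1
    group
  have hψz : ψ zF = φ zF ∨ ψ zF = (φ zF)⁻¹ := by
    rcases fst_conj_self k⁻¹ with h | h
    · exact Or.inl (congrArg φ h)
    · exact Or.inr ((congrArg φ h).trans (map_inv φ zF))
  have hψzz : ψ zF = z ∨ ψ zF = z⁻¹ := by
    rcases hψz with h | h <;> rcases hzK with h' | h' <;> rw [h, h']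
    exacts [Or.inl rfl, Or.inr rfl, Or.inr rfl, Or.inl (inv_inv z)]
  have hψinj : Function.Injective ψ := hφinj.comp (MulAut.conj k⁻¹).injective
  have hψrange : ψ.range = Subgroup.normalizer (Subgroup.zpowers z : Set G) := by
    rw [← hφrange]
    ext x
    refine ⟨?_, ?_⟩
    · rintro ⟨c, rfl⟩
      exact ⟨k⁻¹ * c * k⁻¹⁻¹, rfl⟩
    · rintro ⟨c, rfl⟩
      refine ⟨k * c * k⁻¹, ?_⟩
      show φ (k⁻¹ * (k * c * k⁻¹) * k⁻¹⁻¹) = φ c
      congr 1
      group
  have hψzD : ψ zF ∈ D := by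
    rcases hψzz with h | h <;> rw [h]
    exacts [hzD, inv_mem hzD]
  have hψdD : ψ dF ∈ D := hψd ▸ hqz
  refine ⟨ψ, hψinj, ?_, hψzz, hψzD, hψdD, fun x hx => ?_⟩
  · rw [hψrange]
    rcases hψzz with h | h <;> rw [h]
    rw [Subgroup.zpowers_inv]
  obtain ⟨c, hc'⟩ : x ∈ ψ.range := by rw [hψrange]; exact hDL x hx
  obtain ⟨i, j, hij, hi, hj⟩ := eq_mul_of_commute (p := c)
    (hψinj (by rw [map_pow, hc', hexp x hx, map_one]))
    (hψinj (by rw [map_mul, map_mul, hc']; exact hc _ hx _ hψzD))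
    (hψinj (by rw [map_mul, map_mul, hc']; exact hc _ hx _ hψdD))
  exact ⟨i, j, by rw [← hc', hij, map_mul, map_zpow, map_zpow], hi, hj⟩

/-- Conjugation twice. -/
theorem conj_conj_eq {g a b x : G} (h : b * x * b⁻¹ = a) : g * a * g⁻¹ = g * b * x * (g * b)⁻¹ := by
  rw [← h]; group

end SetupAux

open SetupAux in
/-- The hypotheses of the characterisation give the data. -/
theorem exists_setup {G : Type u} [Group G] [Finite G]
    (P : Sylow 3 G) (D : Subgroup G) (hDP : D = P) (y z : G) (hgen : Subgroup.closure {y, z} = D)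
    (hcomm : IsMulCommutative D) (hcard : Nat.card D = 9) (hexp : ∀ a ∈ D, a ^ 3 = 1)
    [hcn : ((Subgroup.centralizer (D : Set G)).subgroupOf
      (Subgroup.normalizer (D : Set G))).Normal]
    (eNC : Subgroup.normalizer (D : Set G) ⧸ (Subgroup.centralizer (D : Set G)).subgroupOf
      (Subgroup.normalizer (D : Set G)) ≃* DihedralGroup 4)
    (hycard : Nat.card (Subgroup.centralizer ({y} : Set G)) = 36)
    (hysq : ∀ g ∈ Subgroup.centralizer ({y} : Set G), g ^ 2 ∈ D)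
    (eC : Subgroup.centralizer ({z} : Set G) ≃* Multiplicative (ZMod 3) × Equiv.Perm (Fin 5))
    (eL : Subgroup.normalizer (Subgroup.zpowers z : Set G) ≃*
      Equiv.Perm (Fin 3) × Equiv.Perm (Fin 5)) :
    Nonempty (Setup G) := by
  obtain ⟨ψ, hinj, hrange, hzz, hzD, hdD, hall⟩ :=
    exists_frame D y z hgen hcomm hcard hexp eL
  set Z := ψ zF with hZdef
  set E := ψ dF with hEdef
  let c : G → ℕ := fun x => Nat.card (Subgroup.centralizer ({x} : Set G))
  have hcinv : ∀ x, c x⁻¹ = c x := fun x => by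
    show Nat.card _ = Nat.card _
    rw [cent_inv_eq]
  have hcconj : ∀ g x, c (g * x * g⁻¹) = c x := card_cent_conj
  have hcz : c Z = 360 := by
    have h0 : c z = 360 := by
      show Nat.card (Subgroup.centralizer ({z} : Set G)) = 360
      rw [Nat.card_congr eC.toEquiv, Nat.card_prod, Nat.card_perm,
        Nat.card_congr Multiplicative.toAdd, Nat.card_zmod, Nat.card_fin]
      rfl
    rcases hzz with h | h <;> rw [h]
    exacts [h0, (hcinv z).trans h0]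
  have hyD : y ∈ D := hgen ▸ Subgroup.subset_closure (Or.inl rfl)
  have hcy : c y = 36 := hycard
  obtain ⟨fz, fd, ez, ed, tz, td, hzd, ee, ff, tt, te, tf, t1⟩ := frame_facts
  have Hc : ∀ {k a b : KF}, k * a * k⁻¹ = b → ψ k * ψ a * (ψ k)⁻¹ = ψ b := fun {k a b} h => by
    rw [← h, map_mul, map_mul, map_inv]
  have hfz : ψ fF * Z * (ψ fF)⁻¹ = Z := Hc fz
  have hfd : ψ fF * E * (ψ fF)⁻¹ = E⁻¹ := (Hc fd).trans (map_inv _ _)
  have hez : ψ eF * Z * (ψ eF)⁻¹ = Z⁻¹ := (Hc ez).trans (map_inv _ _)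
  have hed : ψ eF * E * (ψ eF)⁻¹ = E := Hc ed
  have hZE : Z * E = E * Z := by rw [hZdef, hEdef, ← map_mul, hzd, map_mul]
  have hE1 : E ≠ 1 := fun h =>
    absurd (hinj (h.trans (map_one ψ).symm)) frame_ne.1
  have hZ1 : Z ≠ 1 := fun h =>
    absurd (hinj (h.trans (map_one ψ).symm)) frame_ne.2.1
  -- an element centralising both generators centralises `D`
  have hmemC : ∀ n : G, n * Z * n⁻¹ = Z → n * E * n⁻¹ = E →
      n ∈ Subgroup.centralizer (D : Set G) := fun n h1 h2 => by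
    rw [Subgroup.mem_centralizer_iff]
    intro x hx
    obtain ⟨i, j, rfl, -, -⟩ := hall x hx
    have h1' : Commute n Z := mul_inv_eq_iff_eq_mul.1 h1
    have h2' : Commute n E := mul_inv_eq_iff_eq_mul.1 h2
    exact ((h1'.zpow_right i).mul_right (h2'.zpow_right j)).eq.symm
  -- an element with these two actions comes from the frame
  have hfrom : ∀ n : G, (n * Z * n⁻¹ = Z ∨ n * Z * n⁻¹ = Z⁻¹) → ∃ k : KF, ψ k = n := fun n h => by
    have : n ∈ ψ.range := by rw [hrange]; exact mem_normalizer_zpowers_of_conj h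
    exact this
  -- the classes of elements of `D`
  have hclass : ∀ x ∈ D, x = 1 ∨ (x = Z ∨ x = Z⁻¹) ∨ (x = E ∨ x = E⁻¹) ∨
      (x = Z * E ∨ x = Z * E⁻¹ ∨ x = Z⁻¹ * E ∨ x = Z⁻¹ * E⁻¹) := fun x hx => by
    obtain ⟨i, j, rfl, hi, hj⟩ := hall x hx
    rcases hi with rfl | rfl | rfl <;> rcases hj with rfl | rfl | rfl <;> simp
  have hfm : ψ fF * (Z * E⁻¹) * (ψ fF)⁻¹ = Z * E := by
    rw [← conj_mul, ← conj_inv, hfz, hfd, inv_inv]
  have hcm : Commute Z E := hZE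
  have hi1 : (Z⁻¹ * E)⁻¹ = Z * E⁻¹ := by
    rw [mul_inv_rev, inv_inv]; exact (hcm.inv_right).eq.symm
  have hi2 : (Z⁻¹ * E⁻¹)⁻¹ = Z * E := by
    rw [mul_inv_rev, inv_inv, inv_inv]; exact hZE.symm
  have hcdiag : c (Z * E⁻¹) = c (Z * E) ∧ c (Z⁻¹ * E) = c (Z * E) ∧
      c (Z⁻¹ * E⁻¹) = c (Z * E) := by
    have h1 : c (Z * E⁻¹) = c (Z * E) := by rw [← hcconj (ψ fF), hfm]
    refine ⟨h1, ?_, ?_⟩
    · rw [← hcinv, hi1]
      exact h1
    · rw [← hcinv, hi2]
  have hy1 : y ≠ 1 := fun h => by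
    have h1 : c y = Nat.card G := by
      show Nat.card (Subgroup.centralizer ({y} : Set G)) = Nat.card G
      have : Subgroup.centralizer ({y} : Set G) = ⊤ := by
        ext a; simp [Subgroup.mem_centralizer_singleton_iff, h]
      rw [this, Subgroup.card_top]
    have h2 : c Z ≤ Nat.card G := Nat.le_of_dvd Nat.card_pos
      (Subgroup.card_subgroup_dvd_card (Subgroup.centralizer ({Z} : Set G)))
    omega
  let N := Subgroup.normalizer (D : Set G)
  let C := Subgroup.centralizer (D : Set G)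
  have hconjD : ∀ n ∈ N, ∀ x ∈ D, n * x * n⁻¹ ∈ D := fun n hn x hx => by
    have h := Subgroup.mem_normalizer_iff_map_conj_eq.1 hn
    rw [← h]
    exact Subgroup.mem_map_of_mem _ hx
  have hψN : ∀ k : KF, (ψ k * Z * (ψ k)⁻¹ ∈ D ∧ ψ k * E * (ψ k)⁻¹ ∈ D) → ψ k ∈ N := fun k hk => by
    refine Subgroup.mem_normalizer_iff_map_conj_eq.2
      (Subgroup.eq_of_le_of_card_ge ?_ (le_of_eq ?_))
    · rintro _ ⟨x, hx, rfl⟩
      obtain ⟨i, j, rfl, -, -⟩ := hall x hx
      rw [map_mul, map_zpow, map_zpow]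
      exact mul_mem (zpow_mem hk.1 i) (zpow_mem hk.2 j)
    · exact (Nat.card_congr (D.equivMapOfInjective _ (MulAut.conj (ψ k)).injective).toEquiv)
  have hfN : ψ fF ∈ N := hψN _ ⟨hfz.symm ▸ hzD, hfd.symm ▸ inv_mem hdD⟩
  have heN : ψ eF ∈ N := hψN _ ⟨hez.symm ▸ inv_mem hzD, hed.symm ▸ hdD⟩
  have hpow8 : ∀ n ∈ N, n ^ 8 ∈ C := fun n hn => by
    have h : ((⟨n, hn⟩ : N) : N ⧸ C.subgroupOf N) ^ 8 = 1 := by
      refine eNC.injective ?_
      rw [map_pow, map_one]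
      exact (by decide +kernel : ∀ q : DihedralGroup 4, q ^ 8 = 1) _
    rw [← QuotientGroup.mk_pow, QuotientGroup.eq_one_iff] at h
    exact h
  -- some element of the normalizer moves the line of `Z`
  obtain ⟨n, hnN, hn⟩ : ∃ n ∈ N, ¬ (n * Z * n⁻¹ = Z ∨ n * Z * n⁻¹ = Z⁻¹) := by
    by_contra hno
    push Not at hno
    have hsq : ∀ n ∈ N, n ^ 2 ∈ C := fun n hn => by
      have hz2 : n * Z * n⁻¹ = Z ∨ n * Z * n⁻¹ = Z⁻¹ := hno n hn
      obtain ⟨k, hk⟩ := hfrom n hz2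
      have hd2 : n * E * n⁻¹ = E ∨ n * E * n⁻¹ = E⁻¹ := by
        obtain ⟨i, j, hij, hi, hj⟩ := hall _ (hconjD n hn E hdD)
        have hk2 : k * dF * k⁻¹ = zF ^ i * dF ^ j := hinj (by
          rw [map_mul, map_mul, map_inv, hk, map_mul, map_zpow, map_zpow]; exact hij)
        have hf : (zF ^ i * dF ^ j : KF).1 = 1 := by
          rw [← hk2]
          show k.1 * 1 * (k.1)⁻¹ = 1
          rw [mul_one, mul_inv_cancel]
        rcases hi with rfl | rfl | rfl <;> rcases hj with rfl | rfl | rfl <;>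
          first
          | exact absurd hf (by decide +kernel)
          | (left; simpa using hij)
          | (right; simpa using hij)
          | (rw [zpow_zero, zpow_zero, one_mul, conj_eq_one_iff] at hij; exact absurd hij hE1)
      have two : ∀ x : G, (n * x * n⁻¹ = x ∨ n * x * n⁻¹ = x⁻¹) → n ^ 2 * x * (n ^ 2)⁻¹ = x :=
        fun x hx => by
        have e : n ^ 2 * x * (n ^ 2)⁻¹ = n * (n * x * n⁻¹) * n⁻¹ := by
          simp only [pow_two, mul_inv_rev, mul_assoc]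
        rw [e]
        rcases hx with h | h
        · rw [h, h]
        · rw [h, ← conj_inv, h, inv_inv]
      exact hmemC _ (two Z hz2) (two E hd2)
    have hall2 : ∀ q : DihedralGroup 4, q ^ 2 = 1 := fun q => by
      obtain ⟨n, hn⟩ := QuotientGroup.mk'_surjective _ (eNC.symm q)
      have hn2 : ((n : N ⧸ C.subgroupOf N)) ^ 2 = 1 := by
        rw [← QuotientGroup.mk_pow, QuotientGroup.eq_one_iff]
        exact hsq n.1 n.2
      have hn' : (n : N ⧸ C.subgroupOf N) = eNC.symm q := hn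
      rw [hn'] at hn2
      have := congrArg eNC hn2
      rwa [map_pow, eNC.apply_symm_apply, map_one] at this
    exact absurd (hall2 (DihedralGroup.r 1)) (by decide +kernel)
  have hne : n * Z * n⁻¹ ≠ 1 := fun h => hZ1 (conj_eq_one_iff.1 h)
  -- the diagonal elements are not conjugate to `Z`
  have hdiag : c (Z * E) ≠ 360 := fun h360 => by
    obtain ⟨e1, e2, e3⟩ := hcdiag
    have hcE : c E ≠ 360 := fun hE => by
      rcases hclass y hyD with h | h | h | h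
      · exact hy1 h
      · rcases h with h | h <;> rw [h] at hcy
        · omega
        · rw [hcinv] at hcy; omega
      · rcases h with h | h <;> rw [h] at hcy
        · omega
        · rw [hcinv] at hcy; omega
      · rcases h with h | h | h | h <;> rw [h] at hcy <;> omega
    have himE : ∀ m ∈ N, m * E * m⁻¹ = E ∨ m * E * m⁻¹ = E⁻¹ := fun m hm => by
      have hc1 : c (m * E * m⁻¹) = c E := hcconj m E
      rcases hclass _ (hconjD m hm E hdD) with h | h | h | h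
      · exact absurd (conj_eq_one_iff.1 h) hE1
      · rcases h with h | h <;> rw [h] at hc1
        · omega
        · rw [hcinv] at hc1; omega
      · exact h
      · rcases h with h | h | h | h <;> rw [h] at hc1 <;> omega
    have hnd : n * Z * n⁻¹ = Z * E ∨ n * Z * n⁻¹ = Z * E⁻¹ ∨ n * Z * n⁻¹ = Z⁻¹ * E ∨
        n * Z * n⁻¹ = Z⁻¹ * E⁻¹ := by
      have hc1 : c (n * Z * n⁻¹) = 360 := (hcconj n Z).trans hcz
      rcases hclass _ (hconjD n hnN Z hzD) with h | h | h | h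
      · exact absurd h hne
      · exact absurd h hn
      · rcases h with h | h <;> rw [h] at hc1
        · exact absurd hc1 hcE
        · rw [hcinv] at hc1; exact absurd hc1 hcE
      · exact h
    -- adjust to `Z ↦ Z * E`, `E ↦ E`
    have step : ∀ (h m : G) (a b : G), h * a * h⁻¹ = b → m * Z * m⁻¹ = a →
        (h * m) * Z * (h * m)⁻¹ = b := fun h m a b e1 e2 => by
      rw [← e1, ← e2]; group
    obtain ⟨m, hmN, hm⟩ : ∃ m ∈ N, m * Z * m⁻¹ = Z * E := by
      rcases hnd with h | h | h | h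
      · exact ⟨n, hnN, h⟩
      · exact ⟨_, mul_mem hfN hnN, step _ _ _ _ hfm h⟩
      · refine ⟨_, mul_mem heN hnN, step _ _ _ _ ?_ h⟩
        rw [← conj_mul, ← conj_inv, hez, hed, inv_inv]
      · refine ⟨_, mul_mem (mul_mem heN hfN) hnN, step _ _ _ _ ?_ h⟩
        calc ψ eF * ψ fF * (Z⁻¹ * E⁻¹) * (ψ eF * ψ fF)⁻¹
            = ψ eF * (ψ fF * (Z⁻¹ * E⁻¹) * (ψ fF)⁻¹) * (ψ eF)⁻¹ := by group
          _ = Z * E := by
            rw [← conj_mul (a := Z⁻¹), ← conj_inv (a := Z), ← conj_inv (a := E), hfz, hfd, inv_inv,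
              ← conj_mul, ← conj_inv, hez, hed, inv_inv]
    obtain ⟨m, hmN, hmz, hme⟩ : ∃ m ∈ N, m * Z * m⁻¹ = Z * E ∧ m * E * m⁻¹ = E := by
      rcases himE m hmN with h | h
      · exact ⟨m, hmN, hm, h⟩
      · refine ⟨m * ψ fF, mul_mem hmN hfN, ?_, ?_⟩
        · calc m * ψ fF * Z * (m * ψ fF)⁻¹ = m * (ψ fF * Z * (ψ fF)⁻¹) * m⁻¹ := by group
            _ = Z * E := by rw [hfz, hm]
        · calc m * ψ fF * E * (m * ψ fF)⁻¹ = m * (ψ fF * E * (ψ fF)⁻¹) * m⁻¹ := by group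
            _ = E := by rw [hfd, ← conj_inv, h, inv_inv]
    have hE3 : E ^ 3 = 1 := hexp E hdD
    have hm3 : m ^ 3 ∈ C := by
      refine hmemC _ ?_ ?_
      · calc m ^ 3 * Z * (m ^ 3)⁻¹ = m * (m * (m * Z * m⁻¹) * m⁻¹) * m⁻¹ := by
              simp only [pow_succ, pow_zero, one_mul, mul_inv_rev, mul_assoc]
          _ = Z * E * E * E := by simp only [hmz, ← conj_mul, hme]
          _ = Z * E ^ 3 := by simp only [pow_succ, pow_zero, one_mul, mul_assoc]
          _ = Z := by rw [hE3, mul_one]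
      · calc m ^ 3 * E * (m ^ 3)⁻¹ = m * (m * (m * E * m⁻¹) * m⁻¹) * m⁻¹ := by
              simp only [pow_succ, pow_zero, one_mul, mul_inv_rev, mul_assoc]
          _ = E := by rw [hme, hme, hme]
    have hmC : m ∈ C := by
      have e : m = (m ^ 3) ^ 3 * (m ^ 8)⁻¹ := by group
      rw [e]
      exact mul_mem (pow_mem hm3 3) (inv_mem (hpow8 m hmN))
    have : Z * m = m * Z := Subgroup.mem_centralizer_iff.1 hmC Z hzD
    rw [← this, mul_inv_cancel_right] at hmz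
    exact hE1 (mul_eq_left.1 hmz.symm)
  obtain ⟨e1, e2, e3⟩ := hcdiag
  have hnd : n * Z * n⁻¹ = E ∨ n * Z * n⁻¹ = E⁻¹ := by
    have hc1 : c (n * Z * n⁻¹) = 360 := (hcconj n Z).trans hcz
    rcases hclass _ (hconjD n hnN Z hzD) with h | h | h | h
    · exact absurd h hne
    · exact absurd h hn
    · exact h
    · rcases h with h | h | h | h <;> rw [h] at hc1 <;> omega
  have hcE : c E = 360 := by
    have hc1 : c (n * Z * n⁻¹) = 360 := (hcconj n Z).trans hcz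
    rcases hnd with h | h <;> rw [h] at hc1
    · exact hc1
    · rwa [hcinv] at hc1
  obtain ⟨g₁, hg₁N, hg₁⟩ : ∃ g ∈ N, g * Z * g⁻¹ = E := by
    rcases hnd with h | h
    · exact ⟨n, hnN, h⟩
    · refine ⟨ψ fF * n, mul_mem hfN hnN, ?_⟩
      calc ψ fF * n * Z * (ψ fF * n)⁻¹ = ψ fF * (n * Z * n⁻¹) * (ψ fF)⁻¹ := by group
        _ = E := by rw [h, ← conj_inv, hfd, inv_inv]
  have hg₁E : g₁ * E * g₁⁻¹ = Z ∨ g₁ * E * g₁⁻¹ = Z⁻¹ := by
    have hc1 : c (g₁ * E * g₁⁻¹) = 360 := (hcconj g₁ E).trans hcE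
    have inj : ∀ a b : G, g₁ * a * g₁⁻¹ = g₁ * b * g₁⁻¹ → a = b := fun a b h =>
      mul_left_cancel (mul_right_cancel h)
    rcases hclass _ (hconjD g₁ hg₁N E hdD) with h | h | h | h
    · exact absurd (conj_eq_one_iff.1 h) hE1
    · exact h
    · rcases h with h | h
      · exact absurd (hinj (inj E Z (h.trans hg₁.symm))) frame_ne.2.2.1
      · exact absurd (hinj ((inj E Z⁻¹ (h.trans (by rw [← conj_inv, hg₁]))).trans
          (map_inv ψ zF).symm)) frame_ne.2.2.2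
    · rcases h with h | h | h | h <;> rw [h] at hc1 <;> omega
  obtain ⟨g₀, hgz, hgd⟩ : ∃ g : G, g * Z * g⁻¹ = E ∧ g * E * g⁻¹ = Z := by
    rcases hg₁E with h | h
    · exact ⟨g₁, hg₁, h⟩
    · refine ⟨ψ eF * g₁, ?_, ?_⟩
      · calc ψ eF * g₁ * Z * (ψ eF * g₁)⁻¹ = ψ eF * (g₁ * Z * g₁⁻¹) * (ψ eF)⁻¹ := by group
          _ = E := by rw [hg₁, hed]
      · calc ψ eF * g₁ * E * (ψ eF * g₁)⁻¹ = ψ eF * (g₁ * E * g₁⁻¹) * (ψ eF)⁻¹ := by group
          _ = Z := by rw [h, ← conj_inv, hez, inv_inv]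
  -- the actions of the conjugates of frame elements
  have hconjg : ∀ (k : KF) (a b a' b' : G), g₀ * a * g₀⁻¹ = a' → g₀ * b * g₀⁻¹ = b' →
      ψ k * a * (ψ k)⁻¹ = b → (g₀ * ψ k * g₀⁻¹) * a' * (g₀ * ψ k * g₀⁻¹)⁻¹ = b' :=
    fun k a b a' b' h1 h2 h3 => by rw [← h1, ← h2, ← h3]; group
  have hginv : ∀ a a' : G, g₀ * a * g₀⁻¹ = a' → g₀ * a⁻¹ * g₀⁻¹ = a'⁻¹ := fun a a' h => by
    rw [← conj_inv, h]
  have hsqg : ∀ k : KF, k * k = 1 → (g₀ * ψ k * g₀⁻¹) * (g₀ * ψ k * g₀⁻¹) = 1 := fun k h => by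
    rw [show g₀ * ψ k * g₀⁻¹ * (g₀ * ψ k * g₀⁻¹) = g₀ * (ψ k * ψ k) * g₀⁻¹ by group,
      ← map_mul, h, map_one, mul_one, mul_inv_cancel]
  obtain ⟨kt, hkt⟩ := hfrom (g₀ * ψ tF * g₀⁻¹)
    (Or.inl (hconjg tF E E Z Z hgd hgd (Hc td)))
  obtain ⟨ke, hke⟩ := hfrom (g₀ * ψ eF * g₀⁻¹) (Or.inl (hconjg eF E E Z Z hgd hgd hed))
  obtain ⟨kf, hkf⟩ := hfrom (g₀ * ψ fF * g₀⁻¹)
    (Or.inr (hconjg fF E E⁻¹ Z Z⁻¹ hgd (hginv _ _ hgd) hfd))
  have hkt' : kt = tF := by
    have h := cent_frame_sq kt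
      (hinj (by rw [map_mul, map_mul, map_inv, hkt]; exact hconjg tF E E Z Z hgd hgd (Hc td)))
      (hinj (by rw [map_mul, map_mul, map_inv, hkt]; exact hconjg tF Z Z E E hgz hgz (Hc tz)))
      (hinj (by rw [map_mul, map_one, hkt]; exact hsqg _ tt))
    refine h.resolve_left fun h1 => t1 (hinj ?_)
    rw [h1, map_one] at hkt
    rw [map_one]
    exact conj_eq_one_iff.1 hkt.symm
  have hgt : g₀ * ψ tF * g₀⁻¹ = ψ tF := by rw [← hkt, hkt']
  obtain ⟨j, hj⟩ := invert_d ke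
    (hinj (by rw [map_mul, map_mul, map_inv, hke]; exact hconjg eF E E Z Z hgd hgd hed))
    (hinj (by
      rw [map_mul, map_mul, map_inv, map_inv, hke]
      exact hconjg eF Z Z⁻¹ E E⁻¹ hgz (hginv _ _ hgz) hez))
    (hinj (by rw [map_mul, map_one, hke]; exact hsqg _ ee))
  obtain ⟨l, hl⟩ := invert_z kf
    (hinj (by rw [map_mul, map_mul, map_inv, hkf]; exact hconjg fF Z Z E E hgz hgz hfz))
    (hinj (by
      rw [map_mul, map_mul, map_inv, map_inv, hkf]
      exact hconjg fF E E⁻¹ Z Z⁻¹ hgd (hginv _ _ hgd) hfd))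
    (hinj (by rw [map_mul, map_one, hkf]; exact hsqg _ ff))
  obtain ⟨az, ad, atF, af, aft, ae, aet, acomm⟩ := adjust j l
  set w : KF := zF ^ l.1 * dF ^ j.1 with hw
  set g : G := ψ w * g₀ with hg
  have move : ∀ a : G, g * a * g⁻¹ = ψ w * (g₀ * a * g₀⁻¹) * (ψ w)⁻¹ := fun a => by
    rw [hg]; group
  have gz : g * Z * g⁻¹ = E := by rw [move, hgz]; exact Hc ad
  have gd : g * E * g⁻¹ = Z := by rw [move, hgd]; exact Hc az
  have gt : g * ψ tF * g⁻¹ = ψ tF := by rw [move, hgt]; exact Hc atF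
  have hwe : ∀ a : KF, dF ^ j.1 * ke * (dF ^ j.1)⁻¹ = a → zF ^ l.1 * a * (zF ^ l.1)⁻¹ = a →
      g * ψ eF * g⁻¹ = ψ a := fun a h1 h2 => by
    rw [move, ← hke]
    refine Hc ?_
    rw [hw]
    calc zF ^ l.1 * dF ^ j.1 * ke * (zF ^ l.1 * dF ^ j.1)⁻¹
        = zF ^ l.1 * (dF ^ j.1 * ke * (dF ^ j.1)⁻¹) * (zF ^ l.1)⁻¹ := by group
      _ = a := by rw [h1, h2]
  have hwf : ∀ a : KF, zF ^ l.1 * kf * (zF ^ l.1)⁻¹ = a → dF ^ j.1 * a * (dF ^ j.1)⁻¹ = a →
      g * ψ fF * g⁻¹ = ψ a := fun a h1 h2 => by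
    rw [move, ← hkf]
    refine Hc ?_
    rw [acomm]
    calc dF ^ j.1 * zF ^ l.1 * kf * (dF ^ j.1 * zF ^ l.1)⁻¹
        = dF ^ j.1 * (zF ^ l.1 * kf * (zF ^ l.1)⁻¹) * (dF ^ j.1)⁻¹ := by group
      _ = a := by rw [h1, h2]
  -- the square of `g` fixes the frame, which excludes the mixed cases
  have mixed : g * g * ψ eF * (g * g)⁻¹ ≠ ψ (eF * tF) := fun h => by
    have hz2 : g * g * Z * (g * g)⁻¹ = Z := by rw [← conj_conj_eq gz, gd]
    have hd2 : g * g * E * (g * g)⁻¹ = E := by rw [← conj_conj_eq gd, gz]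
    obtain ⟨k, hk⟩ := hfrom (g * g) (Or.inl hz2)
    refine cent_frame_eF k (hinj ?_) (hinj ?_) (hinj ?_)
    · rw [map_mul, map_mul, map_inv, hk]; exact hz2
    · rw [map_mul, map_mul, map_inv, hk]; exact hd2
    · rw [map_mul, map_mul, map_inv, hk]; exact h
  have hcases : (g * ψ eF * g⁻¹ = ψ fF ∧ g * ψ fF * g⁻¹ = ψ eF) ∨
      (g * ψ eF * g⁻¹ = ψ (fF * tF) ∧ g * ψ fF * g⁻¹ = ψ (eF * tF)) := by
    rcases hj with hj | hj <;> rcases hl with hl | hl
    · exact Or.inl ⟨hwe _ hj af, hwf _ hl ae⟩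
    · exfalso
      refine mixed ?_
      rw [← conj_conj_eq (hwe _ hj af), hwf _ hl aet]
    · exfalso
      refine mixed ?_
      rw [← conj_conj_eq (hwe _ hj aft), map_mul, ← conj_mul, hwf _ hl ae, gt, ← map_mul]
    · exact Or.inr ⟨hwe _ hj aft, hwf _ hl aet⟩
  have hclo : Subgroup.closure ({Z, E} : Set G) = D := by
    refine le_antisymm ((Subgroup.closure_le _).2 ?_) fun x hx => ?_
    · rintro _ (rfl | rfl)
      exacts [hzD, hdD]
    · obtain ⟨i, i', rfl, -, -⟩ := hall x hx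
      have hZc : Z ∈ Subgroup.closure ({Z, E} : Set G) := Subgroup.subset_closure (Or.inl rfl)
      have hEc : E ∈ Subgroup.closure ({Z, E} : Set G) := Subgroup.subset_closure (Or.inr rfl)
      exact mul_mem (zpow_mem hZc i) (zpow_mem hEc i')
  have hyd : c (Z * E) = 36 ∧ ∀ x ∈ Subgroup.centralizer ({Z * E} : Set G), x ^ 2 ∈ D := by
    have hA : y = Z * E ∨ y = Z * E⁻¹ ∨ y = (Z * E⁻¹)⁻¹ ∨ y = (Z * E)⁻¹ := by
      rcases hclass y hyD with h | h | h | h
      · exact absurd h hy1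
      · rcases h with h | h <;> rw [h] at hcy
        · omega
        · rw [hcinv] at hcy; omega
      · rcases h with h | h <;> rw [h] at hcy
        · omega
        · rw [hcinv] at hcy; omega
      · rcases h with h | h | h | h
        · exact Or.inl h
        · exact Or.inr (Or.inl h)
        · exact Or.inr (Or.inr (Or.inl (by rw [h, ← hi1, inv_inv])))
        · exact Or.inr (Or.inr (Or.inr (by rw [h, ← hi2, inv_inv])))
    have hC1 : Subgroup.centralizer ({y} : Set G) = Subgroup.centralizer ({Z * E} : Set G) ∨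
        Subgroup.centralizer ({y} : Set G) = Subgroup.centralizer ({Z * E⁻¹} : Set G) := by
      rcases hA with h | h | h | h <;> rw [h]
      · exact Or.inl rfl
      · exact Or.inr rfl
      · exact Or.inr (cent_inv_eq _)
      · exact Or.inl (cent_inv_eq _)
    rcases hC1 with h | h
    · exact ⟨by show Nat.card _ = 36; rw [← h]; exact hycard,
        fun x hx => hysq x (by rw [h]; exact hx)⟩
    · refine ⟨by show c (Z * E) = 36; rw [← e1]; show Nat.card _ = 36; rw [← h]; exact hycard,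
        fun x hx => ?_⟩
      have hx' : (ψ fF)⁻¹ * x * (ψ fF)⁻¹⁻¹ ∈ Subgroup.centralizer ({Z * E⁻¹} : Set G) := by
        have := mem_cent_conj (g := (ψ fF)⁻¹) hx
        rwa [← hfm, show (ψ fF)⁻¹ * (ψ fF * (Z * E⁻¹) * (ψ fF)⁻¹) * (ψ fF)⁻¹⁻¹ = Z * E⁻¹ by
          group] at this
      have h2 := hconjD _ hfN _ (hysq _ (h ▸ hx'))
      rwa [show ψ fF * ((ψ fF)⁻¹ * x * (ψ fF)⁻¹⁻¹) ^ 2 * (ψ fF)⁻¹ = x ^ 2 by
        simp only [pow_two]; group] at h2
  refine ⟨{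
    ψ := ψ, inj := hinj, range_eq := hrange, g := g, g_z := gz, g_d := gd, g_t := gt
    card_y := hyd.1, sq_y := fun x hx => hclo.symm ▸ hyd.2 x hx
    not_dvd := ?_, cases_e := hcases }⟩
  intro h27
  have hP : Nat.card (P : Subgroup G) = 3 ^ (Nat.card G).factorization 3 :=
    P.card_eq_multiplicity
  rw [← hDP, hcard] at hP
  have h3 : 3 ≤ (Nat.card G).factorization 3 :=
    (Nat.prime_three.pow_dvd_iff_le_factorization Nat.card_pos.ne').1 h27
  have h4 : (3 : ℕ) ^ 3 ≤ 3 ^ (Nat.card G).factorization 3 :=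
    Nat.pow_le_pow_right (by norm_num) h3
  omega

end CfsgLib.SEightThree
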