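import Cfsg.Agent.Lib.SEightThree.CentVStruct

/-!
The centralizer of the four-group: the conclusions.
-/

set_option autoImplicit false
set_option linter.style.haveILetI false
set_option linter.unusedSectionVars false
set_option maxRecDepth 100000

namespace CfsgLib.SEightThree

open Subgroup Equiv

universe u

theorem pair_gen : ∀ k : KF, k * zF = zF * k → k * (zF * dF) = zF * dF * k → k * dF = dF * k := by
  intro k h1 h2
  refine mul_left_cancel (a := zF) ?_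
  rw [← mul_assoc, ← h1, mul_assoc, h2, mul_assoc]

variable {G : Type u} [Group G] (S : Setup G)

namespace Setup

theorem range_centV_d {k : KF} (hV : S.ψ k ∈ centralizer (S.V : Set G))
    (hd : S.ψ k * S.ψ dF = S.ψ dF * S.ψ k) : k = (k.1, 1) := by
  have h := S.mem_centV_iff.1 hV
  exact Prod.ext rfl ((centV_decide k (S.comm_of_map h.1) (S.comm_of_map h.2)).2 (S.comm_of_map hd))

variable [Finite G]

theorem not_range_of_five {x : G} (hx : x ∈ centralizer (S.V : Set G))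
    (hxd : x * S.ψ dF = S.ψ dF * x) (h5 : x ^ 5 = 1) (h1 : x ≠ 1) : x ∉ S.ψ.range := by
  rintro ⟨k, rfl⟩
  have h := S.mem_centV_iff.1 hx
  refine h1 ((pow_eq_one_iff_of_coprime (show (6 : ℕ).Coprime 5 by decide)).1 ⟨?_, h5⟩)
  rw [← map_pow, (centV_decide k (S.comm_of_map h.1) (S.comm_of_map h.2)).1, map_one]

namespace Compl

variable {S}

theorem d_conj (Q : S.Compl) {w : G} (hw : w ∈ Q.W) : S.ψ dF * w * (S.ψ dF)⁻¹ ∈ Q.W :=
  Q.conj _ (fun _ hx => S.d_conj_centV hx) w hw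

theorem inner_conj (Q : S.Compl) {c w : G} (hc : c ∈ centralizer (S.V : Set G)) (hw : w ∈ Q.W) :
    c * w * c⁻¹ ∈ Q.W :=
  Q.conj c (fun _ hx => mul_mem (mul_mem hc hx) (inv_mem hc)) w hw

theorem pow_card (Q : S.Compl) {w : G} (hw : w ∈ Q.W) : w ^ Nat.card Q.W = 1 :=
  congrArg Subtype.val (pow_card_eq_one' (x := (⟨w, hw⟩ : Q.W)))

theorem coprime_card (Q : S.Compl) {n : ℕ} (j : ℕ) (hn : n = 3 ^ j) :
    n.Coprime (Nat.card Q.W) := by
  rw [hn]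
  exact Nat.Coprime.pow_left j ((Nat.Prime.coprime_iff_not_dvd Nat.prime_three).2 Q.three)

/-- The elements of `W` centralizing a diagonal element are trivial. -/
theorem cent_zd (Q : S.Compl) {u : G} (hu : u ∈ Q.W)
    (hc : u * (S.ψ zF * S.ψ dF) = S.ψ zF * S.ψ dF * u) : u = 1 := by
  have hz : S.ψ zF ∈ S.D := subset_closure (Or.inl rfl)
  have hzy : S.ψ zF * (S.ψ zF * S.ψ dF) = S.ψ zF * S.ψ dF * S.ψ zF := by
    rw [mul_assoc, ← S.map_comm facts_comm.1]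
  have hy : u ∈ centralizer ({S.ψ zF * S.ψ dF} : Set G) := mem_centralizer_singleton_iff.2 hc
  have hzc : S.ψ zF ∈ centralizer ({S.ψ zF * S.ψ dF} : Set G) :=
    mem_centralizer_singleton_iff.2 hzy
  -- `u` normalizes `D`
  have hmem : u * (S.ψ zF)⁻¹ * u⁻¹ ∈ S.D := by
    have hsq := S.sq_y (u * S.ψ zF * u⁻¹) (mul_mem (mul_mem hy hzc) (inv_mem hy))
    have he : u * (S.ψ zF)⁻¹ * u⁻¹ = (u * S.ψ zF * u⁻¹) ^ 2 := by
      have h3 : S.ψ zF * S.ψ zF = (S.ψ zF)⁻¹ := eq_inv_of_mul_eq_one_left (by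
        rw [← pow_two, ← pow_succ, ← map_pow, facts_comm.2.2.2.2.2.2.2.1, map_one])
      rw [← h3, pow_two]; group
    rw [he]; exact hsq
  have hcomm1 : S.ψ zF * (u * (S.ψ zF)⁻¹ * u⁻¹) ∈ S.D := mul_mem hz hmem
  have hcomm2 : S.ψ zF * u * (S.ψ zF)⁻¹ * u⁻¹ ∈ Q.W :=
    mul_mem (Q.inner_conj S.z_mem_centV hu) (inv_mem hu)
  have h1 : S.ψ zF * u * (S.ψ zF)⁻¹ * u⁻¹ = 1 := by
    have hD : (S.ψ zF * u * (S.ψ zF)⁻¹ * u⁻¹) ^ 9 = 1 := by
      have h := pow_card_eq_one' (x := (⟨_, hcomm1⟩ : S.D))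
      rw [S.card_D] at h
      simpa [mul_assoc] using congrArg Subtype.val h
    exact (pow_eq_one_iff_of_coprime (Q.coprime_card 2 rfl)).1 ⟨hD, Q.pow_card hcomm2⟩
  have huz : u * S.ψ zF = S.ψ zF * u := by
    calc u * S.ψ zF = (S.ψ zF * u * (S.ψ zF)⁻¹ * u⁻¹) * u * S.ψ zF := by rw [h1, one_mul]
      _ = S.ψ zF * u := by group
  obtain ⟨k, rfl⟩ := S.cent_z_le (mem_centralizer_singleton_iff.2 huz)
  have hd : k * dF = dF * k := pair_gen k (S.comm_of_map huz)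
    (S.comm_of_map (by rw [map_mul]; exact hc))
  have hk := S.range_centV_d (Q.le hu) (S.map_comm hd)
  rw [hk] at hu ⊢
  rw [Q.left _ hu, Prod.mk_one_one, map_one]

theorem cent_zd' (Q : S.Compl) {u : G} (hu : u ∈ Q.W)
    (hc : u * (S.ψ zF * (S.ψ dF)⁻¹) = S.ψ zF * (S.ψ dF)⁻¹ * u) : u = 1 := by
  have hcc : Commute u (S.ψ (zF * dF⁻¹)) := by rw [map_mul, map_inv]; exact hc
  have he : S.ψ eF * S.ψ (zF * dF⁻¹) * (S.ψ eF)⁻¹ = (S.ψ (zF * dF))⁻¹ := by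
    exact (S.map_conj small_facts.2.2.2.2.2.2.2.2.2.2.2).trans (map_inv _ _)
  have h2 : Commute (S.ψ eF * u * (S.ψ eF)⁻¹) (S.ψ (zF * dF))⁻¹ := by
    rw [← he]
    exact hcc.conj (S.ψ eF)
  have h3 : Commute (S.ψ eF * u * (S.ψ eF)⁻¹) (S.ψ zF * S.ψ dF) := by
    rw [← map_mul]; exact Commute.inv_right_iff.1 h2
  exact conj_eq_one_iff.1 (Q.cent_zd (Q.inner_conj S.e_mem_centV hu) h3.eq)

/-- The elements of `W` centralizing `z` lie in `V`. -/
theorem cent_z (Q : S.Compl) {u : G} (hu : u ∈ Q.W) (hc : u * S.ψ zF = S.ψ zF * u) : u ∈ S.V := by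
  obtain ⟨k, rfl⟩ := S.cent_z_le (mem_centralizer_singleton_iff.2 hc)
  have hk := S.mem_centV_iff.1 (Q.le hu)
  obtain ⟨i, v, hv, rfl⟩ := cent_zV k (S.comm_of_map hk.1) (S.comm_of_map hk.2) (S.comm_of_map hc)
  have hvV := S.ψ_V4_mem hv
  rw [map_mul] at hu ⊢
  have hzi : S.ψ (zF ^ i.1) ∈ Q.W := by
    simpa using mul_mem hu (inv_mem (Q.V_le hvV))
  rw [show zF ^ i.1 = ((swap 0 1 * swap 1 2 : Perm (Fin 3)) ^ i.1, (1 : Perm (Fin 5))) from
    Prod.ext rfl (one_pow _)] at hzi ⊢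
  rw [Q.left _ hzi, Prod.mk_one_one, map_one, one_mul]
  exact hvV

/-- `W` is generated by the centralizers of the nontrivial elements of `D`. -/
theorem W_le (Q : S.Compl) (R : Subgroup G) (hV : S.V ≤ R)
    (hd : ∀ w ∈ Q.W, w * S.ψ dF = S.ψ dF * w → w ∈ R) : Q.W ≤ R := by
  classical
  have hcomm : IsMulCommutative S.D := ⟨⟨by
    rintro ⟨a, ha⟩ ⟨b, hb⟩
    obtain ⟨i, j, rfl⟩ := S.mem_D_iff.1 ha
    obtain ⟨i', j', rfl⟩ := S.mem_D_iff.1 hb
    refine Subtype.ext (S.map_comm ?_)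
    have hzd : Commute zF dF := facts_comm.1
    exact (((Commute.refl zF).pow_pow _ _).mul_right (hzd.pow_pow _ _)).mul_left
      ((hzd.symm.pow_pow _ _).mul_right ((Commute.refl dF).pow_pow _ _))⟩⟩
  haveI := hcomm
  have hexp : ∀ a : S.D, a ^ 3 = 1 := by
    rintro ⟨a, ha⟩
    obtain ⟨i, j, rfl⟩ := S.mem_D_iff.1 ha
    refine Subtype.ext ?_
    show S.ψ (zF ^ i.1 * dF ^ j.1) ^ 3 = 1
    rw [← map_pow, ((Commute.pow_pow facts_comm.1 _ _) : Commute (zF ^ i.1) (dF ^ j.1)).mul_pow,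
      ← pow_mul, ← pow_mul, mul_comm i.1, mul_comm j.1, pow_mul, pow_mul,
      facts_comm.2.2.2.2.2.2.2.1, facts_comm.2.2.2.2.2.2.2.2.1, one_pow, one_pow, one_mul, map_one]
  have hnc : ¬ IsCyclic S.D := fun h => by
    haveI := h
    have h1 : Nat.card S.D ∣ 3 := IsCyclic.exponent_eq_card (α := S.D) ▸
      Monoid.exponent_dvd_of_forall_pow_eq_one hexp
    rw [S.card_D] at h1
    norm_num at h1
  have hn : ∀ n : G, (∀ w ∈ Q.W, n * w * n⁻¹ ∈ Q.W) → n ∈ normalizer (Q.W : Set G) := fun n h => by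
    refine mem_normalizer_iff_map_conj_eq.2 (eq_of_le_of_card_ge ?_
      (le_of_eq (card_map_of_injective (MulAut.conj n).injective).symm))
    rintro _ ⟨w, hw, rfl⟩
    exact h w hw
  have hDn : S.D ≤ normalizer (Q.W : Set G) := (closure_le _).2 (by
    rintro _ (rfl | rfl)
    exacts [hn _ fun w hw => Q.inner_conj S.z_mem_centV hw, hn _ fun w hw => Q.d_conj hw])
  refine CfsgLib.Coprime.le_of_centralizer_le_of_not_isCyclic (A := S.D) (K := Q.W) (R := R) hnc hDn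
    (S.card_D ▸ Q.coprime_card 2 rfl) ?_
  intro a ha ha1 w hw
  obtain ⟨i, j, rfl⟩ := S.mem_D_iff.1 ha
  obtain ⟨hwW, hwa⟩ := hw
  have hwa : Commute w (S.ψ (zF ^ i.1 * dF ^ j.1)) := mem_centralizer_singleton_iff.1 hwa
  have hne : zF ^ i.1 * dF ^ j.1 ≠ 1 := fun h => ha1 (by rw [h, map_one])
  have inv2 : ∀ {k : KF}, k ^ 3 = 1 → Commute w (S.ψ (k ^ 2)) → Commute w (S.ψ k) := fun {k} hk h =>
    by
      rw [show k ^ 2 = k⁻¹ from eq_inv_of_mul_eq_one_left (by rw [← pow_succ]; exact hk), map_inv] at h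
      exact Commute.inv_right_iff.1 h
  rcases dF_pows i j hne with ⟨rfl, rfl⟩ | ⟨rfl, rfl⟩ | ⟨rfl, rfl⟩ | ⟨rfl, rfl⟩ | h | h | h | h
  · exact hV (Q.cent_z hwW (Commute.eq (by simpa using hwa)))
  · exact hV (Q.cent_z hwW (inv2 facts_comm.2.2.2.2.2.2.2.1 (by simpa using hwa)).eq)
  · exact hd w hwW (Commute.eq (by simpa using hwa))
  · exact hd w hwW (inv2 facts_comm.2.2.2.2.2.2.2.2.1 (by simpa using hwa)).eq
  · rw [h, map_mul] at hwa; rw [Q.cent_zd hwW hwa.eq]; exact one_mem _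
  · rw [h, map_inv, map_mul, Commute.inv_right_iff] at hwa
    rw [Q.cent_zd hwW hwa.eq]; exact one_mem _
  · rw [h, map_mul, map_inv] at hwa; rw [Q.cent_zd' hwW hwa.eq]; exact one_mem _
  · rw [h, map_inv, map_mul, map_inv, Commute.inv_right_iff] at hwa
    rw [Q.cent_zd' hwW hwa.eq]; exact one_mem _

theorem le_range (Q : S.Compl)
    (h : ∀ w ∈ Q.W, w * S.ψ dF = S.ψ dF * w → w ∈ S.ψ.range) :
    centralizer (S.V : Set G) ≤ S.ψ.range := by
  intro x hx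
  obtain ⟨w, hw, σ, rfl⟩ := Q.split x hx
  refine mul_mem (Q.W_le _ ?_ h hw) ⟨_, rfl⟩
  intro v hv
  obtain ⟨i, rfl⟩ := S.mem_V hv
  exact ⟨_, rfl⟩

/-- The even permutations of the second factor in `W`. -/
abbrev H (Q : S.Compl) : Subgroup (Perm (Fin 5)) := Q.W.comap S.φ₂

theorem H_conj (Q : S.Compl) {p : Perm (Fin 5)} (hp : p ∈ Q.H) : d5 * p * d5⁻¹ ∈ Q.H := by
  show S.φ₂ (d5 * p * d5⁻¹) ∈ Q.W
  rw [map_mul, map_mul, map_inv, φ₂_d5]
  exact Q.inner_conj S.z_mem_centV hp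

theorem H_noThree (Q : S.Compl) {p : Perm (Fin 5)} (hp : p ∈ Q.H) : NoThree p := by
  refine noThree_of_pow p ?_
  have h1 : p ^ Nat.card Q.W = 1 := S.φ₂_inj (by
    rw [map_pow, map_one]; exact Q.pow_card hp)
  have h2 : p ^ 120 = 1 := by
    have := pow_card_eq_one' (x := p)
    rwa [Nat.card_perm, Nat.card_fin] at this
  have hg : p ^ Nat.gcd (Nat.card Q.W) 120 = 1 := pow_gcd_eq_one.2 ⟨h1, h2⟩
  have hdvd : Nat.gcd (Nat.card Q.W) 120 ∣ 40 := by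
    have hco : (Nat.gcd (Nat.card Q.W) 120).Coprime 3 :=
      Nat.Coprime.coprime_dvd_left (Nat.gcd_dvd_left _ _)
        ((Nat.Prime.coprime_iff_not_dvd Nat.prime_three).2 Q.three).symm
    exact hco.dvd_of_dvd_mul_right (m := 40) (Nat.gcd_dvd_right _ _)
  exact perm_five_forty p (orderOf_dvd_iff_pow_eq_one.1
    ((orderOf_dvd_of_pow_eq_one hg).trans hdvd))

/-- An element of `W` centralizing `d` is in the second factor. -/
theorem exists_H (Q : S.Compl) {x : G} (hx : x ∈ Q.W) (hxd : x * S.ψ dF = S.ψ dF * x) :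
    ∃ p ∈ Q.H, S.φ₂ p = x := by
  obtain ⟨k, rfl⟩ := S.cent_d_le (mem_centralizer_singleton_iff.2 hxd)
  have h1 : k ^ Nat.card Q.W = 1 := S.φ_inj (by rw [map_pow, map_one]; exact Q.pow_card hx)
  have hz : k * zF = zF * k := S.φ_inj (by rw [map_mul, map_mul, φ_zF]; exact hxd)
  obtain ⟨i, hi⟩ := v4_small.2.2.2.2.2.2.2 k.1 (congrArg Prod.fst hz)
  have hk3 : k.1 ^ 3 = 1 := by
    rw [hi, ← pow_mul, mul_comm, pow_mul, show (swap 0 1 * swap 1 2 : Perm (Fin 3)) ^ 3 = 1 by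
      decide +kernel, one_pow]
  have hk1 : k.1 = 1 := (pow_eq_one_iff_of_coprime (Q.coprime_card 1 rfl)).1
    ⟨by simpa using hk3, congrArg Prod.fst h1⟩
  have he : S.φ₂ k.2 = S.φ k := by
    rw [φ₂_apply]; congr 1; exact Prod.ext hk1.symm rfl
  exact ⟨k.2, show S.φ₂ k.2 ∈ Q.W by rw [he]; exact hx, he⟩

/-- If the centralizer is not in the image, `W` contains one of the two four-groups, and
nothing else of the centralizer of `d`. -/
theorem exists_four (Q : S.Compl) (hbig : ¬ centralizer (S.V : Set G) ≤ S.ψ.range) :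
    (∃ p ∈ S.H₂, p ^ 5 = 1 ∧ p ≠ 1) ∨
      ∃ s : Fin 5, (s = 0 ∨ s = 1) ∧ u5 s ∈ Q.H ∧
        ∀ x ∈ Q.W, x * S.ψ dF = S.ψ dF * x → x = 1 ∨ ∃ o, InOrb s o ∧ S.φ₂ o = x := by
  obtain ⟨x, hx, hxd, hxr⟩ : ∃ x ∈ Q.W, x * S.ψ dF = S.ψ dF * x ∧ x ∉ S.ψ.range := by
    by_contra hno
    push Not at hno
    exact hbig (Q.le_range hno)
  obtain ⟨c, hc, rfl⟩ := Q.exists_H hx hxd
  have hcd : c * d5 ≠ d5 * c := fun h => hxr (S.cent_z_le (mem_centralizer_singleton_iff.2 (by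
    rw [← S.φ₂_d5, ← map_mul, ← map_mul, h])))
  have h1 := Q.H_conj hc
  have h2 := Q.H_conj h1
  rcases orbit_decide c hcd (Q.H_noThree hc) (Q.H_noThree (Q.H.mul_mem hc h1))
    (Q.H_noThree (Q.H.mul_mem hc h2)) with (h | h | h) | hor
  · exact Or.inl ⟨c, Q.le hc, h⟩
  · exact Or.inl ⟨_, Q.le (Q.H.mul_mem hc h1), h⟩
  · exact Or.inl ⟨_, Q.le (Q.H.mul_mem hc h2), h⟩
  obtain ⟨s, hs, hor⟩ : ∃ s : Fin 5, (s = 0 ∨ s = 1) ∧ InOrb s c := by
    rcases hor with h | h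
    exacts [⟨0, Or.inl rfl, h⟩, ⟨1, Or.inr rfl, h⟩]
  have conj' : ∀ {y : Perm (Fin 5)}, d5 * y * d5⁻¹ ∈ Q.H → y ∈ Q.H := fun {y} hy => by
    have h4 := Q.H_conj (Q.H_conj hy)
    have e : d5 * (d5 * (d5 * y * d5⁻¹) * d5⁻¹) * d5⁻¹ = d5 ^ 3 * y * (d5 ^ 3)⁻¹ := by
      simp only [pow_succ, pow_zero]; group
    rwa [e, even_facts.2.2.2.2.1, one_mul, inv_one, mul_one] at h4
  have hu : u5 s ∈ Q.H := by
    rcases hor with h | h | h
    · exact h ▸ hc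
    · exact conj' (h ▸ hc)
    · exact conj' (conj' (h ▸ hc))
  have hu1 := Q.H_conj hu
  have hu2 := Q.H_conj hu1
  refine Or.inr ⟨s, hs, hu, fun y hy hyd => ?_⟩
  obtain ⟨p, hp, rfl⟩ := Q.exists_H hy hyd
  have h3 := Q.H_conj hp
  rcases excl_decide s hs p (Q.H_noThree hp) (Q.H_noThree (mul_mem hp h3))
    (Q.H_noThree (mul_mem hp (Q.H_conj h3))) (Q.H_noThree (mul_mem hp hu))
    (Q.H_noThree (mul_mem hp hu1)) (Q.H_noThree (mul_mem hp hu2)) with h | h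
  · exact Or.inl (by rw [h, map_one])
  · exact Or.inr ⟨p, h, rfl⟩

end Compl

theorem five_of_elem {x : G} (hx : x ∈ centralizer (S.V : Set G))
    (hxd : x * S.ψ dF = S.ψ dF * x) (h5 : x ^ 5 = 1) (h1 : x ≠ 1) :
    ∃ p ∈ S.H₂, p ^ 5 = 1 ∧ p ≠ 1 := by
  obtain ⟨k, rfl⟩ := S.cent_d_le (mem_centralizer_singleton_iff.2 hxd)
  have hk5 : k ^ 5 = 1 := S.φ_inj (by rw [map_pow, h5, map_one])
  have hfst : k.1 = 1 := (pow_eq_one_iff_of_coprime (show (6 : ℕ).Coprime 5 by decide)).1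
    ⟨v4_small.1 k.1, congrArg Prod.fst hk5⟩
  have he : S.φ₂ k.2 = S.φ k := by rw [φ₂_apply]; congr 1; exact Prod.ext hfst.symm rfl
  refine ⟨k.2, show S.φ₂ k.2 ∈ _ by rw [he]; exact hx, congrArg Prod.snd hk5, fun h => h1 ?_⟩
  rw [show k = 1 from Prod.ext hfst h, map_one]

theorem five_or_four (hbig : ¬ centralizer (S.V : Set G) ≤ S.ψ.range) :
    (∃ p ∈ S.H₂, p ^ 5 = 1 ∧ p ≠ 1) ∨
      ∃ (Q : S.Compl) (s : Fin 5), (s = 0 ∨ s = 1) ∧ u5 s ∈ Q.H ∧
        ∀ x ∈ Q.W, x * S.ψ dF = S.ψ dF * x → x = 1 ∨ ∃ o, InOrb s o ∧ S.φ₂ o = x := by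
  rcases S.five_or_compl with ⟨x, hx, hxd, h5, h1⟩ | ⟨⟨Q⟩⟩
  · exact Or.inl (S.five_of_elem hx hxd h5 h1)
  · exact (Q.exists_four hbig).imp id fun h => ⟨Q, h⟩

theorem centV_cases :
    centralizer (S.V : Set G) ≤ S.ψ.range ∨
      ∃ s : Fin 5, (s = 0 ∨ s = 1) ∧
        ∀ j : ℤ, S.φ (dF ^ j * uF s * dF ^ (-j)) ∈ centralizer (S.V : Set G) := by
  by_cases hbig : centralizer (S.V : Set G) ≤ S.ψ.range
  · exact Or.inl hbig
  refine Or.inr ?_
  rcases S.five_or_four hbig with ⟨p, hp, h5, h1⟩ | ⟨Q, s, hs, hu, -⟩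
  · refine ⟨0, Or.inl rfl, fun j => ?_⟩
    rw [S.orb_eq]
    exact mul_mem (s := S.H₂) (mul_mem (zpow_mem S.d5_mem_H₂ j)
      (even_mem S.H₂ h5 h1 S.d5_mem_H₂ hp (by decide))) (zpow_mem S.d5_mem_H₂ _)
  · refine ⟨s, hs, fun j => ?_⟩
    rw [S.orb_eq]
    exact mul_mem (s := S.H₂) (mul_mem (zpow_mem S.d5_mem_H₂ j) (Q.le hu))
      (zpow_mem S.d5_mem_H₂ _)

/-- In the symmetric configuration the centralizer involves no five-cycle. -/
theorem sym_no_five (hS : S.IsSym) {p : Perm (Fin 5)} (hp : p ∈ S.H₂) (h5 : p ^ 5 = 1)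
    (h1 : p ≠ 1) : False := by
  have hev : ∀ q : Perm (Fin 5), Perm.sign q = 1 → S.φ₂ q ∈ centralizer (S.V : Set G) :=
    fun q hq => even_mem S.H₂ h5 h1 S.d5_mem_H₂ hp hq
  set y := S.φ aF with hy
  have hyV := S.mem_centV_iff.1 (show y ∈ _ from hev aF.2 even_facts.1)
  have hyt : Commute y (S.ψ (tF * aF * tF⁻¹)) := by
    have h2 : S.φ (tF * aF * tF⁻¹) ∈ centralizer (S.V : Set G) :=
      (show S.φ (tF * aF * tF⁻¹) = S.φ₂ (tF * aF * tF⁻¹).2 from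
        congrArg S.φ (Prod.ext (by simp [tF, aF]) rfl)) ▸ hev _ even_facts.2.2.1
    have h3 : Commute (S.φ (tF * aF * tF⁻¹)) (S.ψ aF) := (S.mem_centV_iff.1 h2).1
    have h4 := h3.conj ((S.ψ tF)⁻¹)
    have e1 : (S.ψ tF)⁻¹ * S.φ (tF * aF * tF⁻¹) * (S.ψ tF)⁻¹⁻¹ = y := by
      rw [← S.φ_tF, ← map_inv, ← map_inv, ← map_mul, ← map_mul, hy]
      congr 1
      group
    have e2 : (S.ψ tF)⁻¹ * S.ψ aF * (S.ψ tF)⁻¹⁻¹ = S.ψ (tF * aF * tF⁻¹) := by
      rw [← map_inv, ← map_inv, ← map_mul, ← map_mul]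
      congr 1
    rwa [e1, e2] at h4
  have hyf : Commute y (S.ψ fF) := by
    have hef : S.φ eF = S.ψ fF := hS.1
    rw [← hef, hy]
    exact S.φ_map_comm (by decide +kernel)
  have hyT : Commute y (S.ψ tF) := by
    rw [word_t.1, map_mul, map_mul, map_mul]
    exact ((Commute.mul_right hyV.1 hyt).mul_right hyV.1).mul_right hyf
  rw [← S.φ_tF, hy] at hyT
  exact word_t.2 (S.φ_inj (by rw [map_mul, map_mul]; exact hyT.eq))

theorem sym_comm (hS : S.IsSym) (hbig : ¬ centralizer (S.V : Set G) ≤ S.ψ.range) :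
    ∃ s : Fin 5, (s = 0 ∨ s = 1) ∧ Commute (S.φ (sF s)) (S.ψ cF) := by
  rcases S.five_or_four hbig with ⟨p, hp, h5, h1⟩ | ⟨Q, s, hs, hu, hexcl⟩
  · exact (S.sym_no_five hS hp h5 h1).elim
  refine ⟨s, hs, ?_⟩
  obtain ⟨hsF, hfu, heu, hzu, hdu, hword, hfix⟩ := sF_eq s hs
  set v := S.φ (uF s) with hv
  have hvW : v ∈ Q.W := hu
  set c := S.ψ cF with hcdef
  set a' := c * v * c⁻¹ * v⁻¹ with ha'
  have hcvW : c * v * c⁻¹ ∈ Q.W := Q.conj c (fun _ hx => S.c_conj_centV hx) v hvW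
  have hef : S.φ fF = S.ψ eF := hS.2
  have hce : Commute c (S.ψ eF) := S.map_comm small_facts.2.2.2.2.2.2.1
  have hve : Commute v (S.ψ eF) := by rw [← hef, hv]; exact S.φ_map_comm hfu.symm
  have hcve : Commute (c * v * c⁻¹) (S.ψ eF) := (hce.mul_left hve).mul_left hce.inv_left
  -- `c v c⁻¹` is `v` modulo `V`
  obtain ⟨a, haV, hav⟩ : ∃ a ∈ S.V, c * v * c⁻¹ = a * v := by
    let O : Subgroup G :=
      { carrier := {x | x = 1 ∨ ∃ o, InOrb s o ∧ S.φ₂ o = x}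
        one_mem' := Or.inl rfl
        mul_mem' := fun {x y} hx hy => by
          rcases hx with rfl | ⟨o, ho, rfl⟩
          · rwa [one_mul]
          rcases hy with rfl | ⟨o', ho', rfl⟩
          · rw [mul_one]; exact Or.inr ⟨o, ho, rfl⟩
          rcases orb_mul s hs o o' ho ho' with h | h
          · exact Or.inl (by rw [← map_mul, h, map_one])
          · exact Or.inr ⟨_, h, map_mul _ _ _⟩
        inv_mem' := fun {x} hx => by
          rcases hx with rfl | ⟨o, ho, rfl⟩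
          · exact Or.inl inv_one
          · exact Or.inr ⟨o, ho, by rw [← map_inv, orb_inv s hs o ho]⟩ }
    have hOC : ∀ x ∈ O, x ∈ centralizer (S.V : Set G) := by
      rintro x (rfl | ⟨o, ho, rfl⟩)
      · exact one_mem _
      · exact orb_mem S.d5_mem_H₂ ho (show u5 s ∈ S.H₂ from Q.le hu)
    have hle : S.V ≤ normalizer (O : Set G) := fun a ha => mem_normalizer_iff.2 fun x => by
      refine ⟨fun hx => ?_, fun hx => ?_⟩
      · rw [mem_centralizer_iff.1 (hOC x hx) a ha, mul_inv_cancel_right]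
        exact hx
      · have h := mem_centralizer_iff.1 (hOC _ hx) a⁻¹ (inv_mem ha)
        have e : x = a * x * a⁻¹ := by
          calc x = a⁻¹ * (a * x * a⁻¹) * a := by group
            _ = a * x * a⁻¹ * a⁻¹ * a := by rw [h]
            _ = a * x * a⁻¹ := by group
        rw [e]; exact hx
    have hWsup : Q.W ≤ S.V ⊔ O := Q.W_le _ le_sup_left fun w hw hwd =>
      le_sup_right (a := S.V) (hexcl w hw hwd)
    have h1 := hWsup hcvW
    rw [← SetLike.mem_coe, coe_mul_of_left_le_normalizer_right S.V O hle] at h1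
    obtain ⟨a, ha, x, hx, hax⟩ := h1
    change a * x = c * v * c⁻¹ at hax
    have hae : Commute a (S.ψ eF) := mem_centralizer_iff.1 S.e_mem_centV a ha
    have hxe : Commute x (S.ψ eF) := by
      have h := hae.inv_left.mul_left hcve
      rwa [← hax, inv_mul_cancel_left] at h
    rcases hx with rfl | ⟨o, ho, rfl⟩
    · exfalso
      -- then `v` would lie in `V`
      have hax' : c * v * c⁻¹ = a := by rw [← hax, mul_one]
      have haz : Commute a (S.ψ zF) := mem_centralizer_iff.1 S.z_mem_centV a ha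
      have hcz : Commute c (S.ψ zF) := S.map_comm small_facts.2.2.2.2.2.1
      have hvz : Commute v (S.ψ zF) := by
        have e : v = c⁻¹ * a * c := by rw [← hax']; group
        rw [e]
        exact (hcz.inv_left.mul_left haz).mul_left hcz
      rw [← S.φ_dF, hv] at hvz
      exact hdu (S.φ_inj (by rw [map_mul, map_mul]; exact hvz.eq.symm))
    · refine ⟨a, ha, ?_⟩
      rw [← hax]
      have ho' : o = u5 s := hfix o ho (S.φ_inj (by
        rw [map_mul, map_mul, hef]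
        exact hxe.eq))
      rw [ho']
      rfl
  -- commutators with `z` are fixed by `c`
  have hcz : Commute c (S.ψ zF) := S.map_comm small_facts.2.2.2.2.2.1
  have haz : Commute a (S.ψ zF) := mem_centralizer_iff.1 S.z_mem_centV a haV
  have hca : ∀ w ∈ Q.W, Commute a w := fun w hw => mem_centralizer_iff.1 (Q.le hw) a haV
  set w1 := S.ψ zF * v * (S.ψ zF)⁻¹ * v⁻¹ with hw1
  have hcw1 : Commute c w1 := by
    have e : c * w1 * c⁻¹ = w1 := by
      calc c * w1 * c⁻¹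
          = (c * S.ψ zF * c⁻¹) * (c * v * c⁻¹) * (c * S.ψ zF * c⁻¹)⁻¹ * (c * v * c⁻¹)⁻¹ := by
            rw [hw1]; group
        _ = S.ψ zF * (a * v) * (S.ψ zF)⁻¹ * (a * v)⁻¹ := by
            rw [hcz.eq, mul_inv_cancel_right, hav]
        _ = (S.ψ zF * a * (S.ψ zF)⁻¹) * (S.ψ zF * v * (S.ψ zF)⁻¹ * v⁻¹) * a⁻¹ := by group
        _ = a * w1 * a⁻¹ := by rw [← haz.eq, mul_inv_cancel_right]
        _ = w1 := by
            rw [(hca w1 (mul_mem (Q.inner_conj S.z_mem_centV hvW) (inv_mem hvW))).eq,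
              mul_inv_cancel_right]
    exact mul_inv_eq_iff_eq_mul.1 e
  have hveq : v = S.ψ zF * w1 * (S.ψ zF)⁻¹ := by
    rw [hw1, hv, ← S.φ_dF, ← map_inv, ← map_inv, ← map_mul, ← map_mul, ← map_mul, ← map_mul,
      ← map_mul, ← hword]
  have hcv : Commute v c := by
    rw [hveq]
    exact ((hcz.mul_right hcw1).mul_right hcz.inv_right).symm
  rw [hsF, map_mul, ← hv, hef]
  exact hcv.mul_left hce.symm

theorem wr_comm (hX : S.IsWr) (hbig : ¬ centralizer (S.V : Set G) ≤ S.ψ.range) :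
    ∀ x ∈ S.L₁, ∀ y ∈ S.L₂, Commute x y := by
  obtain ⟨s, hs, hmem⟩ := S.centV_cases.resolve_left hbig
  have hu : S.φ (uF s) ∈ centralizer (S.V : Set G) := by simpa using hmem 0
  obtain ⟨-, hfu, heu, hzu, -, -, -⟩ := sF_eq s hs
  have he1 : S.φ eF = S.ψ (fF * tF) := hX.1
  have he2 : S.φ (fF * tF) = S.ψ eF := by
    rw [map_mul, φ_tF, show S.φ fF = S.ψ (eF * tF) from hX.2, ← map_mul]
    congr 1
    decide +kernel
  obtain ⟨⟨hp5, hp1⟩, hq⟩ := five_words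
  let M₁ : Subgroup (Perm (Fin 5)) :=
    (centralizer ({S.φ (uF s)} : Set G)).comap (S.ψ.comp (MonoidHom.inr _ _))
  have mem₁ : ∀ k : KF, k.1 = 1 → Commute (S.φ (uF s)) (S.ψ k) → k.2 ∈ M₁ := fun k hk h => by
    show S.ψ (1, k.2) ∈ centralizer _
    rw [mem_centralizer_singleton_iff, show ((1 : Perm (Fin 3)), k.2) = k from Prod.ext hk.symm rfl]
    exact h.symm.eq
  have hd₁ : d5 ∈ M₁ := mem₁ dF rfl (by rw [← S.φ_zF]; exact S.φ_map_comm hzu.symm)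
  have hft : (fF * tF).2 ∈ M₁ :=
    mem₁ _ (by simp [fF, tF]) (by rw [← he1]; exact S.φ_map_comm heu.symm)
  have hV := S.mem_centV_iff.1 hu
  have hgen₁ : aF.2 * (fF * tF).2 * bF.2 ∈ M₁ :=
    mul_mem (mul_mem (mem₁ aF rfl hV.1) hft) (mem₁ bF rfl hV.2)
  have huL : S.φ (uF s) ∈ centralizer (S.L₁ : Set G) := by
    rw [mem_centralizer_iff]
    rintro _ ⟨⟨k1, k2⟩, ⟨hk1, hk2⟩, rfl⟩
    obtain rfl : k1 = 1 := mem_bot.1 hk1
    exact mem_centralizer_singleton_iff.1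
      (even_mem M₁ hp5 hp1 hd₁ hgen₁ (Perm.mem_alternatingGroup.1 hk2))
  let M₂ : Subgroup (Perm (Fin 5)) := (centralizer (S.L₁ : Set G)).comap S.φ₂
  have centL : ∀ x : G, (∀ q : Perm (Fin 5), Commute (S.ψ (1, q)) x) →
      x ∈ centralizer (S.L₁ : Set G) := fun x h => by
    rw [mem_centralizer_iff]
    rintro _ ⟨⟨k1, k2⟩, ⟨hk1, -⟩, rfl⟩
    obtain rfl : k1 = 1 := mem_bot.1 hk1
    exact h k2
  have hd₂ : d5 ∈ M₂ := by
    show S.φ₂ d5 ∈ centralizer (S.L₁ : Set G)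
    rw [φ₂_d5]
    exact centL _ fun q => S.map_comm (Prod.ext (by simp [zF]) (by simp [zF]))
  have hft₂ : (fF * tF).2 ∈ M₂ := by
    show S.φ (1, (fF * tF).2) ∈ centralizer (S.L₁ : Set G)
    rw [show ((1 : Perm (Fin 3)), (fF * tF).2) = fF * tF from Prod.ext (by simp [fF, tF]) rfl, he2]
    exact centL _ fun q => S.map_comm (Prod.ext (by simp [eF]) (by simp [eF]))
  have hu₂ : u5 s ∈ M₂ := huL
  rintro _ hx _ ⟨⟨k1, k2⟩, ⟨hk1, hk2⟩, rfl⟩
  obtain rfl : k1 = 1 := mem_bot.1 hk1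
  exact mem_centralizer_iff.1 (even_mem M₂ (hq s hs).1 (hq s hs).2 hd₂
    (mul_mem (mul_mem hu₂ hft₂) hd₂) (Perm.mem_alternatingGroup.1 hk2)) _ hx

end Setup

end CfsgLib.SEightThree
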