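import Cfsg.Agent.Lib.SEightThree.Common
import Cfsg.Agent.Lib.PresCert.Range
import Cfsg.Agent.Lib.SEightThree.Five.BigCert
import Cfsg.Agent.Lib.SEightThree.Five.C00Cert
import Cfsg.Agent.Lib.SEightThree.Five.C10Cert
import Cfsg.Agent.Lib.SEightThree.Five.C11Cert

/-!
The centralizer of two commuting transpositions cannot have a quotient which is alternating of
degree five: the group generated modulo the first transposition would collapse, or it would
contain too large a centralizer of a diagonal element of order three.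
-/

set_option autoImplicit false
set_option linter.style.haveILetI false
set_option maxRecDepth 100000
set_option maxHeartbeats 2000000

namespace CfsgLib.SEightThree

open Subgroup Equiv CfsgLib.PresCert

universe u

/-! ### Facts about `Sym 3 × Sym 5` -/

theorem five_facts :
    hF = dF * fF * dF⁻¹ ∧ sF 0 * fF = fF * sF 0 ∧ tF * eF = eF * tF ∧ cF * eF = eF * cF ∧
      fF * eF = eF * fF ∧ hF * eF = eF * hF ∧
      (sF 0 * (zF * eF * zF⁻¹) = zF * eF * zF⁻¹ * sF 0) ∧
      sF 0 * eF = eF * sF 0 ∧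
      (sF 0 * tF) ^ 3 = 1 ∧ (tF * cF) ^ 3 = 1 ∧ (cF * fF) ^ 3 = 1 ∧ (fF * hF) ^ 3 = 1 ∧
      tF * fF = fF * tF ∧ tF * hF = hF * tF ∧ cF * hF = hF * cF ∧
      sF 0 * sF 0 = 1 ∧ tF * tF = 1 ∧ cF * cF = 1 ∧ fF * fF = 1 ∧ hF * hF = 1 ∧ eF * eF = 1 := by
  refine ⟨?_, ?_, ?_, ?_, ?_, ?_, ?_, ?_, ?_, ?_, ?_, ?_, ?_, ?_, ?_, ?_, ?_, ?_, ?_, ?_, ?_⟩ <;>
    decide +kernel

theorem sF_zero_conj : sF 0 * dF * (sF 0)⁻¹ ≠ dF ∧ sF 0 * dF * (sF 0)⁻¹ ≠ dF⁻¹ := by
  refine ⟨?_, ?_⟩ <;> decide +kernel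

theorem conj_zF : ∀ k : KF, k * zF * k⁻¹ = zF ∨ k * zF * k⁻¹ = zF⁻¹ := by
  intro k
  have h : ∀ p : Perm (Fin 3), p * (swap 0 1 * swap 1 2) * p⁻¹ = swap 0 1 * swap 1 2 ∨
      p * (swap 0 1 * swap 1 2) * p⁻¹ = (swap 0 1 * swap 1 2)⁻¹ := by decide +kernel
  rcases h k.1 with h | h
  · refine Or.inl (Prod.ext h ?_)
    show k.2 * 1 * k.2⁻¹ = 1
    simp
  · refine Or.inr (Prod.ext h ?_)
    show k.2 * 1 * k.2⁻¹ = (1 : Perm (Fin 5))⁻¹
    simp

/-- A diagonal element of order three inside the conjugated image. -/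
theorem exists_conj_diag :
    ∃ k : KF, k * (zF * dF) * k⁻¹ = sF 0 * tF * (eF * (zF * eF * zF⁻¹)) := by
  decide +kernel

namespace Five

/-- The value of a word which the certificate leads from coset `0` to coset `0`. -/
theorem word_eq_one {C : Cert} {js : List Cert.Just} (V : Cert.Valid C js) {Q : Type*} [Group Q]
    (M : Model C Q) (hsub : M.sub = ⊥) {t : ℕ} {w : List ℕ} (h : C.walk t w 0 = some 0) :
    (w.map M.gen).prod = 1 := by
  have h1 := Cert.walk_sound M (t := t)
    (fun c x hc hx _ => Cert.slots_ok M V _ c x hc hx rfl) w 0 0 h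
  simpa [Cert.Rel, Cert.val_zero, hsub, Cert.wval] using h1

/-- With one coset the subgroup is everything. -/
theorem sub_eq_top {C : Cert} {js : List Cert.Just} (V : Cert.Valid C js) {Q : Type*} [Group Q]
    (M : Model C Q) (h : C.n = 1) : M.sub = ⊤ := by
  refine eq_top_iff.2 fun q _ => ?_
  obtain ⟨c, hc, hq⟩ := Cert.exists_coset M V q
  have hc0 : c = 0 := by omega
  subst hc0
  simpa [Cert.val_zero] using hq

theorem walk_comm : Big.cert.walk 1000000
    [0, 3, 2, 0, 2, 1, 3, 2, 0, 2, 0, 1, 3, 4, 2, 0, 2, 3, 1, 2, 0, 2, 3, 0, 4, 3, 1, 0] 0 =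
      some 0 := by
  decide +kernel

theorem walk_five : Big.cert.walk 1000000
    [0, 3, 2, 0, 2, 1, 3, 2, 0, 2, 0, 3, 2, 0, 2, 1, 3, 2, 0, 2, 0, 3, 2, 0, 2, 1, 3, 2, 0, 2,
      0, 3, 2, 0, 2, 1, 3, 2, 0, 2, 0, 3, 2, 0, 2, 1, 3, 2, 0, 2] 0 = some 0 := by
  decide +kernel

theorem walk_ac : Big.cert.walk 1000000
    [0, 2, 4, 0, 1, 2, 2, 0, 2, 3, 1, 2, 0, 2, 3, 0, 2, 1, 0, 4, 4, 0, 1, 2, 2, 0, 2, 3, 1, 2, 0,
      2, 3, 0, 2, 1, 0, 4, 1, 2, 1, 2, 0, 2, 3, 1, 2, 0, 2, 3, 0, 1, 2, 1, 1, 2, 1, 2, 0, 2, 3, 1,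
      2, 0, 2, 3, 0, 1, 2, 1] 0 = some 0 := by
  decide +kernel

/-- The word `a c` is a product of conjugates of the element of order five and their inverses,
once the latter is trivial. -/
theorem ac_of_trivial {Q : Type*} [Group Q] (a b c f h : Q) (ha : a * a = 1) (hb : b * b = 1)
    (hc : c * c = 1) (hh : h * h = 1)
    (hu : a * (f * (c * (a * (c * (b * (f * (c * (a * c)))))))) = 1)
    (w : a * (c * (h * (a * (b * (c * (c * (a * (c * (f * (b * (c * (a * (c * (f * (a * (c * (b * (a *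
      (h * (h * (a * (b * (c * (c * (a * (c * (f * (b * (c * (a * (c * (f * (a * (c * (b * (a
      * (h * (b * (c * (b * (c * (a * (c * (f * (b * (c * (a * (c * (f * (a * (b * (c * (b *
      (b * (c * (b * (c * (a * (c * (f * (b * (c * (a * (c * (f * (a * (b * (c *
      (b))))))))))))))))))))))))))))))))))))))))))))))))))))))))))))))))))))) = 1)
    (hf : f * f = 1) :
    a * c = 1 := by
  have h1 : c * (a * (c * (f * (b * (c * (a * (c * (f * a)))))))) = 1 := by
    have := congrArg (fun q => q⁻¹) hu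
    simpa [mul_assoc, inv_eq_of_mul_eq_one_right ha, inv_eq_of_mul_eq_one_right hb,
      inv_eq_of_mul_eq_one_right hc, inv_eq_of_mul_eq_one_right hh,
      inv_eq_of_mul_eq_one_right hf] using this
  have h2 : ∀ q : Q, c * (a * (c * (f * (b * (c * (a * (c * (f * (a * q))))))))) = q := fun q => by
    calc c * (a * (c * (f * (b * (c * (a * (c * (f * (a * q)))))))))
        = c * (a * (c * (f * (b * (c * (a * (c * (f * a)))))))) * q := by simp only [mul_assoc]
      _ = q := by rw [h1, one_mul]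
  have hcc : ∀ q : Q, c * (c * q) = q := fun q => by rw [← mul_assoc, hc, one_mul]
  have hbb : ∀ q : Q, b * (b * q) = q := fun q => by rw [← mul_assoc, hb, one_mul]
  have haa : ∀ q : Q, a * (a * q) = q := fun q => by rw [← mul_assoc, ha, one_mul]
  have hhh : ∀ q : Q, h * (h * q) = q := fun q => by rw [← mul_assoc, hh, one_mul]
  simp only [h2, hcc, hbb, haa, hb, hh, mul_one] at w
  exact w

end Five

section main

variable {G : Type u} [Group G] (S : Setup G)

namespace Setup

/-- The transposition `(2 3)` of degree eight is not in the normalizer of `z`. -/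
theorem sF_zero_not_range : S.φ (sF 0) ∉ S.ψ.range := by
  rintro ⟨k, hk⟩
  have h1 : S.φ (sF 0) * S.φ dF * (S.φ (sF 0))⁻¹ = S.φ dF ∨
      S.φ (sF 0) * S.φ dF * (S.φ (sF 0))⁻¹ = (S.φ dF)⁻¹ := by
    rw [← hk, S.φ_dF]
    rcases conj_zF k with h | h
    · exact Or.inl (S.map_conj h)
    · exact Or.inr (by rw [S.map_conj h, map_inv])
  rw [← map_inv, ← map_inv, ← map_mul, ← map_mul] at h1
  rcases h1 with h | h
  · exact sF_zero_conj.1 (S.φ_inj h)
  · exact sF_zero_conj.2 (S.φ_inj h)

theorem not_badFive [Finite G] (hS : S.IsSym) : ¬ S.BadFive := by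
  classical
  rintro ⟨h5, h3⟩
  obtain ⟨fh, fa, te, ce, fe, he, ah', ae, ab3, bc3, cf3, fh3, tf, th, ch, aa, tt, cc, ff, hh,
    ee⟩ := five_facts
  set a := S.φ (sF 0) with hadef
  set e := S.ψ eF with hedef
  have hφf : S.φ fF = e := hS.2
  have hφe : S.φ eF = S.ψ fF := hS.1
  have hψh : S.ψ hF = S.φ (zF * eF * zF⁻¹) := by
    rw [map_mul, map_mul, map_inv, hφe, S.φ_zF, fh, map_mul, map_mul, map_inv]
  -- the centralizer of `e` modulo `e`
  set C := centralizer ({e} : Set G) with hC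
  have mem_ψ : ∀ k : KF, k * eF = eF * k → S.ψ k ∈ C := fun k hk =>
    mem_centralizer_singleton_iff.2 (S.map_comm hk)
  have haC : a ∈ C := mem_centralizer_singleton_iff.2 (by rw [← hφf]; exact S.φ_map_comm fa)
  let E : Subgroup C := zpowers (⟨e, mem_ψ eF rfl⟩ : C)
  haveI hEn : E.Normal := by
    refine ⟨fun x hx y => ?_⟩
    obtain ⟨n, rfl⟩ := mem_zpowers_iff.1 hx
    refine mem_zpowers_iff.2 ⟨n, ?_⟩
    have hcy : Commute y (⟨e, mem_ψ eF rfl⟩ : C) :=
      Subtype.ext (mem_centralizer_singleton_iff.1 y.2)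
    rw [(hcy.zpow_right n).eq, mul_inv_cancel_right]
  let π : C →* C ⧸ E := QuotientGroup.mk' E
  have hE : ∀ x : C, π x = 1 → (x : G) = 1 ∨ (x : G) = e := by
    intro x hx
    obtain ⟨n, hn⟩ := mem_zpowers_iff.1 ((QuotientGroup.eq_one_iff x).1 hx)
    have h2 : e ^ (2 : ℤ) = 1 := by rw [zpow_two, hedef, ← map_mul, ee, map_one]
    have hx' : (x : G) = e ^ n := by rw [← hn]; rfl
    rcases Int.even_or_odd n with ⟨m, hm⟩ | ⟨m, hm⟩
    · left; rw [hx', hm, ← two_mul, zpow_mul, h2, one_zpow]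
    · right; rw [hx', hm, zpow_add, zpow_mul, h2, one_zpow, one_mul, zpow_one]
  let gen : ℕ → C := fun i => match i with
    | 0 => ⟨a, haC⟩
    | 1 => ⟨S.ψ tF, mem_ψ _ te⟩
    | 2 => ⟨S.ψ cF, mem_ψ _ ce⟩
    | 3 => ⟨S.ψ fF, mem_ψ _ fe⟩
    | _ => ⟨S.ψ hF, mem_ψ _ he⟩
  let T : Subgroup (C ⧸ E) := closure {q | ∃ i < 5, π (gen i) = q}
  let γ : ℕ → T := fun i => ⟨π (gen (min i 4)), subset_closure ⟨min i 4, by omega, rfl⟩⟩
  have hγ : ∀ i < 5, (γ i : C ⧸ E) = π (gen i) := fun i hi => by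
    show π (gen (min i 4)) = π (gen i)
    rw [min_eq_left (by omega)]
  have hclosure : closure {q : T | ∃ i < 5, γ i = q} = ⊤ := by
    refine eq_top_iff.2 fun q _ => ?_
    have hq : (q : C ⧸ E) ∈ (closure {q : T | ∃ i < 5, γ i = q}).map T.subtype := by
      rw [MonoidHom.map_closure]
      refine closure_mono ?_ q.2
      rintro _ ⟨i, hi, rfl⟩
      exact ⟨γ i, ⟨i, hi, rfl⟩, hγ i hi⟩
    obtain ⟨q', hq', e'⟩ := hq
    rwa [← Subtype.ext e']
  have one_of : ∀ w : List ℕ, (∀ i ∈ w, i < 5) → ((w.map fun i => gen i).prod : C) ∈ E →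
      (w.map γ).prod = 1 := by
    intro w hw hmem
    apply Subtype.ext
    rw [Subgroup.val_list_prod, List.map_map]
    rw [show List.map (Subtype.val ∘ γ) w = List.map π (w.map fun i => gen i) by
      rw [List.map_map]; exact List.map_congr_left fun i hi => hγ i (hw i hi)]
    rw [← map_list_prod]
    exact (QuotientGroup.eq_one_iff _).2 hmem
  have one_of' : ∀ w : List ℕ, (∀ i ∈ w, i < 5) → ((w.map fun i => gen i).prod : C).1 = 1 →
      (w.map γ).prod = 1 := fun w hw h => one_of w hw (by rw [OneMemClass.coe_eq_one.1 h]; exact one_mem _)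
  -- the basic relations
  have ainv : a * a = 1 := by rw [hadef, ← map_mul, aa, map_one]
  have inv2 : ∀ i < 5, γ i * γ i = 1 := by
    intro i hi
    have : ((gen i * gen i : C) : G) = 1 := by
      interval_cases i <;> simp only [gen, Subgroup.coe_mul]
      · exact ainv
      all_goals first
        | rw [← map_mul, tt, map_one]
        | rw [← map_mul, cc, map_one]
        | rw [← map_mul, ff, map_one]
        | rw [← map_mul, hh, map_one]
    simpa using one_of' [i, i] (by simp [hi]) (by simpa using this)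
  have ψψ : ∀ (x y : KF), (x * y) ^ 3 = 1 → S.ψ x * (S.ψ y * (S.ψ x * (S.ψ y * (S.ψ x *
      S.ψ y)))) = 1 := fun x y h => by
    rw [← map_mul, ← map_mul, ← map_mul, ← map_mul, ← map_mul]
    rw [show x * (y * (x * (y * (x * y)))) = (x * y) ^ 3 by
      simp only [pow_succ, pow_zero, one_mul, mul_assoc], h, map_one]
  have ψ2 : ∀ (x y : KF), x * y = y * x → x * x = 1 → y * y = 1 →
      S.ψ x * (S.ψ y * (S.ψ x * S.ψ y)) = 1 := fun x y h hx hy => by
    rw [← map_mul, ← map_mul, ← map_mul]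
    rw [show x * (y * (x * y)) = 1 by rw [← mul_assoc y, ← h, mul_assoc x y, hy, mul_one, hx],
      map_one]
  have rab : a * (S.ψ tF * (a * (S.ψ tF * (a * S.ψ tF)))) = 1 := by
    rw [hadef, ← S.φ_tF, ← map_mul, ← map_mul, ← map_mul, ← map_mul, ← map_mul]
    rw [show sF 0 * (tF * (sF 0 * (tF * (sF 0 * tF)))) = (sF 0 * tF) ^ 3 by
      simp only [pow_succ, pow_zero, one_mul, mul_assoc], ab3, map_one]
  have φ2 : ∀ x y : KF, x * y = y * x → x * x = 1 → y * y = 1 →
      S.φ x * (S.φ y * (S.φ x * S.φ y)) = 1 := fun x y h hx hy => by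
    rw [← map_mul, ← map_mul, ← map_mul]
    rw [show x * (y * (x * y)) = 1 by rw [← mul_assoc y, ← h, mul_assoc x y, hy, mul_one, hx],
      map_one]
  have raf : a * (S.ψ fF * (a * S.ψ fF)) = 1 := by
    rw [hadef, ← hφe]; exact φ2 _ _ ae aa ee
  have rah : a * (S.ψ hF * (a * S.ψ hF)) = 1 := by
    rw [hadef, hψh]
    exact φ2 _ _ ah' aa (by
      rw [show zF * eF * zF⁻¹ * (zF * eF * zF⁻¹) = zF * (eF * eF) * zF⁻¹ by group, ee, mul_one,
        mul_inv_cancel])
  have base : ∀ w ∈ ([[0, 1, 0, 1, 0, 1], [1, 2, 1, 2, 1, 2], [2, 3, 2, 3, 2, 3],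
      [3, 4, 3, 4, 3, 4], [0, 3, 0, 3], [0, 4, 0, 4], [1, 3, 1, 3], [1, 4, 1, 4],
      [2, 4, 2, 4]] : List (List ℕ)), (∀ i ∈ w, i < 5) ∧ (w.map γ).prod = 1 := by
    intro w hw
    simp only [List.mem_cons, List.not_mem_nil, or_false] at hw
    rcases hw with rfl | rfl | rfl | rfl | rfl | rfl | rfl | rfl | rfl <;>
      refine ⟨by decide, one_of' _ (by decide) ?_⟩ <;>
      simp only [List.map, List.prod_cons, List.prod_nil, mul_one, gen, Subgroup.coe_mul]
    · exact rab
    · exact ψψ _ _ bc3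
    · exact ψψ _ _ cf3
    · exact ψψ _ _ fh3
    · exact raf
    · exact rah
    · exact ψ2 _ _ tf tt ff
    · exact ψ2 _ _ th tt hh
    · exact ψ2 _ _ ch cc hh
  -- the two relations from the hypothesis: the centre part is `1` or `h` modulo `e`
  have hZ : ∀ x ∈ S.Z, x = 1 ∨ x = e ∨ x = S.ψ hF ∨ x = e * S.ψ hF := by
    intro x hx
    rw [Setup.Z, ← Set.image_pair, ← MonoidHom.map_closure] at hx
    obtain ⟨k, hk, rfl⟩ := hx
    suffices k = 1 ∨ k = eF ∨ k = hF ∨ k = eF * hF by
      rcases this with rfl | rfl | rfl | rfl <;> simp [hedef]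
    induction hk using closure_induction with
    | mem y hy => rcases hy with rfl | rfl <;> simp
    | one => simp
    | mul y w _ _ hy hw =>
      rcases hy with rfl | rfl | rfl | rfl <;> rcases hw with rfl | rfl | rfl | rfl <;>
        first
        | (left; decide +kernel)
        | (right; left; decide +kernel)
        | (right; right; left; decide +kernel)
        | (right; right; right; decide +kernel)
    | inv y _ hy =>
      rcases hy with rfl | rfl | rfl | rfl <;>
        first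
        | (left; decide +kernel)
        | (right; left; decide +kernel)
        | (right; right; left; decide +kernel)
        | (right; right; right; decide +kernel)
  have rel_of : ∀ w : List ℕ, (∀ i ∈ w, i < 5) → ((w.map fun i => gen i).prod : C).1 ∈ S.Z →
      (w.map γ).prod = 1 ∨ ((w ++ [4]).map γ).prod = 1 := by
    intro w hw hz
    have hw' : ∀ i ∈ w ++ [4], i < 5 := by
      intro i hi
      rw [List.mem_append, List.mem_singleton] at hi
      rcases hi with hi | rfl
      exacts [hw i hi, by norm_num]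
    have hcom : S.ψ eF * S.ψ hF * S.ψ hF = S.ψ eF := by
      rw [mul_assoc, ← map_mul, hh, map_one, mul_one]
    rcases hZ _ hz with h | h | h | h
    · exact Or.inl (one_of' w hw h)
    · exact Or.inl (one_of w hw (mem_zpowers_iff.2 ⟨1, Subtype.ext (by rw [zpow_one]; exact h.symm)⟩))
    · refine Or.inr (one_of' _ hw' ?_)
      simp only [List.map_append, List.prod_append, List.map, List.prod_cons, List.prod_nil,
        mul_one, Subgroup.coe_mul, gen, h]
      rw [← map_mul, hh, map_one]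
    · refine Or.inr (one_of _ hw' (mem_zpowers_iff.2 ⟨1, Subtype.ext ?_⟩))
      simp only [zpow_one, List.map_append, List.prod_append, List.map, List.prod_cons,
        List.prod_nil, mul_one, Subgroup.coe_mul, gen, h, hedef, hcom]
  have r5 := rel_of [0, 2, 0, 2, 0, 2, 0, 2, 0, 2] (by decide) (by
    convert h5 using 1
    simp only [List.map, List.prod_cons, List.prod_nil, mul_one, gen, Subgroup.coe_mul,
      pow_succ, pow_zero, one_mul, mul_assoc, hadef])
  have r3 := rel_of [0, 1, 2, 0, 1, 2, 0, 1, 2] (by decide) (by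
    convert h3 using 1
    simp only [List.map, List.prod_cons, List.prod_nil, mul_one, gen, Subgroup.coe_mul,
      pow_succ, pow_zero, one_mul, mul_assoc, hadef])
  let mk : ∀ (cert : Cert) (K : Subgroup T), cert.g = 5 → cert.inv = [0, 1, 2, 3, 4] →
      (∀ r ∈ cert.rels, (∀ x ∈ r, x < 5) ∧ (r.map γ).prod = 1) →
      (∀ r ∈ cert.subs, (r.map γ).prod ∈ K) → Model cert T := fun cert K hg hinv hr hs =>
    { gen := γ
      gen_inv := fun x hx => by
        have hiv : cert.iv x = x := by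
          unfold Cert.iv
          rw [hinv]
          have hx5 : x < 5 := hg ▸ hx
          interval_cases x <;> rfl
        exact ⟨by rw [hiv]; exact hx, by
          rw [hiv]; exact (inv_eq_of_mul_eq_one_right (inv2 x (hg ▸ hx))).symm⟩
      rels_eq := fun r h => ⟨fun x hx => hg.symm ▸ (hr r h).1 x hx, (hr r h).2⟩
      sub := K
      subs_mem := hs
      closure_gen := by rw [hg]; exact hclosure }
  -- `a` is not in the image modulo `e`
  have hrange : ∀ x : C, π x = π (gen 0) → (x : G) ∈ S.ψ.range → False := fun x hx hr => by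
    have h1 := hE (gen 0 * x⁻¹) (by rw [map_mul, map_inv, hx, mul_inv_cancel])
    refine S.sF_zero_not_range ?_
    rcases h1 with h' | h' <;> simp only [gen, Subgroup.coe_mul, InvMemClass.coe_inv] at h'
    · rw [← hadef, mul_inv_eq_one.1 h']; exact hr
    · rw [← hadef, mul_inv_eq_iff_eq_mul.1 h']; exact mul_mem ⟨eF, rfl⟩ hr
  -- collapsing cases
  let R : Subgroup T := ((S.ψ.range.subgroupOf C).map π).subgroupOf T
  have collapse : ∀ (cert : Cert) {js : List Cert.Just}, Cert.Valid cert js → cert.n = 1 →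
      cert.g = 5 → cert.inv = [0, 1, 2, 3, 4] →
      (∀ r ∈ cert.rels, (∀ x ∈ r, x < 5) ∧ (r.map γ).prod = 1) →
      cert.subs = [[1], [2], [3], [4]] → False := by
    intro cert js V hn hg hinv hr hsub
    have hsubs : ∀ r ∈ cert.subs, (r.map γ).prod ∈ R := by
      intro r hr'
      rw [hsub] at hr'
      simp only [List.mem_cons, List.not_mem_nil, or_false] at hr'
      rcases hr' with rfl | rfl | rfl | rfl <;>
        simp only [List.map, List.prod_cons, List.prod_nil, mul_one]
      · exact mem_subgroupOf.2 ⟨gen 1, mem_subgroupOf.2 ⟨_, rfl⟩, (hγ 1 (by norm_num)).symm⟩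
      · exact mem_subgroupOf.2 ⟨gen 2, mem_subgroupOf.2 ⟨_, rfl⟩, (hγ 2 (by norm_num)).symm⟩
      · exact mem_subgroupOf.2 ⟨gen 3, mem_subgroupOf.2 ⟨_, rfl⟩, (hγ 3 (by norm_num)).symm⟩
      · exact mem_subgroupOf.2 ⟨gen 4, mem_subgroupOf.2 ⟨_, rfl⟩, (hγ 4 (by norm_num)).symm⟩
    have htop : R = ⊤ := Five.sub_eq_top V (mk cert R hg hinv hr hsubs) hn
    have h0 : γ 0 ∈ R := by
      have : γ 0 ∈ (⊤ : Subgroup T) := mem_top _
      rwa [← htop] at this
    obtain ⟨x, hx, hx'⟩ := mem_subgroupOf.1 h0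
    exact hrange x (hx'.trans (hγ 0 (by norm_num))) (mem_subgroupOf.1 hx)
  rcases r5 with r5 | r5 <;> rcases r3 with r3 | r3
  · refine collapse Five.C00.cert Five.C00.valid rfl rfl rfl (fun r hr => ?_) rfl
    rcases (show r ∈ ([[0, 1, 0, 1, 0, 1], [1, 2, 1, 2, 1, 2], [2, 3, 2, 3, 2, 3],
      [3, 4, 3, 4, 3, 4], [0, 3, 0, 3], [0, 4, 0, 4], [1, 3, 1, 3], [1, 4, 1, 4],
      [2, 4, 2, 4]] : List (List ℕ)) ∨ r = [0, 2, 0, 2, 0, 2, 0, 2, 0, 2] ∨
      r = [0, 1, 2, 0, 1, 2, 0, 1, 2] by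
        simp only [Five.C00.cert, List.mem_cons, List.not_mem_nil, or_false] at hr ⊢
        tauto) with h | rfl | rfl
    exacts [base r h, ⟨by decide, r5⟩, ⟨by decide, r3⟩]
  · -- the relations of the group of order 7200
    have hrels : ∀ r ∈ Five.Big.cert.rels, (∀ x ∈ r, x < 5) ∧ (r.map γ).prod = 1 := fun r hr => by
      rcases (show r ∈ ([[0, 1, 0, 1, 0, 1], [1, 2, 1, 2, 1, 2], [2, 3, 2, 3, 2, 3],
        [3, 4, 3, 4, 3, 4], [0, 3, 0, 3], [0, 4, 0, 4], [1, 3, 1, 3], [1, 4, 1, 4],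
        [2, 4, 2, 4]] : List (List ℕ)) ∨ r = [0, 2, 0, 2, 0, 2, 0, 2, 0, 2] ∨
        r = [0, 1, 2, 0, 1, 2, 0, 1, 2] ++ [4] by
          simp only [Five.Big.cert, List.mem_cons, List.not_mem_nil, or_false, List.cons_append,
            List.nil_append] at hr ⊢
          tauto) with h | rfl | rfl
      exacts [base r h, ⟨by decide, r5⟩, ⟨by decide, r3⟩]
    let M := mk Five.Big.cert ⊥ rfl rfl hrels (fun r hr => by simp [Five.Big.cert] at hr)
    have word : ∀ w : List ℕ, (∀ i ∈ w, i < 5) → Five.Big.cert.walk 1000000 w 0 = some 0 →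
        π (w.map fun i => gen i).prod = 1 := fun w hw h => by
      have h1 : (w.map γ).prod = 1 := Five.word_eq_one Five.Big.valid M rfl h
      have h2 : ((w.map γ).prod : C ⧸ E) = 1 := congrArg Subtype.val h1
      rw [Subgroup.val_list_prod, List.map_map] at h2
      rw [map_list_prod, List.map_map]
      refine Eq.trans (congrArg List.prod (List.map_congr_left fun i hi => ?_)) h2
      exact (hγ i (hw i hi)).symm
    -- the element of order five
    set U : C := ([0, 3, 2, 0, 2, 1, 3, 2, 0, 2].map fun i => gen i).prod with hUdef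
    set Y : C := ([0, 1, 3, 4].map fun i => gen i).prod with hYdef
    have hYG : (Y : G) = S.φ (sF 0 * tF * (eF * (zF * eF * zF⁻¹))) := by
      rw [map_mul S.φ (sF 0 * tF), map_mul S.φ (sF 0), map_mul S.φ eF, hφe, S.φ_tF, ← hψh,
        hYdef]
      simp [gen, mul_assoc, hadef]
    have hYc : Nat.card (centralizer ({(Y : G)} : Set G)) = 36 := by
      obtain ⟨k, hk⟩ := exists_conj_diag
      rw [hYG, ← hk, map_mul, map_mul, map_inv, card_cent_conj, map_mul, S.φ_zF, S.φ_dF,
        show S.ψ dF * S.ψ zF = S.ψ zF * S.ψ dF from (S.map_comm facts_comm.1).symm]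
      exact S.card_y
    have hY3 : (Y : G) ^ 3 = 1 := by
      obtain ⟨k, hk⟩ := exists_conj_diag
      rw [hYG, ← hk, ← map_pow, conj_pow, show (zF * dF) ^ 3 = (1 : KF) by decide +kernel,
        mul_one, mul_inv_cancel, map_one]
    have einv : e⁻¹ = e := inv_eq_of_mul_eq_one_right (by rw [hedef, ← map_mul, ee, map_one])
    have hcomm : π (U * Y * U⁻¹ * Y⁻¹) = 1 := by
      have h := word _ (by decide) Five.walk_comm
      rw [← h]
      refine congrArg π ?_
      have gi : ∀ i < 5, (gen i)⁻¹ = gen i := fun i hi => by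
        refine inv_eq_of_mul_eq_one_right (Subtype.ext ?_)
        interval_cases i <;> simp only [gen, Subgroup.coe_mul, Subgroup.coe_one]
        · exact ainv
        all_goals first
          | rw [← map_mul, tt, map_one]
          | rw [← map_mul, cc, map_one]
          | rw [← map_mul, ff, map_one]
          | rw [← map_mul, hh, map_one]
      simp [hUdef, hYdef, mul_assoc, gi]
    have h5' : π (U ^ 5) = 1 := by
      rw [← word _ (by decide) Five.walk_five]
      refine congrArg π ?_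
      simp [hUdef, pow_succ, mul_assoc]
    have hUY : (U : G) * Y = Y * U := by
      rcases hE _ hcomm with h | h <;>
        simp only [Subgroup.coe_mul, InvMemClass.coe_inv] at h
      · exact mul_inv_eq_iff_eq_mul.1 (mul_inv_eq_one.1 h)
      · exfalso
        have h1 : (U : G) * Y * (U : G)⁻¹ = e * Y := mul_inv_eq_iff_eq_mul.1 h
        have h2 : ((U : G) * Y * (U : G)⁻¹) ^ 3 = 1 := by rw [conj_pow, hY3, mul_one, mul_inv_cancel]
        have hc : Commute e (Y : G) := (mem_centralizer_singleton_iff.1 Y.2).symm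
        rw [h1, hc.mul_pow, hY3, mul_one] at h2
        have he1 : e = 1 := by
          have h3' : e * e = 1 := by rw [hedef, ← map_mul, ee, map_one]
          calc e = e * (e * e) := by rw [h3', mul_one]
            _ = 1 := by rw [← h2]; simp only [pow_succ, pow_zero, one_mul, mul_assoc]
        exact absurd (S.inj (he1.trans (map_one S.ψ).symm)) (by decide +kernel)
    have hU36 : (U : G) ^ 36 = 1 := by
      have h := pow_card_eq_one' (x := (⟨(U : G), mem_centralizer_singleton_iff.2 hUY⟩ :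
        centralizer ({(Y : G)} : Set G)))
      rw [hYc] at h
      exact congrArg Subtype.val h
    have hU1 : π U = 1 := by
      have e10 : (U : G) ^ 10 = 1 := by
        rcases hE _ h5' with h | h <;> rw [SubmonoidClass.coe_pow] at h <;>
          rw [show 10 = 5 * 2 from rfl, pow_mul, h]
        · exact one_pow 2
        · rw [pow_two, hedef, ← map_mul, ee, map_one]
      have e2 : (U : G) ^ 2 = 1 := by
        have := pow_gcd_eq_one.2 ⟨e10, hU36⟩
        simpa using this
      have : U = U ^ 5 := Subtype.ext (by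
        rw [SubmonoidClass.coe_pow, show 5 = 2 * 2 + 1 from rfl, pow_succ, pow_mul, e2, one_pow,
          one_mul])
      rw [this]; exact h5'
    -- so `a = c` modulo `e`
    have hw := word _ (by decide) Five.walk_ac
    simp only [List.map, List.prod_cons, List.prod_nil, mul_one, map_mul] at hw
    have hu := hU1
    simp only [hUdef, List.map, List.prod_cons, List.prod_nil, mul_one, map_mul] at hu
    have pinv : ∀ i < 5, π (gen i) * π (gen i) = 1 := fun i hi => by
      rw [← hγ i hi, ← Subgroup.coe_mul, inv2 i hi, Subgroup.coe_one]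
    have hac := Five.ac_of_trivial (π (gen 0)) (π (gen 1)) (π (gen 2)) (π (gen 3)) (π (gen 4))
      (pinv 0 (by norm_num)) (pinv 1 (by norm_num)) (pinv 2 (by norm_num)) (pinv 4 (by norm_num))
      hu hw (pinv 3 (by norm_num))
    refine hrange (gen 2) ?_ ⟨cF, rfl⟩
    rw [mul_eq_one_iff_eq_inv.1 hac]
    exact (inv_eq_of_mul_eq_one_right (pinv 2 (by norm_num))).symm
  · refine collapse Five.C10.cert Five.C10.valid rfl rfl rfl (fun r hr => ?_) rfl
    rcases (show r ∈ ([[0, 1, 0, 1, 0, 1], [1, 2, 1, 2, 1, 2], [2, 3, 2, 3, 2, 3],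
      [3, 4, 3, 4, 3, 4], [0, 3, 0, 3], [0, 4, 0, 4], [1, 3, 1, 3], [1, 4, 1, 4],
      [2, 4, 2, 4]] : List (List ℕ)) ∨ r = [0, 2, 0, 2, 0, 2, 0, 2, 0, 2] ++ [4] ∨
      r = [0, 1, 2, 0, 1, 2, 0, 1, 2] by
        simp only [Five.C10.cert, List.mem_cons, List.not_mem_nil, or_false, List.cons_append,
          List.nil_append] at hr ⊢
        tauto) with h | rfl | rfl
    exacts [base r h, ⟨by decide, r5⟩, ⟨by decide, r3⟩]
  · refine collapse Five.C11.cert Five.C11.valid rfl rfl rfl (fun r hr => ?_) rfl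
    rcases (show r ∈ ([[0, 1, 0, 1, 0, 1], [1, 2, 1, 2, 1, 2], [2, 3, 2, 3, 2, 3],
      [3, 4, 3, 4, 3, 4], [0, 3, 0, 3], [0, 4, 0, 4], [1, 3, 1, 3], [1, 4, 1, 4],
      [2, 4, 2, 4]] : List (List ℕ)) ∨ r = [0, 2, 0, 2, 0, 2, 0, 2, 0, 2] ++ [4] ∨
      r = [0, 1, 2, 0, 1, 2, 0, 1, 2] ++ [4] by
        simp only [Five.C11.cert, List.mem_cons, List.not_mem_nil, or_false, List.cons_append,
          List.nil_append] at hr ⊢
        tauto) with h | rfl | rfl
    exacts [base r h, ⟨by decide, r5⟩, ⟨by decide, r3⟩]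

end Setup

end main

end CfsgLib.SEightThree
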