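import Cfsg.Agent.Lib.SEightThree.KStruct.SevenCase
import Cfsg.Agent.S3331

/-!
When the centralizer of the four-group is small, the centralizer `K` of two transpositions has
quotient alternating of degree five by `Z`, with the relations `Setup.BadFive`.
-/

set_option autoImplicit false
set_option linter.style.haveILetI false
set_option linter.unusedSectionVars false
set_option maxRecDepth 100000

namespace CfsgLib.SEightThree

open Subgroup Equiv KStruct

universe u

attribute [local instance] Z_normal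

theorem KStruct.xbar_ne : ∀ p q : Fin 2, xF ≠ eF ^ (p : ℕ) * hF ^ (q : ℕ) ∧
    tF ≠ eF ^ (p : ℕ) * hF ^ (q : ℕ) ∧ cF ≠ eF ^ (p : ℕ) * hF ^ (q : ℕ) := by
  decide +kernel

/-- The quotient by `Z` is alternating of degree five, with the relations to be refuted. -/
theorem Setup.badFive {G : Type u} [Group G] [Finite G] (S : Setup G) (hS : S.IsSym)
    (hW : centralizer (S.V : Set G) ≤ S.ψ.range) : S.BadFive := by
  classical
  obtain ⟨haK, -, ha2, hat3⟩ := a_facts S hS
  set π := QuotientGroup.mk' (S.Z.subgroupOf S.K) with hπ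
  have hker : ∀ y : S.K, π y = 1 ↔ (y : G) ∈ S.Z := fun y =>
    (QuotientGroup.eq_one_iff (N := S.Z.subgroupOf S.K) y).trans Subgroup.mem_subgroupOf
  set xb := π ⟨S.ψ xF, x_mem_K S⟩ with hxb
  have hxb1 : xb ≠ 1 := fun h => by
    obtain ⟨p, q, e⟩ := (mem_Z S).1 ((hker _).1 h)
    exact (xbar_ne p q).1 (S.inj e)
  haveI := Fact.mk Nat.prime_three
  have hxo : orderOf xb = 3 := orderOf_eq_prime (by
    rw [hxb, ← map_pow, show (⟨S.ψ xF, x_mem_K S⟩ : S.K) ^ 3 = 1 from Subtype.ext (x_cube S),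
      map_one]) hxb1
  have hX : Nat.card (zpowers xb) = 3 := by rw [Nat.card_zpowers, hxo]
  have hC : centralizer (zpowers xb : Set (Kb S)) = zpowers xb := by
    refine le_antisymm (fun b hb => ?_) (fun b hb => mem_centralizer_iff.2 fun y hy => ?_)
    · obtain ⟨y, rfl⟩ := QuotientGroup.mk'_surjective _ b
      have hc : π y * xb = xb * π y := (mem_centralizer_iff.1 hb xb (mem_zpowers xb)).symm
      have hz : (((⟨S.ψ xF, x_mem_K S⟩ * y)⁻¹ * (y * ⟨S.ψ xF, x_mem_K S⟩) : S.K) : G) ∈ S.Z := by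
        rw [← hker, map_mul π _ _, map_inv, map_mul, map_mul, ← hxb, hc, inv_mul_cancel]
      have hyx : (y : G) * S.ψ xF = S.ψ xF * y := by
        refine comm_x_mod S hz ?_
        set w := (((⟨S.ψ xF, x_mem_K S⟩ * y)⁻¹ * (y * ⟨S.ψ xF, x_mem_K S⟩) : S.K) : G) with hw
        have e : (y : G) * S.ψ xF = S.ψ xF * y * w := by
          simp only [w, Subgroup.coe_mul, Subgroup.coe_inv]; group
        rw [e, mul_assoc (S.ψ xF) (y : G) w, (Z_comm S hz y.2).eq, ← mul_assoc,
          mul_inv_cancel_right]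
      obtain ⟨i, ζ, hζ, hy⟩ := cent_x S hS y.2 hyx
      refine mem_zpowers_iff.2 ⟨(i : ℕ), ?_⟩
      rw [zpow_natCast, hxb, ← map_pow]
      refine QuotientGroup.eq.2 (Subgroup.mem_subgroupOf.2 ?_)
      push_cast
      rw [hy, inv_mul_cancel_left]
      exact hζ
    · obtain ⟨i, rfl⟩ := mem_zpowers_iff.1 hy
      obtain ⟨j, rfl⟩ := mem_zpowers_iff.1 hb
      exact (Commute.zpow_zpow (Commute.refl xb) i j).eq
  rcases Cfsg.Agent.S3331.result (zpowers xb) hX hC with
    ⟨Nb, hNn, hnil, h3, hq⟩ | ⟨Nb, hNn, -, hN2, ⟨f⟩⟩ | ⟨⟨f⟩⟩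
  · -- the quotient by a nilpotent subgroup has order three or six
    exfalso
    refine not_nilpotent_case S hS hW Nb hNn hnil h3 ?_
    rw [Subgroup.index_eq_card]
    rcases hq with h | ⟨⟨e⟩⟩
    · rw [h]; norm_num
    · rw [Nat.card_congr e.toEquiv, Nat.card_eq_fintype_card, Fintype.card_perm, Fintype.card_fin]
      rfl
  · -- alternating of degree five
    have hbot : Nb = ⊥ := quot_two_eq_bot S hS hW Nb hNn
      (fun b => ⟨1, Subtype.ext (by rw [pow_one]; exact hN2 b b.2)⟩)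
    let F : Kb S →* Perm (Fin 5) := ((alternatingGroup (Fin 5)).subtype.comp f.toMonoidHom).comp
      (QuotientGroup.mk' Nb)
    have hFinj : Function.Injective F := by
      rw [injective_iff_map_eq_one]
      intro b hb
      have h1 : f (b : Kb S ⧸ Nb) = 1 := Subtype.ext hb
      rw [← map_one f] at h1
      have h2 := (QuotientGroup.eq_one_iff b).1 (f.injective h1)
      rwa [hbot, Subgroup.mem_bot] at h2
    have hsign : ∀ b, Perm.sign (F b) = 1 := fun b =>
      Perm.mem_alternatingGroup.1 (f (b : Kb S ⧸ Nb)).2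
    set Fπ := F.comp π with hFπ
    have h0 : ∀ y : S.K, Fπ y = 1 ↔ (y : G) ∈ S.Z := fun y => by
      rw [← hker, ← hFinj.eq_iff, map_one]; rfl
    set aK : S.K := ⟨S.φ (sF 0), haK⟩
    set tK : S.K := ⟨S.ψ tF, t_mem_K S⟩
    set cK : S.K := ⟨S.ψ cF, c_mem_K S⟩
    have hsqz : ∀ y : S.K, (y : G) * y = 1 → Fπ y * Fπ y = 1 := fun y h => by
      rw [← map_mul, show y * y = 1 from Subtype.ext h, map_one]
    have hne : ∀ y : S.K, (y : G) ∉ S.Z → Fπ y ≠ 1 := fun y h e => h ((h0 y).1 e)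
    have hdiff : ∀ y w : S.K, Fπ y = Fπ w → (w : G)⁻¹ * y ∈ S.Z := fun y w h => by
      have := (h0 (w⁻¹ * y)).1 (by rw [map_mul, map_inv, h, inv_mul_cancel])
      exact this
    have haZ : (aK : G) ∉ S.Z := fun h => a_notMem S hS 0 0 h (by
      simp only [Fin.val_zero, pow_zero, one_mul]; rfl)
    have htZ : (tK : G) ∉ S.Z := fun h => by
      obtain ⟨p, q, e⟩ := (mem_Z S).1 h
      exact (xbar_ne p q).2.1 (S.inj e)
    have hcZ : (cK : G) ∉ S.Z := fun h => by
      obtain ⟨p, q, e⟩ := (mem_Z S).1 h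
      exact (xbar_ne p q).2.2 (S.inj e)
    have hat : Fπ aK ≠ Fπ tK := fun h => a_notMem S hS 0 1 (hdiff _ _ h) (by
      simp only [Fin.val_zero, pow_zero, one_mul, Fin.val_one, pow_one]
      exact (mul_inv_cancel_left _ _).symm)
    have htc : Fπ tK ≠ Fπ cK := fun h => by
      obtain ⟨p, q, e⟩ := (mem_Z S).1 (hdiff _ _ h.symm)
      refine (xbar_ne p q).1 (S.inj ?_)
      rw [← e, rel_facts.2.2.1, map_mul]
      show S.ψ tF * S.ψ cF = (S.ψ tF)⁻¹ * S.ψ cF
      rw [inv_of_sq S rel_facts.1.2.2.2.1]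
    have hab : (Fπ aK * Fπ tK) ^ 3 = 1 := by
      rw [← map_mul, ← map_pow, show (aK * tK) ^ 3 = 1 from Subtype.ext hat3, map_one]
    have hbc : (Fπ tK * Fπ cK) ^ 3 = 1 := by
      rw [← map_mul, ← map_pow, show (tK * cK) ^ 3 = 1 from Subtype.ext (by
        show (S.ψ tF * S.ψ cF) ^ 3 = 1
        rw [← map_mul, ← rel_facts.2.2.1]; exact x_cube S), map_one]
    rcases five_cases (Fπ aK) (hsign _) (hsqz aK ha2) (hne _ haZ) (Fπ tK) (hsign _)
        (hsqz tK (psi_sq S rel_facts.1.2.2.2.1)) (hne _ htZ) hat hab (Fπ cK) (hsign _)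
        (hsqz cK (psi_sq S rel_facts.1.2.2.1)) (hne _ hcZ) htc hbc with h | h | ⟨h5, h3'⟩
    · exfalso
      refine a_notMem S hS 2 1 (hdiff _ _ h) ?_
      show S.φ (sF 0) = S.ψ xF ^ 2 * S.ψ tF ^ 1 * ((S.ψ cF)⁻¹ * S.φ (sF 0))
      rw [pow_one, ← c_eq, mul_inv_cancel_left]
    · exfalso
      rw [← map_mul, ← map_mul] at h
      refine a_notMem S hS 1 1 (hdiff _ _ h) ?_
      show S.φ (sF 0) = S.ψ xF ^ 1 * S.ψ tF ^ 1 * ((S.ψ tF * S.ψ cF * S.ψ tF)⁻¹ * S.φ (sF 0))
      rw [pow_one, pow_one, ← tct_eq, mul_inv_cancel_left]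
    · refine ⟨?_, ?_⟩
      · exact (h0 ((aK * cK) ^ 5)).1 (by rw [map_pow, map_mul]; exact h5)
      · exact (h0 ((aK * tK * cK) ^ 3)).1 (by rw [map_pow, map_mul, map_mul]; exact h3')
  · exact (not_seven_case S hS hW f).elim

end CfsgLib.SEightThree
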