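import Cfsg.Agent.Lib.SEightThree.SymIso.Index
import Cfsg.Agent.Lib.AEightThree.Recognise

/-!
The configuration of the symmetric group: the group is symmetric of degree eight.
-/

set_option autoImplicit false

namespace CfsgLib.SEightThree

universe u

/-- If the two copies of `Sym 5` overlap correctly then the group is `Sym 8`. -/
theorem Setup.iso_of_comm {G : Type u} [Group G] [Finite G] (S : Setup G) (hS : S.IsSym)
    (s : Fin 5) (hs : s = 0 ∨ s = 1) (hc : Commute (S.φ (sF s)) (S.ψ cF)) :
    Nonempty (G ≃* Equiv.Perm (Fin 8)) := by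
  obtain ⟨S', hS', hc'⟩ := SymIso.exists_setup_zero S hS s hs hc
  obtain ⟨E⟩ := SymIso.exists_emb8 S' hS' hc'
  exact E.iso_of_recognition fun _ em => em.iso

end CfsgLib.SEightThree
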