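import Cfsg.Agent.Lib.SEightThree.Basic
import Mathlib.GroupTheory.SpecificGroups.Alternating.Simple

/-!
Facts about `Sym 5` used for the centralizer of the four-group.
-/

set_option autoImplicit false
set_option maxRecDepth 100000
set_option synthInstance.maxSize 4096
set_option linter.style.haveILetI false

namespace CfsgLib.SEightThree

open Equiv

/-- The three-cycle in `Sym 5`. -/
abbrev d5 : Perm (Fin 5) := swap 2 3 * swap 3 4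

/-- The double transpositions `(s 4)(2 3)`. -/
abbrev u5 (s : Fin 5) : Perm (Fin 5) := swap s 4 * swap 2 3

/-- The conjugates of `u5 s` under `d5`. -/
abbrev InOrb (s : Fin 5) (x : Perm (Fin 5)) : Prop :=
  x = u5 s ∨ x = d5 * u5 s * d5⁻¹ ∨ x = d5 * (d5 * u5 s * d5⁻¹) * d5⁻¹

/-- Of order prime to three. -/
abbrev NoThree (x : Perm (Fin 5)) : Prop := x ^ 4 = 1 ∨ x ^ 5 = 1

theorem pick_decide : ∀ p : Perm (Fin 5), p * d5 ≠ d5 * p → p * d5 * p⁻¹ ≠ d5⁻¹ →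
    (InOrb 0 (p * d5 * p⁻¹ * d5) ∨ InOrb 1 (p * d5 * p⁻¹ * d5)) ∨
    (InOrb 0 (p * d5 * p⁻¹ * d5⁻¹) ∨ InOrb 1 (p * d5 * p⁻¹ * d5⁻¹)) ∨
    (InOrb 0 (p * d5 * p⁻¹ * d5 * (p * d5 * p⁻¹)⁻¹ * d5) ∨
      InOrb 1 (p * d5 * p⁻¹ * d5 * (p * d5 * p⁻¹)⁻¹ * d5)) ∨
    (InOrb 0 (p * d5 * p⁻¹ * d5 * (p * d5 * p⁻¹)⁻¹ * d5⁻¹) ∨
      InOrb 1 (p * d5 * p⁻¹ * d5 * (p * d5 * p⁻¹)⁻¹ * d5⁻¹)) := by
  decide +kernel

theorem orbit_decide : ∀ c : Perm (Fin 5), c * d5 ≠ d5 * c → NoThree c →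
    NoThree (c * (d5 * c * d5⁻¹)) → NoThree (c * (d5 * (d5 * c * d5⁻¹) * d5⁻¹)) →
    ((c ^ 5 = 1 ∧ c ≠ 1) ∨ ((c * (d5 * c * d5⁻¹)) ^ 5 = 1 ∧ c * (d5 * c * d5⁻¹) ≠ 1) ∨
      ((c * (d5 * (d5 * c * d5⁻¹) * d5⁻¹)) ^ 5 = 1 ∧ c * (d5 * (d5 * c * d5⁻¹) * d5⁻¹) ≠ 1)) ∨
    InOrb 0 c ∨ InOrb 1 c := by
  decide +kernel

theorem excl_decide : ∀ s : Fin 5, s = 0 ∨ s = 1 → ∀ p : Perm (Fin 5), NoThree p →
    NoThree (p * (d5 * p * d5⁻¹)) → NoThree (p * (d5 * (d5 * p * d5⁻¹) * d5⁻¹)) →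
    NoThree (p * u5 s) → NoThree (p * (d5 * u5 s * d5⁻¹)) →
    NoThree (p * (d5 * (d5 * u5 s * d5⁻¹) * d5⁻¹)) → p = 1 ∨ InOrb s p := by
  intro s hs
  rcases hs with rfl | rfl <;> decide +kernel

theorem noThree_of_pow : ∀ x : Perm (Fin 5), x ^ 20 = 1 → NoThree x := by decide +kernel

theorem five_words :
    ((aF.2 * (fF * tF).2 * bF.2) ^ 5 = 1 ∧ aF.2 * (fF * tF).2 * bF.2 ≠ 1) ∧
    ∀ s : Fin 5, s = 0 ∨ s = 1 →
      (u5 s * (fF * tF).2 * d5) ^ 5 = 1 ∧ u5 s * (fF * tF).2 * d5 ≠ 1 := by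
  decide +kernel

theorem word_t : tF = aF * (tF * aF * tF⁻¹) * aF * fF ∧ aF * tF ≠ tF * aF := by decide +kernel

theorem sF_eq : ∀ s : Fin 5, s = 0 ∨ s = 1 → sF s = uF s * fF ∧
    fF * uF s = uF s * fF ∧ eF * uF s = uF s * eF ∧ zF * uF s = uF s * zF ∧
    dF * uF s ≠ uF s * dF ∧
    uF s = dF * (dF * uF s * dF⁻¹ * (uF s)⁻¹) * dF⁻¹ ∧
    ∀ o : Perm (Fin 5), InOrb s o → (1, o) * fF = fF * ((1, o) : KF) → o = u5 s := by
  intro s hs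
  rcases hs with rfl | rfl <;> refine ⟨?_, ?_, ?_, ?_, ?_, ?_, ?_⟩ <;> decide +kernel

theorem even_facts : Perm.sign aF.2 = 1 ∧ Perm.sign bF.2 = 1 ∧
    Perm.sign (tF * aF * tF⁻¹).2 = 1 ∧ Perm.sign d5 = 1 ∧ d5 ^ 3 = 1 ∧ d5 ≠ 1 := by
  decide +kernel

theorem small_facts : eF * aF = aF * eF ∧ eF * bF = bF * eF ∧ aF * aF = 1 ∧ bF * bF = 1 ∧
    aF * bF = bF * aF ∧ cF * zF = zF * cF ∧ cF * eF = eF * cF ∧
    (dF⁻¹ * aF * dF = bF ∧ dF⁻¹ * bF * dF = aF * bF) ∧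
    (zF⁻¹ * aF * zF = aF ∧ zF⁻¹ * bF * zF = bF) ∧
    (cF⁻¹ * aF * cF = bF ∧ cF⁻¹ * bF * cF = aF) ∧
    (dF * (zF * dF⁻¹) = zF * dF⁻¹ * dF ∧ eF * (zF * dF⁻¹) * eF⁻¹ = (zF * dF)⁻¹) := by
  refine ⟨?_, ?_, ?_, ?_, ?_, ?_, ?_, ⟨?_, ?_⟩, ⟨?_, ?_⟩, ⟨?_, ?_⟩, ⟨?_, ?_⟩⟩ <;> decide +kernel

theorem three_cycle_cases : ∀ σ : Perm (Fin 3), σ ≠ 1 →
    σ = swap 0 1 * swap 1 2 ∨ σ = (swap 0 1 * swap 1 2)⁻¹ ∨
    swap 0 1 * swap 1 2 * σ * (swap 0 1 * swap 1 2)⁻¹ * σ⁻¹ = swap 0 1 * swap 1 2 ∨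
    swap 0 1 * swap 1 2 * σ * (swap 0 1 * swap 1 2)⁻¹ * σ⁻¹ = (swap 0 1 * swap 1 2)⁻¹ := by
  decide +kernel

theorem dF_pows : ∀ i j : Fin 3, zF ^ i.1 * dF ^ j.1 ≠ 1 →
    (i = 1 ∧ j = 0) ∨ (i = 2 ∧ j = 0) ∨ (i = 0 ∧ j = 1) ∨ (i = 0 ∧ j = 2) ∨
      zF ^ i.1 * dF ^ j.1 = zF * dF ∨ zF ^ i.1 * dF ^ j.1 = (zF * dF)⁻¹ ∨
      zF ^ i.1 * dF ^ j.1 = zF * dF⁻¹ ∨ zF ^ i.1 * dF ^ j.1 = (zF * dF⁻¹)⁻¹ := by
  decide +kernel

/-- The double transpositions fixing the first letter, with the identity. -/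
abbrev InV4 (k : KF) : Prop := k = 1 ∨ k = aF ∨ k = bF ∨ k = aF * bF

theorem inV4_facts : (InV4 1) ∧ (∀ i : Fin 4, ∀ j : Fin 4,
    InV4 (![1, aF, bF, aF * bF] i * ![1, aF, bF, aF * bF] j)) ∧
    (∀ i : Fin 4, InV4 (![1, aF, bF, aF * bF] i)⁻¹) ∧
    Function.Injective ![1, aF, bF, aF * bF] := by
  refine ⟨?_, ?_, ?_, ?_⟩ <;> decide +kernel

theorem inV4_vec : ∀ i : Fin 4, InV4 (![1, aF, bF, aF * bF] i) := by decide +kernel

theorem v4_cases : ∀ p : Perm (Fin 5), p * aF.2 = aF.2 * p → p * bF.2 = bF.2 * p →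
    p = 1 ∨ p = aF.2 ∨ p = bF.2 ∨ p = aF.2 * bF.2 := by
  decide +kernel

theorem v4_small : (∀ σ : Perm (Fin 3), σ ^ 6 = 1) ∧ aF.2 ^ 2 = 1 ∧ bF.2 ^ 2 = 1 ∧
    (aF.2 * bF.2) ^ 2 = 1 ∧ aF.2 * d5 ≠ d5 * aF.2 ∧ bF.2 * d5 ≠ d5 * bF.2 ∧
    aF.2 * bF.2 * d5 ≠ d5 * (aF.2 * bF.2) ∧
    (∀ σ : Perm (Fin 3), σ * (swap 0 1 * swap 1 2) = swap 0 1 * swap 1 2 * σ →
      ∃ i : Fin 3, σ = (swap 0 1 * swap 1 2) ^ i.1) := by
  refine ⟨?_, ?_, ?_, ?_, ?_, ?_, ?_, ?_⟩ <;> decide +kernel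

theorem centV_decide (k : KF) (ha : k * aF = aF * k) (hb : k * bF = bF * k) :
    k ^ 6 = 1 ∧ (k * dF = dF * k → k.2 = 1) := by
  obtain ⟨h6, ha2, hb2, hab2, hna, hnb, hnab, -⟩ := v4_small
  rcases v4_cases k.2 (congrArg Prod.snd ha) (congrArg Prod.snd hb) with h | h | h | h <;>
    refine ⟨Prod.ext (h6 k.1) ?_, fun hd => ?_⟩
  all_goals first
    | exact h
    | (show k.2 ^ 6 = 1
       rw [h, show (6 : ℕ) = 2 * 3 from rfl, pow_mul]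
       simp [ha2, hb2, hab2])
    | (have e : k.2 * d5 = d5 * k.2 := congrArg Prod.snd hd
       rw [h] at e
       first | exact absurd e hna | exact absurd e hnb | exact absurd e hnab)

theorem cent_zV (k : KF) (ha : k * aF = aF * k) (hb : k * bF = bF * k)
    (hz : k * zF = zF * k) : ∃ i : Fin 3, ∃ v : KF, InV4 v ∧ k = zF ^ i.1 * v := by
  obtain ⟨i, hi⟩ := v4_small.2.2.2.2.2.2.2 k.1 (congrArg Prod.fst hz)
  have e : ∀ v : KF, v.1 = 1 → v.2 = k.2 → k = zF ^ i.1 * v := fun v h1 h2 => Prod.ext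
    (by rw [Prod.fst_mul, Prod.pow_fst, h1, mul_one, hi]; rfl)
    (by rw [Prod.snd_mul, Prod.pow_snd, show zF.2 = 1 from rfl, one_pow, one_mul, h2])
  refine ⟨i, ?_⟩
  rcases v4_cases k.2 (congrArg Prod.snd ha) (congrArg Prod.snd hb) with h | h | h | h
  · exact ⟨1, Or.inl rfl, e 1 rfl h.symm⟩
  · exact ⟨aF, Or.inr (Or.inl rfl), e aF rfl h.symm⟩
  · exact ⟨bF, Or.inr (Or.inr (Or.inl rfl)), e bF rfl h.symm⟩
  · exact ⟨aF * bF, Or.inr (Or.inr (Or.inr rfl)), e _ (by simp [aF, bF]) h.symm⟩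

theorem perm_five_forty (x : Perm (Fin 5)) (h : x ^ 40 = 1) : x ^ 20 = 1 := by
  have key : ∀ x : Perm (Fin 5), x ^ 4 ≠ 1 → x ^ 5 ≠ 1 → x ^ 6 = 1 := by decide +kernel
  by_cases h4 : x ^ 4 = 1
  · rw [show 20 = 4 * 5 from rfl, pow_mul, h4, one_pow]
  by_cases h5 : x ^ 5 = 1
  · rw [show 20 = 5 * 4 from rfl, pow_mul, h5, one_pow]
  have h2 : x ^ 2 = 1 := by
    have := pow_gcd_eq_one.2 ⟨h, key x h4 h5⟩
    simpa using this
  rw [show 20 = 2 * 10 from rfl, pow_mul, h2, one_pow]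

theorem orb_mul : ∀ s : Fin 5, s = 0 ∨ s = 1 → ∀ o o' : Perm (Fin 5), InOrb s o → InOrb s o' →
    o * o' = 1 ∨ InOrb s (o * o') := by
  intro s hs o o' ho ho'
  rcases hs with rfl | rfl <;> rcases ho with rfl | rfl | rfl <;>
    rcases ho' with rfl | rfl | rfl <;> decide +kernel

theorem orb_inv : ∀ s : Fin 5, s = 0 ∨ s = 1 → ∀ o : Perm (Fin 5), InOrb s o → o⁻¹ = o := by
  intro s hs o ho
  rcases hs with rfl | rfl <;> rcases ho with rfl | rfl | rfl <;> decide +kernel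

/-- A subgroup containing the three-cycle and a five-cycle contains all even permutations. -/
theorem even_mem (H : Subgroup (Perm (Fin 5))) {p : Perm (Fin 5)} (hp : p ^ 5 = 1) (hp1 : p ≠ 1)
    (hd : d5 ∈ H) (hpH : p ∈ H) {q : Perm (Fin 5)} (hq : Perm.sign q = 1) : q ∈ H := by
  classical
  haveI : Fact (Nat.Prime 5) := ⟨by norm_num⟩
  haveI : Fact (Nat.Prime 3) := ⟨by norm_num⟩
  have hA : p ∈ alternatingGroup (Fin 5) := by
    rw [Perm.mem_alternatingGroup]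
    have h := congrArg Perm.sign hp
    rw [map_pow, map_one] at h
    rcases Int.units_eq_one_or (Perm.sign p) with e | e
    · exact e
    · rw [e] at h; exact absurd h (by decide)
  let K := H.subgroupOf (alternatingGroup (Fin 5))
  let p' : K := ⟨⟨p, hA⟩, hpH⟩
  let d' : K := ⟨⟨d5, Perm.mem_alternatingGroup.2 even_facts.2.2.2.1⟩, hd⟩
  have h5 : 5 ∣ Nat.card K := by
    have : orderOf p' = 5 := orderOf_eq_prime (Subtype.ext (Subtype.ext hp))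
      (fun h => hp1 (congrArg (fun w : K => ((w : alternatingGroup (Fin 5)) : Perm (Fin 5))) h))
    exact (dvd_of_eq this.symm).trans (orderOf_dvd_natCard p')
  have h3 : 3 ∣ Nat.card K := by
    have : orderOf d' = 3 := orderOf_eq_prime (Subtype.ext (Subtype.ext even_facts.2.2.2.2.1))
      (fun h => even_facts.2.2.2.2.2
        (congrArg (fun w : K => ((w : alternatingGroup (Fin 5)) : Perm (Fin 5))) h))
    exact (dvd_of_eq this.symm).trans (orderOf_dvd_natCard d')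
  have h60 : Nat.card (alternatingGroup (Fin 5)) = 60 := by
    rw [nat_card_alternatingGroup, Nat.card_fin]; rfl
  have hidx : K.index ∣ 4 := by
    obtain ⟨c, hc⟩ := Nat.Coprime.mul_dvd_of_dvd_of_dvd (by norm_num) h3 h5
    have h := K.card_mul_index
    rw [hc, h60] at h
    exact ⟨c, Nat.eq_of_mul_eq_mul_left (by norm_num : 0 < 15) (by linarith)⟩
  let f := MulAction.toPermHom (alternatingGroup (Fin 5)) (alternatingGroup (Fin 5) ⧸ K)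
  have hle : K.normalCore = f.ker := Subgroup.normalCore_eq_ker K
  have hpk : (p' : alternatingGroup (Fin 5)) ∈ K.normalCore := by
    rw [hle, MonoidHom.mem_ker, ← orderOf_eq_one_iff]
    have h1 : orderOf (f p') ∣ 5 := orderOf_dvd_of_pow_eq_one (by
      rw [← map_pow, show ((p' : alternatingGroup (Fin 5)) ^ 5) = 1 from Subtype.ext hp, map_one])
    have h2 : orderOf (f p') ∣ Nat.factorial K.index := by
      refine (orderOf_dvd_natCard _).trans (dvd_of_eq ?_)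
      rw [Nat.card_perm, Subgroup.index_eq_card]
    have h4 : Nat.factorial K.index ∣ 24 :=
      Nat.factorial_dvd_factorial (Nat.le_of_dvd (by norm_num) hidx)
    exact Nat.dvd_one.1 ((Nat.dvd_gcd h1 (h2.trans h4)).trans (by norm_num))
  rcases (inferInstance : K.normalCore.Normal).eq_bot_or_eq_top with hb | ht
  · rw [hb, Subgroup.mem_bot] at hpk
    exact absurd (congrArg Subtype.val hpk) hp1
  · have hmem : (⟨q, Perm.mem_alternatingGroup.2 hq⟩ : alternatingGroup (Fin 5)) ∈ K :=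
      K.normalCore_le (ht ▸ Subgroup.mem_top _)
    exact hmem

end CfsgLib.SEightThree
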