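import Cfsg.Agent.Lib.SEightThree.Common
import Cfsg.Agent.Lib.SEightThree.CentVFacts
import Cfsg.Agent.S3331
import Cfsg.Agent.Lib.Coprime.Action2
import Cfsg.Agent.Lib.Classical.Order

/-!
The centralizer of the four-group fixing one letter.
-/

set_option autoImplicit false
set_option linter.style.haveILetI false
set_option linter.unusedSectionVars false
set_option maxRecDepth 100000

namespace CfsgLib.SEightThree

open Subgroup Equiv
open scoped Pointwise

universe u

theorem normal_subgroupOf_center {G : Type u} [Group G] (C V : Subgroup G)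
    (h : C ≤ centralizer (V : Set G)) : (V.subgroupOf C).Normal := by
  constructor
  intro v hv c
  have h1 : (v : G) * c = c * v := mem_centralizer_iff.1 (h c.2) _ hv
  show ((c * v * c⁻¹ : C) : G) ∈ V
  rw [coe_mul, coe_mul, coe_inv, ← h1, mul_inv_cancel_right]
  exact hv

/-- A 3-group acting on the group of order `r` fixes it pointwise through a nontrivial element. -/
theorem exists_centralizing {G : Type u} [Group G] [Finite G] {r : ℕ} [Fact r.Prime]
    {A P : Subgroup G} (hAP : A ≤ normalizer (P : Set G)) (hP : Nat.card P = r)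
    (hA : ¬ Nat.card A ∣ r - 1) :
    ∃ a ∈ A, a ≠ 1 ∧ a ∈ centralizer (P : Set G) := by
  by_contra hno
  push Not at hno
  haveI : IsCyclic P := isCyclic_of_prime_card hP
  let f : A →* MulAut P := P.normalizerMonoidHom.comp (Subgroup.inclusion hAP)
  have hf : Function.Injective f := (injective_iff_map_eq_one f).2 fun a ha => by
    by_contra h1
    refine hno a a.2 (fun h => h1 (Subtype.ext h)) (mem_centralizer_iff.2 fun x hx => ?_)
    have h := congrArg (fun e : MulAut P => ((e ⟨x, hx⟩ : P) : G)) ha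
    change (a : G) * x * (a : G)⁻¹ = x at h
    exact (mul_inv_eq_iff_eq_mul.1 h).symm
  refine hA ?_
  have h := card_dvd_of_injective f hf
  rwa [IsCyclic.card_mulAut, hP, Nat.totient_prime Fact.out] at h

variable {G : Type u} [Group G] (S : Setup G)

namespace Setup

/-- The second factor as a map on five letters. -/
def φ₂ : Perm (Fin 5) →* G := S.φ.comp (MonoidHom.inr (Perm (Fin 3)) (Perm (Fin 5)))

theorem φ₂_apply (p : Perm (Fin 5)) : S.φ₂ p = S.φ (1, p) := rfl

theorem φ₂_d5 : S.φ₂ d5 = S.ψ zF := S.φ_dF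

theorem φ₂_u5 (s : Fin 5) : S.φ₂ (u5 s) = S.φ (uF s) := rfl

theorem φ₂_inj : Function.Injective S.φ₂ := fun p q h => congrArg Prod.snd (S.φ_inj h)

theorem mem_centV_iff {x : G} :
    x ∈ centralizer (S.V : Set G) ↔
      x * S.ψ aF = S.ψ aF * x ∧ x * S.ψ bF = S.ψ bF * x := by
  rw [Setup.V, centralizer_closure, mem_centralizer_iff]
  simp only [Set.mem_insert_iff, Set.mem_singleton_iff, forall_eq_or_imp, forall_eq]
  exact ⟨fun h => ⟨h.1.symm, h.2.symm⟩, fun h => ⟨h.1.symm, h.2.symm⟩⟩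

theorem z_mem_centV : S.ψ zF ∈ centralizer (S.V : Set G) :=
  S.mem_centV_iff.2 ⟨S.map_comm facts_comm.2.2.2.1, S.map_comm facts_comm.2.2.2.2.1⟩

theorem e_mem_centV : S.ψ eF ∈ centralizer (S.V : Set G) :=
  S.mem_centV_iff.2 ⟨S.map_comm small_facts.1, S.map_comm small_facts.2.1⟩

theorem V_le_centV : S.V ≤ centralizer (S.V : Set G) :=
  (closure_le _).2 (by
    rintro _ (rfl | rfl) <;> refine S.mem_centV_iff.2 ⟨S.map_comm ?_, S.map_comm ?_⟩
    exacts [rfl, small_facts.2.2.2.2.1, small_facts.2.2.2.2.1.symm, rfl])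

theorem ψ_mem_centV_left (σ : Perm (Fin 3)) : S.ψ (σ, 1) ∈ centralizer (S.V : Set G) :=
  S.mem_centV_iff.2 ⟨S.map_comm (Prod.ext ((mul_one σ).trans (one_mul σ).symm)
    ((one_mul _).trans (mul_one _).symm)), S.map_comm (Prod.ext
    ((mul_one σ).trans (one_mul σ).symm) ((one_mul _).trans (mul_one _).symm))⟩

/-- Conjugation by an element of the image fixing the four-group. -/
theorem conj_mem_centV {n : KF} (ha : n⁻¹ * aF * n ∈ closure ({aF, bF} : Set KF))
    (hb : n⁻¹ * bF * n ∈ closure ({aF, bF} : Set KF)) {x : G}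
    (hx : x ∈ centralizer (S.V : Set G)) : S.ψ n * x * (S.ψ n)⁻¹ ∈ centralizer (S.V : Set G) := by
  have hmap : (closure ({aF, bF} : Set KF)).map S.ψ = S.V := by
    rw [MonoidHom.map_closure, Set.image_pair]; rfl
  have key : ∀ c : KF, n⁻¹ * c * n ∈ closure ({aF, bF} : Set KF) →
      S.ψ n * x * (S.ψ n)⁻¹ * S.ψ c = S.ψ c * (S.ψ n * x * (S.ψ n)⁻¹) := by
    intro c hc
    have h1 : S.ψ (n⁻¹ * c * n) ∈ S.V := hmap ▸ mem_map_of_mem _ hc
    have h2 := (mem_centralizer_iff.1 hx _ h1)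
    rw [map_mul, map_mul, map_inv] at h2
    calc S.ψ n * x * (S.ψ n)⁻¹ * S.ψ c
        = S.ψ n * (x * ((S.ψ n)⁻¹ * S.ψ c * S.ψ n)) * (S.ψ n)⁻¹ := by group
      _ = S.ψ n * ((S.ψ n)⁻¹ * S.ψ c * S.ψ n * x) * (S.ψ n)⁻¹ := by rw [h2]
      _ = S.ψ c * (S.ψ n * x * (S.ψ n)⁻¹) := by group
  exact S.mem_centV_iff.2 ⟨key aF ha, key bF hb⟩

theorem d_conj_centV {x : G} (hx : x ∈ centralizer (S.V : Set G)) :
    S.ψ dF * x * (S.ψ dF)⁻¹ ∈ centralizer (S.V : Set G) :=
  S.conj_mem_centV (small_facts.2.2.2.2.2.2.2.1.1 ▸ subset_closure (Or.inr rfl))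
    (small_facts.2.2.2.2.2.2.2.1.2 ▸
      mul_mem (subset_closure (Or.inl rfl)) (subset_closure (Or.inr rfl))) hx

theorem c_conj_centV {x : G} (hx : x ∈ centralizer (S.V : Set G)) :
    S.ψ cF * x * (S.ψ cF)⁻¹ ∈ centralizer (S.V : Set G) :=
  S.conj_mem_centV (small_facts.2.2.2.2.2.2.2.2.2.1.1 ▸ subset_closure (Or.inr rfl))
    (small_facts.2.2.2.2.2.2.2.2.2.1.2 ▸ subset_closure (Or.inl rfl)) hx

theorem V_sq {v : G} (hv : v ∈ S.V) : v * v = 1 := by
  induction hv using closure_induction with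
  | mem y hy =>
    rcases hy with rfl | rfl
    · rw [← map_mul, small_facts.2.2.1, map_one]
    · rw [← map_mul, small_facts.2.2.2.1, map_one]
  | one => exact one_mul _
  | mul y w hy hw h1 h2 =>
    have hc : w * y = y * w := mem_centralizer_iff.1 (S.V_le_centV hy) w hw
    calc y * w * (y * w) = y * (w * y) * w := by group
      _ = y * y * (w * w) := by rw [hc]; group
      _ = 1 := by rw [h1, h2, one_mul]
  | inv y _ h => rw [← mul_inv_rev, h, inv_one]

theorem ψ_V4_mem {k : KF} (h : InV4 k) : S.ψ k ∈ S.V := by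
  have ha : S.ψ aF ∈ S.V := subset_closure (Or.inl rfl)
  have hb : S.ψ bF ∈ S.V := subset_closure (Or.inr rfl)
  rcases h with rfl | rfl | rfl | rfl
  · rw [map_one]; exact one_mem _
  · exact ha
  · exact hb
  · rw [map_mul]; exact mul_mem ha hb

theorem mem_V {x : G} (hx : x ∈ S.V) : ∃ i : Fin 4, S.ψ (![1, aF, bF, aF * bF] i) = x := by
  have idx : ∀ {k : KF}, InV4 k → ∃ i : Fin 4, ![1, aF, bF, aF * bF] i = k := by
    rintro k (rfl | rfl | rfl | rfl)
    exacts [⟨0, rfl⟩, ⟨1, rfl⟩, ⟨2, rfl⟩, ⟨3, rfl⟩]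
  induction hx using closure_induction with
  | mem y hy =>
    rcases hy with rfl | rfl
    exacts [⟨1, rfl⟩, ⟨2, rfl⟩]
  | one => exact ⟨0, map_one S.ψ⟩
  | mul y w _ _ h1 h2 =>
    obtain ⟨i, rfl⟩ := h1
    obtain ⟨j, rfl⟩ := h2
    obtain ⟨l, hl⟩ := idx (inV4_facts.2.1 i j)
    exact ⟨l, by rw [hl, map_mul]⟩
  | inv y _ h1 =>
    obtain ⟨i, rfl⟩ := h1
    obtain ⟨l, hl⟩ := idx (inV4_facts.2.2.1 i)
    exact ⟨l, by rw [hl, map_inv]⟩

theorem card_V : Nat.card S.V = 4 := by
  let f : Fin 4 → S.V := fun i => ⟨S.ψ (![1, aF, bF, aF * bF] i), S.ψ_V4_mem (inV4_vec i)⟩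
  have hf : Function.Bijective f := ⟨fun i j h => inV4_facts.2.2.2 (S.inj (congrArg Subtype.val h)),
    fun x => (S.mem_V x.2).imp fun i hi => Subtype.ext hi⟩
  rw [← Nat.card_eq_of_bijective f hf, Nat.card_fin]

/-- The even permutations of the second factor inside the centralizer of `V`. -/
abbrev H₂ : Subgroup (Perm (Fin 5)) := (centralizer (S.V : Set G)).comap S.φ₂

theorem d5_mem_H₂ : d5 ∈ S.H₂ := by
  show S.φ₂ d5 ∈ centralizer (S.V : Set G)
  rw [φ₂_d5]
  exact S.z_mem_centV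

theorem orb_eq (j : ℤ) (s : Fin 5) :
    S.φ (dF ^ j * uF s * dF ^ (-j)) = S.φ₂ (d5 ^ j * u5 s * d5 ^ (-j)) := by
  rw [φ₂_apply]
  congr 1
  exact Prod.ext (by simp [dF, uF]) rfl

theorem mem_of_inOrb {H : Subgroup (Perm (Fin 5))} (hd : d5 ∈ H) {s : Fin 5}
    {x : Perm (Fin 5)} (hx : InOrb s x) (h : x ∈ H) : u5 s ∈ H := by
  have conj : ∀ {y : Perm (Fin 5)}, d5 * y * d5⁻¹ ∈ H → y ∈ H := fun {y} hy => by
    have h1 := mul_mem (mul_mem (inv_mem hd) hy) hd
    simpa [mul_assoc] using h1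
  rcases hx with rfl | rfl | rfl
  exacts [h, conj h, conj (conj h)]

theorem orb_mem {H : Subgroup (Perm (Fin 5))} (hd : d5 ∈ H) {s : Fin 5}
    {x : Perm (Fin 5)} (hx : InOrb s x) (h : u5 s ∈ H) : x ∈ H := by
  rcases hx with rfl | rfl | rfl
  exacts [h, mul_mem (mul_mem hd h) (inv_mem hd),
    mul_mem (mul_mem hd (mul_mem (mul_mem hd h) (inv_mem hd))) (inv_mem hd)]

/-- An element outside the image centralizing `V` and `d` yields a four-group of the second
factor in the centralizer of `V`. -/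
theorem exists_s {x : G} (hx : x ∈ centralizer (S.V : Set G)) (hxd : x * S.ψ dF = S.ψ dF * x)
    (hxr : x ∉ S.ψ.range) :
    ∃ s : Fin 5, (s = 0 ∨ s = 1) ∧
      ∀ j : ℤ, S.φ (dF ^ j * uF s * dF ^ (-j)) ∈ centralizer (S.V : Set G) := by
  obtain ⟨k, rfl⟩ := S.cent_d_le (mem_centralizer_singleton_iff.2 hxd)
  have hq : S.φ (k * dF * k⁻¹) ∈ centralizer (S.V : Set G) := by
    rw [map_mul, map_mul, map_inv, φ_dF]
    exact mul_mem (mul_mem hx S.z_mem_centV) (inv_mem hx)
  have hk : k * dF * k⁻¹ = (1, k.2 * d5 * k.2⁻¹) := Prod.ext (by simp [dF]) rfl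
  have hqH : k.2 * d5 * k.2⁻¹ ∈ S.H₂ := by
    show S.φ₂ _ ∈ centralizer (S.V : Set G)
    rw [φ₂_apply, ← hk]
    exact hq
  have hnorm : ∀ e : KF, k * dF * k⁻¹ = e → (e = dF ∨ e = dF⁻¹) → False := by
    intro e he hcases
    apply hxr
    rw [S.range_eq, zpowers_eq_closure]
    have h1 : S.φ k * S.ψ zF * (S.φ k)⁻¹ = S.φ e := by
      rw [← he, map_mul, map_mul, map_inv, φ_dF]
    refine mem_normalizer_iff_map_conj_eq.2 ?_
    rw [MonoidHom.map_closure, Set.image_singleton]
    show closure {S.φ k * S.ψ zF * (S.φ k)⁻¹} = _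
    rw [h1, ← zpowers_eq_closure, ← zpowers_eq_closure]
    rcases hcases with rfl | rfl
    · rw [φ_dF]
    · rw [map_inv, φ_dF, zpowers_inv]
  have h1 : k.2 * d5 ≠ d5 * k.2 := fun h => hnorm _ hk (Or.inl (Prod.ext rfl (by
    show k.2 * d5 * k.2⁻¹ = d5
    rw [h, mul_inv_cancel_right])))
  have h2 : k.2 * d5 * k.2⁻¹ ≠ d5⁻¹ := fun h => hnorm _ hk (Or.inr (Prod.ext (by simp [dF]) h))
  have hd := S.d5_mem_H₂
  have hdi := inv_mem hd
  have fin : ∀ {x : Perm (Fin 5)}, x ∈ S.H₂ → (InOrb 0 x ∨ InOrb 1 x) →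
      ∃ s : Fin 5, (s = 0 ∨ s = 1) ∧
        ∀ j : ℤ, S.φ (dF ^ j * uF s * dF ^ (-j)) ∈ centralizer (S.V : Set G) := by
    intro x hxH hor
    obtain ⟨s, hs, hor'⟩ : ∃ s : Fin 5, (s = 0 ∨ s = 1) ∧ InOrb s x := by
      rcases hor with h | h
      exacts [⟨0, Or.inl rfl, h⟩, ⟨1, Or.inr rfl, h⟩]
    refine ⟨s, hs, fun j => ?_⟩
    rw [S.orb_eq]
    exact mul_mem (s := S.H₂) (mul_mem (zpow_mem hd j) (mem_of_inOrb hd hor' hxH)) (zpow_mem hd _)
  rcases pick_decide k.2 h1 h2 with h | h | h | h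
  · exact fin (mul_mem hqH hd) h
  · exact fin (mul_mem hqH hdi) h
  · exact fin (mul_mem (mul_mem (mul_mem hqH hd) (inv_mem hqH)) hd) h
  · exact fin (mul_mem (mul_mem (mul_mem hqH hd) (inv_mem hqH)) hdi) h

section FiniteGroup

variable [Finite G]

theorem not_nine_dvd_centV : ¬ 9 ∣ Nat.card (centralizer (S.V : Set G)) := fun h =>
  S.not_nine_dvd_cent_a (h.trans (card_dvd_of_le fun x hx =>
    mem_centralizer_singleton_iff.2 (S.mem_centV_iff.1 hx).1))

/-- The structure needed in the nilpotent case. -/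
structure Compl where
  W : Subgroup G
  le : W ≤ centralizer (S.V : Set G)
  three : ¬ 3 ∣ Nat.card W
  conj : ∀ n : G, (∀ x ∈ centralizer (S.V : Set G), n * x * n⁻¹ ∈ centralizer (S.V : Set G)) →
    ∀ w ∈ W, n * w * n⁻¹ ∈ W
  left : ∀ σ : Perm (Fin 3), S.ψ (σ, 1) ∈ W → σ = 1
  split : ∀ x ∈ centralizer (S.V : Set G), ∃ w ∈ W, ∃ σ : Perm (Fin 3), x = w * S.ψ (σ, 1)
  V_le : S.V ≤ W

theorem V_subgroupOf_normal :
    (S.V.subgroupOf (centralizer (S.V : Set G))).Normal :=
  normal_subgroupOf_center _ _ le_rfl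

theorem isPGroup_V : IsPGroup 2 S.V := fun v =>
  ⟨1, Subtype.ext (by rw [pow_one]; simpa [pow_two] using S.V_sq v.2)⟩

theorem compl_of_quotient [(S.V.subgroupOf (centralizer (S.V : Set G))).Normal]
    (N : Subgroup (centralizer (S.V : Set G) ⧸ S.V.subgroupOf (centralizer (S.V : Set G))))
    [N.Normal]
    (hN : ¬ 3 ∣ Nat.card N) (hidx : N.index ∣ 6) : Nonempty S.Compl := by
  classical
  set C := centralizer (S.V : Set G) with hC
  set q := QuotientGroup.mk' (S.V.subgroupOf C)
  set M := N.comap q with hM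
  haveI : M.Normal := Subgroup.Normal.comap inferInstance q
  have hMi : M.index ∣ 6 := by
    rw [hM, index_comap_of_surjective _ (QuotientGroup.mk'_surjective _)]
    exact hidx
  have hM3 : ¬ 3 ∣ Nat.card M := by
    intro h
    have hcard : Nat.card M = Nat.card N * Nat.card (S.V.subgroupOf C) := by
      refine Nat.eq_of_mul_eq_mul_right (Nat.pos_of_ne_zero (index_ne_zero_of_finite (H := M))) ?_
      rw [M.card_mul_index, hM, index_comap_of_surjective _ (QuotientGroup.mk'_surjective _),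
        mul_right_comm, N.card_mul_index]
      exact card_eq_card_quotient_mul_card_subgroup (S.V.subgroupOf C)
    rw [hcard, Nat.Prime.dvd_mul Nat.prime_three] at h
    rcases h with h | h
    · exact hN h
    · obtain ⟨j, hj⟩ := IsPGroup.iff_card.1 S.isPGroup_V
      rw [Nat.card_congr (subgroupOfEquivOfLe S.V_le_centV).toEquiv, hj] at h
      exact absurd (Nat.Prime.dvd_of_dvd_pow Nat.prime_three h) (by norm_num)
  let r : Perm (Fin 3) →* C :=
    (S.ψ.comp (MonoidHom.inl (Perm (Fin 3)) (Perm (Fin 5)))).codRestrict C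
      fun σ => S.ψ_mem_centV_left σ
  -- normal 3'-subgroups contain no element of the first factor
  have key : ∀ L : Subgroup C, L.Normal → ¬ 3 ∣ Nat.card L → ∀ σ, r σ ∈ L → σ = 1 := by
    intro L hL hL3 σ hσ
    by_contra hne
    set c : Perm (Fin 3) := swap 0 1 * swap 1 2 with hc
    have hcL : r c ∈ L := by
      have hcomm : r (c * σ * c⁻¹ * σ⁻¹) ∈ L := by
        rw [map_mul, map_mul, map_mul, map_inv, map_inv]
        exact mul_mem (hL.conj_mem _ hσ _) (inv_mem hσ)
      rcases three_cycle_cases σ hne with h | h | h | h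
      · rw [show c = σ from h.symm]; exact hσ
      · have := inv_mem hσ; rwa [h, ← map_inv, inv_inv] at this
      · rw [show c = c * σ * c⁻¹ * σ⁻¹ from h.symm]; exact hcomm
      · have := inv_mem hcomm; rwa [h, ← map_inv, inv_inv] at this
    refine hL3 ?_
    have h3 : orderOf (⟨r c, hcL⟩ : L) = 3 := by
      haveI : Fact (Nat.Prime 3) := ⟨Nat.prime_three⟩
      refine orderOf_eq_prime (Subtype.ext (Subtype.ext ?_)) fun h => ?_
      · show S.ψ (c, 1) ^ 3 = 1
        rw [← map_pow, show ((c, 1) : KF) = zF from rfl, facts_comm.2.2.2.2.2.2.2.1, map_one]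
      · have h' : S.ψ zF = S.ψ 1 := by
          rw [map_one]; exact congrArg (fun w : L => ((w : C) : G)) h
        exact facts_comm.2.2.2.2.2.2.2.2.2.1 (S.inj h')
    exact (dvd_of_eq h3.symm).trans (orderOf_dvd_natCard _)
  let rq : Perm (Fin 3) →* C ⧸ M := (QuotientGroup.mk' M).comp r
  have hrq : Function.Bijective rq := by
    have hinj : Function.Injective rq := (injective_iff_map_eq_one rq).2 fun σ h =>
      key M inferInstance hM3 σ ((QuotientGroup.eq_one_iff _).1 h)
    refine (Nat.bijective_iff_injective_and_card rq).2 ⟨hinj, ?_⟩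
    refine le_antisymm (Nat.card_le_card_of_injective rq hinj) ?_
    rw [← index_eq_card, Nat.card_perm, Nat.card_fin]
    exact Nat.le_of_dvd (by norm_num [Nat.factorial]) hMi
  have hsplit : ∀ x : C, ∃ σ, x * (r σ)⁻¹ ∈ M := fun x => by
    obtain ⟨σ, hσ⟩ := hrq.2 x
    refine ⟨σ, (QuotientGroup.eq_one_iff _).1 ?_⟩
    change rq σ = _ at hσ
    rw [QuotientGroup.mk_mul, QuotientGroup.mk_inv, ← hσ]
    exact mul_inv_cancel _
  refine ⟨{ W := M.map C.subtype, le := map_subtype_le _, three := ?_, conj := ?_, left := ?_,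
            split := ?_, V_le := ?_ }⟩
  · rwa [card_map_of_injective C.subtype_injective]
  · intro n hn
    let e : C →* C :=
      ((MulAut.conj n).toMonoidHom.comp C.subtype).codRestrict C fun x => hn x x.2
    have he : Function.Bijective e := Finite.injective_iff_bijective.1 fun x y h =>
      Subtype.ext (mul_left_cancel (mul_right_cancel (congrArg Subtype.val h :)))
    set M' := M.map e
    haveI : M'.Normal := Subgroup.Normal.map inferInstance e he.2
    have hM'3 : ¬ 3 ∣ Nat.card M' := by rwa [card_map_of_injective he.1]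
    have hle : M' ≤ M := by
      intro x hx
      obtain ⟨σ, hσ⟩ := hsplit x
      have h3 : ¬ 3 ∣ Nat.card (M ⊔ M' : Subgroup C) := by
        intro h
        have h1 := CfsgLib.Coprime.card_sup_dvd (H := M) (N := M')
          ((Subgroup.normalizer_eq_top (H := M')).symm ▸ le_top)
        rcases Nat.prime_three.dvd_mul.1 (h.trans h1) with h | h
        exacts [hM3 h, hM'3 h]
      have hσ1 : σ = 1 := key (M ⊔ M') inferInstance h3 σ (by
        have : r σ = (x * (r σ)⁻¹)⁻¹ * x := by group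
        rw [this]
        exact mul_mem (inv_mem (le_sup_left (b := M') hσ)) (le_sup_right (a := M) hx))
      rwa [hσ1, map_one, inv_one, mul_one] at hσ
    rintro _ ⟨w, hw, rfl⟩
    exact ⟨e w, hle ⟨w, hw, rfl⟩, rfl⟩
  · rintro σ ⟨w, hw, he⟩
    exact key M inferInstance hM3 σ ((Subtype.ext he : w = r σ) ▸ hw)
  · intro x hx
    obtain ⟨σ, hσ⟩ := hsplit ⟨x, hx⟩
    refine ⟨_, ⟨_, hσ, rfl⟩, σ, ?_⟩
    show x = x * (S.ψ (σ, 1))⁻¹ * S.ψ (σ, 1)
    rw [inv_mul_cancel_right]
  · intro v hv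
    refine ⟨⟨v, S.V_le_centV hv⟩, ?_, rfl⟩
    rw [hM, SetLike.mem_coe, mem_comap,
      show q ⟨v, S.V_le_centV hv⟩ = 1 from (QuotientGroup.eq_one_iff _).2 hv]
    exact one_mem _

/-- An element of prime order at least five centralizing `V` and some element of `D`. -/
theorem five_or_seven {r : ℕ} [hr : Fact r.Prime] (hr5 : r = 5 ∨ r = 7)
    (hdvd : r ∣ Nat.card (centralizer (S.V : Set G)))
    (hsq : ¬ r ^ 2 ∣ Nat.card (centralizer (S.V : Set G)))
    (hseven : r = 7 → Nat.card (centralizer (S.V : Set G)) ∣ 672) :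
    r = 5 ∧ ∃ x ∈ centralizer (S.V : Set G), x * S.ψ dF = S.ψ dF * x ∧ x ^ 5 = 1 ∧ x ≠ 1 := by
  classical
  haveI : Fact (Nat.Prime 3) := ⟨Nat.prime_three⟩
  set C := centralizer (S.V : Set G) with hC
  have hDC : ∀ a ∈ S.D, ∀ x, x ∈ C ↔ a * x * a⁻¹ ∈ C := by
    have hgen : S.D ≤ normalizer (C : Set G) := by
      refine (closure_le _).2 ?_
      rintro _ (rfl | rfl) <;> refine mem_normalizer_iff_map_conj_eq.2
        (eq_of_le_of_card_ge ?_ (le_of_eq (card_map_of_injective (MulAut.conj _).injective).symm))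
      · rintro _ ⟨x, hx, rfl⟩
        exact mul_mem (mul_mem S.z_mem_centV hx) (inv_mem S.z_mem_centV)
      · rintro _ ⟨x, hx, rfl⟩
        exact S.d_conj_centV hx
    exact fun a ha => mem_normalizer_iff.1 (hgen ha)
  let X := {P : Subgroup G // P ≤ C ∧ Nat.card P = r}
  letI : MulAction S.D X :=
    { smul := fun a P => ⟨P.1.map (MulAut.conj (a : G)).toMonoidHom,
        by rintro _ ⟨x, hx, rfl⟩; exact (hDC a a.2 x).1 (P.2.1 hx),
        (card_map_of_injective (MulAut.conj (a : G)).injective).trans P.2.2⟩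
      one_smul := fun P => Subtype.ext (by
        show P.1.map (MulAut.conj ((1 : S.D) : G)).toMonoidHom = P.1
        ext x; simp)
      mul_smul := fun a b P => Subtype.ext (by
        show P.1.map (MulAut.conj ((a * b : S.D) : G)).toMonoidHom =
          (P.1.map (MulAut.conj (b : G)).toMonoidHom).map (MulAut.conj (a : G)).toMonoidHom
        ext x; simp [mul_assoc]) }
  haveI : Finite X := Subtype.finite
  have hX : Nat.card X = Nat.card (Sylow r C) := by
    have hfac : (Nat.card C).factorization r = 1 := by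
      refine le_antisymm ?_ (hr.out.factorization_pos_of_dvd Nat.card_pos.ne' hdvd)
      by_contra hlt
      exact hsq ((pow_dvd_pow r (show 2 ≤ (Nat.card C).factorization r by omega)).trans
        (Nat.ordProj_dvd _ _))
    refine Nat.card_congr
      ⟨fun P => Sylow.ofCard (P.1.subgroupOf C) (by
          rw [Nat.card_congr (subgroupOfEquivOfLe P.2.1).toEquiv, P.2.2, hfac, pow_one]),
        fun Q => ⟨(Q : Subgroup C).map C.subtype, map_subtype_le _, by
          rw [card_map_of_injective C.subtype_injective, Q.card_eq_multiplicity, hfac, pow_one]⟩,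
        fun P => Subtype.ext (by
          simp only [Sylow.coe_ofCard]
          exact map_subgroupOf_eq_of_le P.2.1),
        fun Q => Sylow.ext (by
          simp only [Sylow.coe_ofCard]
          exact comap_map_eq_self_of_injective C.subtype_injective _)⟩
  have hn : Nat.card (Sylow r C) ∣ Nat.card C :=
    (Sylow.card_dvd_index (default : Sylow r C)).trans (index_dvd_card _)
  have hX9 : ¬ 9 ∣ Nat.card X := fun h =>
    S.not_nine_dvd_centV ((h.trans (dvd_of_eq hX)).trans hn)
  -- a point with a large stabiliser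
  obtain ⟨P, hP⟩ : ∃ P : X, ¬ Nat.card (MulAction.stabilizer S.D P) ∣ r - 1 := by
    rcases hr5 with rfl | rfl
    · by_contra hno
      push Not at hno
      have htriv : ∀ P : X, Nat.card (MulAction.stabilizer S.D P) = 1 := fun P => by
        have h1 := (card_subgroup_dvd_card (MulAction.stabilizer S.D P)).trans (dvd_of_eq S.card_D)
        exact Nat.dvd_one.1 ((Nat.dvd_gcd h1 (hno P)).trans (by norm_num))
      refine hX9 ?_
      letI := Fintype.ofFinite (MulAction.orbitRel.Quotient S.D X)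
      rw [Nat.card_congr (MulAction.selfEquivSigmaOrbitsQuotientStabilizer S.D X), Nat.card_sigma]
      refine Finset.dvd_sum fun ω _ => ?_
      have h := card_eq_card_quotient_mul_card_subgroup (MulAction.stabilizer S.D ω.out)
      rw [htriv, S.card_D, mul_one] at h
      exact dvd_of_eq h
    · have hp : IsPGroup 3 S.D := IsPGroup.of_card (n := 2) (by rw [S.card_D]; rfl)
      have h3 : ¬ 3 ∣ Nat.card X := by
        rw [hX]
        intro h
        have h1 : Nat.card (Sylow 7 C) % 7 = 1 := card_sylow_modEq_one 7 C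
        have h2 := hn.trans (hseven rfl)
        obtain ⟨m, hm⟩ := h
        rw [hm] at h1 h2
        have hm2 : m ∣ 224 := (Nat.mul_dvd_mul_iff_left (by norm_num : 0 < 3)).1 h2
        have : m ≤ 224 := Nat.le_of_dvd (by norm_num) hm2
        interval_cases m <;> omega
      obtain ⟨P, hP⟩ := hp.nonempty_fixed_point_of_prime_not_dvd_card X h3
      refine ⟨P, ?_⟩
      rw [show MulAction.stabilizer S.D P = ⊤ from eq_top_iff.2 fun a _ => hP a, card_top, S.card_D]
      decide
  let A := (MulAction.stabilizer S.D P).map S.D.subtype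
  have hA : A ≤ normalizer (P.1 : Set G) := by
    rintro _ ⟨a, ha, rfl⟩
    exact mem_normalizer_iff_map_conj_eq.2
      (congrArg Subtype.val (show a • P = P from ha))
  obtain ⟨u, huA, hu1, hu⟩ := exists_centralizing hA P.2.2
    (by rwa [card_map_of_injective S.D.subtype_injective])
  haveI : IsCyclic P.1 := isCyclic_of_prime_card P.2.2
  obtain ⟨⟨x, hxP⟩, hx1⟩ : ∃ x : P.1, x ≠ 1 := by
    haveI : Nontrivial P.1 := Finite.one_lt_card_iff_nontrivial.1 (by rw [P.2.2]; exact hr.out.one_lt)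
    exact exists_ne 1
  have hx1' : x ≠ 1 := fun h => hx1 (Subtype.ext h)
  have hxC : x ∈ C := P.2.1 hxP
  have hxr : x ^ r = 1 := by
    have h := pow_card_eq_one' (x := (⟨x, hxP⟩ : P.1))
    rw [P.2.2] at h
    exact congrArg Subtype.val h
  have hxu : Commute x u := mem_centralizer_iff.1 hu x hxP
  have kill : ∀ m : ℕ, x ^ m = 1 → m.Coprime r → False := fun m hm hco =>
    hx1' ((pow_eq_one_iff_of_coprime hco).1 ⟨hm, hxr⟩)
  have hxz : ¬ Commute x (S.ψ zF) := fun h => by
    obtain ⟨k, hk⟩ := S.cent_z_le (mem_centralizer_singleton_iff.2 h)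
    have hk' := S.mem_centV_iff.1 hxC
    rw [← hk] at hk' h
    refine kill 6 (by rw [← hk, ← map_pow, (centV_decide k (S.comm_of_map hk'.1)
      (S.comm_of_map hk'.2)).1, map_one]) ?_
    rcases hr5 with rfl | rfl <;> decide
  have hy : ∀ y, Nat.card (centralizer ({y} : Set G)) = 36 → ¬ Commute x y := fun y hy hc => by
    refine kill 36 ?_ (by rcases hr5 with rfl | rfl <;> decide)
    have h := pow_card_eq_one'
      (x := (⟨x, mem_centralizer_singleton_iff.2 hc⟩ : centralizer ({y} : Set G)))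
    rw [hy] at h
    exact congrArg Subtype.val h
  have hxd : Commute x (S.ψ dF) := by
    obtain ⟨⟨u', hu'⟩, -, rfl⟩ := huA
    obtain ⟨i, j, hij⟩ := S.mem_D_iff.1 hu'
    change Commute x u' at hxu
    change u' ≠ 1 at hu1
    rw [hij] at hxu hu1
    have hne : zF ^ i.1 * dF ^ j.1 ≠ 1 := fun h => hu1 (by rw [h, map_one])
    rcases dF_pows i j hne with ⟨rfl, rfl⟩ | ⟨rfl, rfl⟩ | ⟨rfl, rfl⟩ | ⟨rfl, rfl⟩ | h | h | h | h
    · exact absurd (by simpa using hxu) hxz
    · refine absurd ?_ hxz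
      have h2 : Commute x (S.ψ (zF ^ 2)) := by simpa using hxu
      rw [show zF ^ 2 = zF⁻¹ from eq_inv_of_mul_eq_one_left (by
        rw [← pow_succ]; exact facts_comm.2.2.2.2.2.2.2.1), map_inv] at h2
      exact Commute.inv_right_iff.1 h2
    · simpa using hxu
    · have h2 : Commute x (S.ψ (dF ^ 2)) := by simpa using hxu
      rw [show dF ^ 2 = dF⁻¹ from eq_inv_of_mul_eq_one_left (by
        rw [← pow_succ]; exact facts_comm.2.2.2.2.2.2.2.2.1), map_inv] at h2
      exact Commute.inv_right_iff.1 h2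
    · rw [h, map_mul] at hxu; exact absurd hxu (hy _ S.card_y)
    · rw [h, map_inv, map_mul, Commute.inv_right_iff] at hxu; exact absurd hxu (hy _ S.card_y)
    · rw [h, map_mul, map_inv] at hxu; exact absurd hxu (hy _ S.card_y')
    · rw [h, map_inv, map_mul, map_inv, Commute.inv_right_iff] at hxu
      exact absurd hxu (hy _ S.card_y')
  rcases hr5 with rfl | rfl
  · exact ⟨rfl, x, hxC, hxd.eq, hxr, hx1'⟩
  · exfalso
    obtain ⟨k, hk⟩ := S.cent_d_le (mem_centralizer_singleton_iff.2 hxd.eq)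
    refine kill 720 ?_ (by decide)
    have hc : Nat.card KF = 720 := by
      rw [Nat.card_prod, Nat.card_perm, Nat.card_perm, Nat.card_fin, Nat.card_fin]; rfl
    rw [← hk, ← map_pow, ← hc, pow_card_eq_one', map_one]

/-- The centralizer of `V`: a five-cycle of the second factor or a normal 3-complement. -/
theorem five_or_compl :
    (∃ x ∈ centralizer (S.V : Set G), x * S.ψ dF = S.ψ dF * x ∧ x ^ 5 = 1 ∧ x ≠ 1) ∨
      Nonempty S.Compl := by
  classical
  haveI : Fact (Nat.Prime 3) := ⟨Nat.prime_three⟩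
  set C := centralizer (S.V : Set G) with hC
  haveI := S.V_subgroupOf_normal
  set q := QuotientGroup.mk' (S.V.subgroupOf C)
  set zb := q ⟨S.ψ zF, S.z_mem_centV⟩ with hzb
  have hz1 : S.ψ zF ∉ S.V := fun h => facts_comm.2.2.2.2.2.2.2.2.2.1 (S.inj (by
    have h2 := S.V_sq h
    rw [← map_mul] at h2
    have h4 : zF * zF = 1 := S.inj (h2.trans (map_one S.ψ).symm)
    rw [map_one]
    have h3 := facts_comm.2.2.2.2.2.2.2.1
    rw [pow_succ, pow_two, h4, one_mul] at h3
    rw [h3, map_one]))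
  have hzo : orderOf zb = 3 := orderOf_eq_prime
    (by
      rw [hzb, ← map_pow]
      refine (QuotientGroup.eq_one_iff _).2 ?_
      show S.ψ zF ^ 3 ∈ S.V
      rw [← map_pow, facts_comm.2.2.2.2.2.2.2.1, map_one]
      exact one_mem _)
    (fun h => hz1 ((QuotientGroup.eq_one_iff (N := S.V.subgroupOf C) _).1 h :))
  have hzc : Nat.card (zpowers zb) = 3 := by rw [Nat.card_zpowers, hzo]
  have hCz : centralizer (zpowers zb : Set (C ⧸ S.V.subgroupOf C)) = zpowers zb := by
    refine le_antisymm (fun y hy => ?_) (zpowers_le.2 (mem_centralizer_iff.2 fun w hw => by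
      obtain ⟨i, rfl⟩ := mem_zpowers_iff.1 hw
      exact ((Commute.refl zb).zpow_left i).eq))
    obtain ⟨y, rfl⟩ := QuotientGroup.mk'_surjective _ y
    have h : y⁻¹ * ⟨S.ψ zF, S.z_mem_centV⟩ * y * (⟨S.ψ zF, S.z_mem_centV⟩ : C)⁻¹ ∈
        S.V.subgroupOf C := by
      refine (QuotientGroup.eq_one_iff _).1 ?_
      have h1 : zb * q y = q y * zb := mem_centralizer_iff.1 hy zb (mem_zpowers _)
      show q _ = 1
      rw [map_mul, map_mul, map_mul, map_inv, map_inv, ← hzb, mul_assoc (q y)⁻¹, h1]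
      group
    -- the commutator is an involution or trivial, and commutes with everything
    obtain ⟨v, hv, hveq⟩ : ∃ v ∈ S.V, (y : G)⁻¹ * S.ψ zF * (y : G) = v * S.ψ zF :=
      ⟨_, h, by simp [mul_assoc]⟩
    have hvz : Commute v (S.ψ zF) := mem_centralizer_iff.1 S.z_mem_centV v hv
    have h3 : S.ψ zF ^ 3 = 1 := by rw [← map_pow, facts_comm.2.2.2.2.2.2.2.1, map_one]
    have hv1 : v = 1 := by
      have e1 : (v * S.ψ zF) ^ 3 = 1 := by
        rw [← hveq]
        calc ((y : G)⁻¹ * S.ψ zF * (y : G)) ^ 3 = (y : G)⁻¹ * S.ψ zF ^ 3 * (y : G) := by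
              simp only [pow_succ, pow_zero]; group
          _ = 1 := by rw [h3]; group
      rw [hvz.mul_pow, h3, mul_one, pow_succ, pow_two, S.V_sq hv, one_mul] at e1
      exact e1
    have hyz : (y : G) * S.ψ zF = S.ψ zF * y := by
      rw [hv1, one_mul] at hveq
      calc (y : G) * S.ψ zF = (y : G) * ((y : G)⁻¹ * S.ψ zF * (y : G)) := by rw [hveq]
        _ = S.ψ zF * y := by group
    obtain ⟨k, hk⟩ := S.cent_z_le (mem_centralizer_singleton_iff.2 hyz)
    have hkV := S.mem_centV_iff.1 y.2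
    rw [← hk] at hkV hyz
    obtain ⟨i, v', hv', hkeq⟩ := cent_zV k (S.comm_of_map hkV.1) (S.comm_of_map hkV.2)
      (S.comm_of_map hyz)
    refine ⟨(i.1 : ℤ), ?_⟩
    show zb ^ (i.1 : ℤ) = q y
    rw [zpow_natCast, hzb, ← map_pow]
    refine QuotientGroup.eq.2 ?_
    rw [mem_subgroupOf]
    push_cast
    rw [← hk, hkeq, map_mul, map_pow, inv_mul_cancel_left]
    exact S.ψ_V4_mem hv'
  rcases Cfsg.Agent.S3331.result (zpowers zb) hzc hCz with
    ⟨N, hN, -, hN3, hq⟩ | ⟨N, hN, -, hN2, ⟨e⟩⟩ | ⟨⟨e⟩⟩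
  · haveI := hN
    refine Or.inr (S.compl_of_quotient N ?_ ?_)
    · exact (Nat.Prime.coprime_iff_not_dvd Nat.prime_three).1 hN3.symm
    · rw [index_eq_card]
      rcases hq with hq | ⟨⟨e⟩⟩
      · rw [hq]; norm_num
      · rw [Nat.card_congr e.toEquiv, Nat.card_perm, Nat.card_fin]; norm_num [Nat.factorial]
  · haveI := hN
    refine Or.inl ?_
    haveI : Fact (Nat.Prime 5) := ⟨by norm_num⟩
    obtain ⟨j, hj⟩ := IsPGroup.iff_card.1
      (show IsPGroup 2 N from fun n => ⟨1, Subtype.ext (by rw [pow_one]; exact hN2 n n.2)⟩)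
    obtain ⟨i, hi⟩ := IsPGroup.iff_card.1 S.isPGroup_V
    have hcard : Nat.card C = 60 * 2 ^ (j + i) := by
      rw [card_eq_card_quotient_mul_card_subgroup (S.V.subgroupOf C),
        Nat.card_congr (subgroupOfEquivOfLe S.V_le_centV).toEquiv, hi,
        card_eq_card_quotient_mul_card_subgroup N, Nat.card_congr e.toEquiv, hj,
        nat_card_alternatingGroup, Nat.card_fin, pow_add]
      norm_num [Nat.factorial]
      ring
    refine (S.five_or_seven (r := 5) (Or.inl rfl) ?_ ?_ (by omega)).2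
    · rw [hcard]; exact Dvd.dvd.mul_right (by norm_num) _
    · rw [hcard, show 60 * 2 ^ (j + i) = 5 * (12 * 2 ^ (j + i)) by ring, pow_two]
      intro h
      have h5 : 5 ∣ 12 * 2 ^ (j + i) := (Nat.mul_dvd_mul_iff_left (by norm_num : 0 < 5)).1 h
      rcases (by norm_num : Nat.Prime 5).dvd_mul.1 h5 with h | h
      · norm_num at h
      · exact absurd ((by norm_num : Nat.Prime 5).dvd_of_dvd_pow h) (by norm_num)
  · exfalso
    haveI : Fact (Nat.Prime 7) := ⟨by norm_num⟩
    have hcard : Nat.card C = 672 := by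
      rw [card_eq_card_quotient_mul_card_subgroup (S.V.subgroupOf C),
        Nat.card_congr (subgroupOfEquivOfLe S.V_le_centV).toEquiv, S.card_V,
        Nat.card_congr e.toEquiv, CfsgLib.Classical.card_PSL_two, Nat.card_zmod]
      norm_num
    exact absurd (S.five_or_seven (r := 7) (Or.inr rfl) (by rw [hcard]; norm_num)
      (by rw [hcard]; norm_num) (fun _ => dvd_of_eq hcard)).1 (by norm_num)

end FiniteGroup

end Setup

end CfsgLib.SEightThree
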