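import Cfsg.Agent.Lib.SEightThree.Basic

/-!
First consequences of the data.
-/

set_option autoImplicit false
set_option linter.style.haveILetI false
set_option maxRecDepth 100000

namespace CfsgLib.SEightThree

open Subgroup Equiv

universe u

theorem facts_comm : zF * dF = dF * zF ∧ zF * tF = tF * zF ∧ dF * tF = tF * dF ∧
    zF * aF = aF * zF ∧ zF * bF = bF * zF ∧ eF * dF = dF * eF ∧ eF * zF * eF⁻¹ = zF⁻¹ ∧
    zF ^ 3 = 1 ∧ dF ^ 3 = 1 ∧ zF ≠ 1 ∧ dF ≠ 1 := by
  refine ⟨?_, ?_, ?_, ?_, ?_, ?_, ?_, ?_, ?_, ?_, ?_⟩ <;> decide +kernel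

theorem diag_conj : eF * (zF * dF) * eF⁻¹ = (zF * dF⁻¹)⁻¹ := by decide +kernel

theorem cent_z_a_pow : ∀ k : KF, k * zF = zF * k → k * aF = aF * k → k ^ 9 = 1 →
    k = 1 ∨ k = zF ∨ k = zF * zF := by
  decide +kernel

theorem zd_pairs : ∀ i j : Fin 3, ∀ i' j' : Fin 3,
    zF ^ i.1 * dF ^ j.1 = zF ^ i'.1 * dF ^ j'.1 → i = i' ∧ j = j' := by
  decide +kernel

theorem card_cent_conj {G : Type u} [Group G] (g x : G) :
    Nat.card (centralizer ({g * x * g⁻¹} : Set G)) = Nat.card (centralizer ({x} : Set G)) := by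
  refine (Nat.card_congr (Equiv.subtypeEquiv (MulAut.conj g).toEquiv fun a => ?_)).symm
  simp only [MulEquiv.toEquiv_eq_coe, MulEquiv.coe_toEquiv, MulAut.conj_apply,
    mem_centralizer_singleton_iff]
  constructor
  · intro h
    calc g * a * g⁻¹ * (g * x * g⁻¹) = g * (a * x) * g⁻¹ := by group
      _ = g * (x * a) * g⁻¹ := by rw [h]
      _ = g * x * g⁻¹ * (g * a * g⁻¹) := by group
  · intro h
    calc a * x = g⁻¹ * (g * a * g⁻¹ * (g * x * g⁻¹)) * g := by group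
      _ = g⁻¹ * (g * x * g⁻¹ * (g * a * g⁻¹)) * g := by rw [h]
      _ = x * a := by group

variable {G : Type u} [Group G] (S : Setup G)

namespace Setup

theorem map_comm {a b : KF} (h : a * b = b * a) : S.ψ a * S.ψ b = S.ψ b * S.ψ a := by
  rw [← map_mul, h, map_mul]

theorem map_conj {a b c : KF} (h : a * b * a⁻¹ = c) : S.ψ a * S.ψ b * (S.ψ a)⁻¹ = S.ψ c := by
  rw [← h, map_mul, map_mul, map_inv]

theorem comm_of_map {a b : KF} (h : S.ψ a * S.ψ b = S.ψ b * S.ψ a) : a * b = b * a :=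
  S.inj (by rw [map_mul, h, map_mul])

theorem φ_map_comm {a b : KF} (h : a * b = b * a) : S.φ a * S.φ b = S.φ b * S.φ a := by
  rw [← map_mul, h, map_mul]

theorem cent_z_le : centralizer ({S.ψ zF} : Set G) ≤ S.ψ.range := by
  rw [S.range_eq, ← centralizer_closure, ← zpowers_eq_closure]
  exact centralizer_le_normalizer _

/-- An element commuting with `d` is in the conjugated image. -/
theorem cent_d_le : centralizer ({S.ψ dF} : Set G) ≤ S.φ.range := by
  intro x hx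
  have h : x * S.ψ dF = S.ψ dF * x := mem_centralizer_singleton_iff.1 hx
  have hd : S.g⁻¹ * S.ψ dF * S.g = S.ψ zF := by rw [← S.g_z]; group
  have h' : S.g⁻¹ * x * S.g * S.ψ zF = S.ψ zF * (S.g⁻¹ * x * S.g) := by
    rw [← hd]
    calc S.g⁻¹ * x * S.g * (S.g⁻¹ * S.ψ dF * S.g) = S.g⁻¹ * (x * S.ψ dF) * S.g := by group
      _ = S.g⁻¹ * (S.ψ dF * x) * S.g := by rw [h]
      _ = S.g⁻¹ * S.ψ dF * S.g * (S.g⁻¹ * x * S.g) := by group
  obtain ⟨k, hk⟩ := S.cent_z_le (mem_centralizer_singleton_iff.2 h')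
  exact ⟨k, by rw [φ_apply, hk]; group⟩

/-- The elementary abelian group of order nine. -/
def D : Subgroup G := closure {S.ψ zF, S.ψ dF}

theorem mem_D_iff {x : G} : x ∈ S.D ↔ ∃ i j : Fin 3, x = S.ψ (zF ^ i.1 * dF ^ j.1) := by
  have hz3 := facts_comm.2.2.2.2.2.2.2.1
  have hd3 := facts_comm.2.2.2.2.2.2.2.2.1
  have hc : Commute zF dF := facts_comm.1
  constructor
  · intro hx
    rw [D, ← Set.image_pair, ← MonoidHom.map_closure] at hx
    obtain ⟨k, hk, rfl⟩ := hx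
    suffices ∃ i j : Fin 3, k = zF ^ i.1 * dF ^ j.1 by
      obtain ⟨i, j, rfl⟩ := this
      exact ⟨i, j, rfl⟩
    induction hk using closure_induction with
    | mem y hy =>
      rcases hy with rfl | rfl
      · exact ⟨1, 0, by simp⟩
      · exact ⟨0, 1, by simp⟩
    | one => exact ⟨0, 0, by simp⟩
    | mul y w _ _ hy hw =>
      obtain ⟨i, j, rfl⟩ := hy
      obtain ⟨i', j', rfl⟩ := hw
      refine ⟨i + i', j + j', ?_⟩
      rw [Fin.val_add, Fin.val_add, ← pow_eq_pow_mod _ hz3, ← pow_eq_pow_mod _ hd3, pow_add, pow_add]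
      simp only [mul_assoc]
      congr 1
      rw [← mul_assoc, ← mul_assoc, (hc.pow_pow i'.1 j.1).eq]
    | inv y _ hy =>
      obtain ⟨i, j, rfl⟩ := hy
      refine ⟨-i, -j, inv_eq_of_mul_eq_one_right ?_⟩
      rw [mul_assoc, ← mul_assoc (dF ^ j.1), ← (hc.pow_pow (-i : Fin 3).1 j.1).eq, mul_assoc,
        ← mul_assoc, ← pow_add, ← pow_add, pow_eq_pow_mod _ hz3, pow_eq_pow_mod _ hd3,
        ← Fin.val_add, ← Fin.val_add, add_neg_cancel, add_neg_cancel]
      simp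
  · rintro ⟨i, j, rfl⟩
    rw [map_mul, map_pow, map_pow]
    have h1 : S.ψ zF ∈ S.D := Subgroup.subset_closure (Set.mem_insert _ _)
    have h2 : S.ψ dF ∈ S.D := Subgroup.subset_closure (Set.mem_insert_of_mem _ rfl)
    exact mul_mem (pow_mem h1 _) (pow_mem h2 _)

theorem card_D : Nat.card S.D = 9 := by
  let f : Fin 3 × Fin 3 → S.D := fun p =>
    ⟨S.ψ (zF ^ p.1.1 * dF ^ p.2.1), S.mem_D_iff.2 ⟨p.1, p.2, rfl⟩⟩
  have hf : Function.Bijective f := by
    refine ⟨fun p q h => ?_, fun x => ?_⟩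
    · obtain ⟨e1, e2⟩ := zd_pairs _ _ _ _ (S.inj (congrArg Subtype.val h))
      exact Prod.ext e1 e2
    · obtain ⟨i, j, h⟩ := S.mem_D_iff.1 x.2
      exact ⟨(i, j), Subtype.ext h.symm⟩
  rw [← Nat.card_eq_of_bijective f hf, Nat.card_prod, Nat.card_eq_fintype_card, Fintype.card_fin]

theorem card_y' : Nat.card (centralizer ({S.ψ zF * (S.ψ dF)⁻¹} : Set G)) = 36 := by
  have h : S.ψ eF * (S.ψ zF * S.ψ dF) * (S.ψ eF)⁻¹ = (S.ψ zF * (S.ψ dF)⁻¹)⁻¹ := by
    rw [← map_inv, ← map_mul, ← map_mul, ← map_mul, ← map_inv, ← map_mul, ← map_inv]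
    congr 1
    exact diag_conj
  rw [show centralizer ({S.ψ zF * (S.ψ dF)⁻¹} : Set G) =
      centralizer ({(S.ψ zF * (S.ψ dF)⁻¹)⁻¹} : Set G) by
    ext a
    simp only [mem_centralizer_singleton_iff]
    exact ⟨fun e => (Commute.inv_right e).eq, fun e => Commute.inv_right_iff.1 e⟩,
    ← h, card_cent_conj]
  exact S.card_y

theorem nine_dvd_cent_t [Finite G] : 9 ∣ Nat.card (centralizer ({S.ψ tF} : Set G)) := by
  rw [← S.card_D]
  refine card_dvd_of_le ((closure_le _).2 ?_)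
  rintro _ (rfl | rfl) <;> rw [SetLike.mem_coe, mem_centralizer_singleton_iff]
  · exact S.map_comm facts_comm.2.1
  · exact S.map_comm facts_comm.2.2.1

/-- The Sylow 3-subgroups of the centralizer of a double transposition have order three. -/
theorem not_nine_dvd_cent_a [Finite G] :
    ¬ 9 ∣ Nat.card (centralizer ({S.ψ aF} : Set G)) := by
  intro h9
  haveI : Fact (Nat.Prime 3) := ⟨Nat.prime_three⟩
  set C := centralizer ({S.ψ aF} : Set G) with hC
  have hzC : S.ψ zF ∈ C := mem_centralizer_singleton_iff.2 (S.map_comm facts_comm.2.2.2.1)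
  have hz : IsPGroup 3 (zpowers (⟨S.ψ zF, hzC⟩ : C)) := by
    rintro ⟨y, hy⟩
    obtain ⟨n, rfl⟩ := mem_zpowers_iff.1 hy
    refine ⟨1, Subtype.ext (Subtype.ext ?_)⟩
    show (S.ψ zF ^ n) ^ (3 ^ 1) = 1
    rw [pow_one, ← zpow_natCast, ← zpow_mul, mul_comm, zpow_mul, zpow_natCast, ← map_pow,
      facts_comm.2.2.2.2.2.2.2.1, map_one, one_zpow]
  obtain ⟨P, hP⟩ := hz.exists_le_sylow
  have hcardP : 9 ∣ Nat.card P := P.pow_dvd_card_of_pow_dvd_card (n := 2) h9
  have hle : Nat.card P ≤ 9 := by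
    obtain ⟨m, hm⟩ := IsPGroup.iff_card.1 P.2
    rw [hm]
    by_contra hlt
    have h3 : 3 ≤ m := by
      by_contra hm3
      interval_cases m <;> simp at hlt
    exact S.not_dvd ((pow_dvd_pow 3 h3).trans (hm ▸ (P.1.card_subgroup_dvd_card.trans
      C.card_subgroup_dvd_card)))
  have h9' : Nat.card P = 3 ^ 2 := le_antisymm hle (Nat.le_of_dvd Nat.card_pos hcardP)
  have hcomm := (IsPGroup.isMulCommutative_of_card_eq_prime_sq (p := 3) h9').is_comm.comm
  have hzP : (⟨S.ψ zF, hzC⟩ : C) ∈ P := hP (mem_zpowers _)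
  have key : ∀ x : P, ∃ k : KF, S.ψ k = ((x : C) : G) ∧ (k = 1 ∨ k = zF ∨ k = zF * zF) := by
    intro x
    have hxz : ((x : C) : G) * S.ψ zF = S.ψ zF * ((x : C) : G) :=
      congrArg (fun w : P => ((w : C) : G)) (hcomm x ⟨_, hzP⟩)
    obtain ⟨k, hk⟩ := S.cent_z_le (mem_centralizer_singleton_iff.2 hxz)
    have hxa : ((x : C) : G) * S.ψ aF = S.ψ aF * ((x : C) : G) :=
      mem_centralizer_singleton_iff.1 (x : C).2
    refine ⟨k, hk, cent_z_a_pow k (S.comm_of_map (by rw [hk]; exact hxz))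
      (S.comm_of_map (by rw [hk]; exact hxa)) (S.inj ?_)⟩
    have h3 : x ^ Nat.card P = 1 := pow_card_eq_one'
    have h4 : ((x : C) : G) ^ Nat.card P = 1 := congrArg (fun w : P => ((w : C) : G)) h3
    rw [map_pow, hk, map_one]
    rwa [show Nat.card P = 9 from h9'] at h4
  have hle3 : Nat.card P ≤ 3 := by
    let f : Fin 3 → G := fun i => S.ψ (![1, zF, zF * zF] i)
    have hinj : ∀ x : P, ∃ i : Fin 3, f i = ((x : C) : G) := fun x => by
      obtain ⟨k, hk, h | h | h⟩ := key x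
      · exact ⟨0, by rw [← hk, h]; rfl⟩
      · exact ⟨1, by rw [← hk, h]; rfl⟩
      · exact ⟨2, by rw [← hk, h]; rfl⟩
    choose i hi using hinj
    refine (Nat.card_le_card_of_injective i fun x y e => ?_).trans
      (le_of_eq (by rw [Nat.card_eq_fintype_card, Fintype.card_fin]))
    exact Subtype.ext (Subtype.ext (by rw [← hi x, e, hi y]))
  omega

theorem not_isConj_a_t [Finite G] : ¬ IsConj (S.ψ aF) (S.ψ tF) := by
  intro h
  obtain ⟨w, hw⟩ := isConj_iff.1 h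
  refine S.not_nine_dvd_cent_a ?_
  rw [← card_cent_conj w, hw]
  exact S.nine_dvd_cent_t

end Setup

end CfsgLib.SEightThree
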