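import Cfsg.Agent.Lib.SEightThree.Basic

/-!
The wreathed configuration: the centralizer of the four-group is larger than the one inside the
normalizer of the subgroup of order three.
-/

set_option autoImplicit false
set_option linter.style.haveILetI false
set_option linter.unusedSectionVars false
set_option maxRecDepth 100000

namespace CfsgLib.SEightThree

open Equiv Subgroup

universe u

namespace Wr

section counting

variable {L : Type*} [Group L] [Finite L]

/-- The class of `w` under conjugation by a subgroup. -/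
def cls (K : Subgroup L) (w : L) : Set L := {v | ∃ k ∈ K, k * w * k⁻¹ = v}

theorem card_cls (K : Subgroup L) (w : L) :
    Nat.card ↥(cls K w) * Nat.card ↥(K ⊓ centralizer ({w} : Set L)) = Nat.card ↥K := by
  letI : MulAction ↥K L := MulAction.compHom L (MulAut.conj.comp K.subtype)
  have hsmul : ∀ (k : ↥K) (v : L), k • v = (k : L) * v * (k : L)⁻¹ := fun k v => rfl
  have horb : cls K w = MulAction.orbit ↥K w := by
    ext v
    rw [MulAction.mem_orbit_iff]
    exact ⟨fun ⟨k, hk, he⟩ => ⟨⟨k, hk⟩, he⟩, fun ⟨k, he⟩ => ⟨k, k.2, he⟩⟩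
  have hstab : Nat.card ↥(MulAction.stabilizer ↥K w) = Nat.card ↥(K ⊓ centralizer ({w} : Set L)) :=
    Nat.card_congr
      { toFun := fun k => ⟨(k : ↥K), (k : ↥K).2, mem_centralizer_singleton_iff.2
          (mul_inv_eq_iff_eq_mul.1 ((hsmul _ _).symm.trans k.2))⟩
        invFun := fun k => ⟨⟨k, k.2.1⟩, (hsmul ⟨k, k.2.1⟩ w).trans
          (mul_inv_eq_iff_eq_mul.2 (mem_centralizer_singleton_iff.1 k.2.2))⟩
        left_inv := fun k => rfl
        right_inv := fun k => rfl }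
  rw [horb, ← hstab, ← Nat.card_prod]
  exact Nat.card_congr (MulAction.orbitProdStabilizerEquivGroup ↥K w)

theorem cls_subset_compl {K : Subgroup L} {w : L} (hw : w ∉ K) :
    cls K w ⊆ ((K : Set L))ᶜ := by
  rintro v ⟨k, hk, rfl⟩ h
  refine hw ?_
  have h' : k * w * k⁻¹ ∈ K := h
  have := K.mul_mem (K.mul_mem (K.inv_mem hk) h') hk
  simpa [mul_assoc] using this

/-- An involution acting without fixed points on a group of odd order inverts it. -/
theorem inv_of_fixedPointFree {K : Subgroup L} {a : L} (hconj : ∀ q ∈ K, a * q * a⁻¹ ∈ K)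
    (ha2 : a * a = 1) (hCa : Nat.card ↥(K ⊓ centralizer ({a} : Set L)) ≤ 2)
    (hodd : Odd (Nat.card ↥K)) (x : L) (hx : x ∈ K) : a * x * a⁻¹ = x⁻¹ := by
  have hC : K ⊓ centralizer ({a} : Set L) = ⊥ := by
    have ho : Odd (Nat.card ↥(K ⊓ centralizer ({a} : Set L))) :=
      hodd.of_dvd_nat (card_dvd_of_le inf_le_left)
    refine eq_bot_of_card_eq _ ?_
    have := Nat.odd_iff.1 ho
    omega
  let f : ↥K → ↥K := fun q =>
    ⟨(q : L)⁻¹ * (a * q * a⁻¹), mul_mem (inv_mem q.2) (hconj q q.2)⟩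
  have hf : Function.Injective f := by
    intro q r h
    have h1 : (q : L)⁻¹ * (a * q * a⁻¹) = (r : L)⁻¹ * (a * r * a⁻¹) := congrArg Subtype.val h
    have h2 : (r : L) * (q : L)⁻¹ ∈ K ⊓ centralizer ({a} : Set L) := by
      refine ⟨K.mul_mem r.2 (K.inv_mem q.2), mem_centralizer_singleton_iff.2 ?_⟩
      calc (r : L) * (q : L)⁻¹ * a
          = (r : L) * ((q : L)⁻¹ * (a * q * a⁻¹)) * a * (q : L)⁻¹ := by group
        _ = (r : L) * ((r : L)⁻¹ * (a * r * a⁻¹)) * a * (q : L)⁻¹ := by rw [h1]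
        _ = a * ((r : L) * (q : L)⁻¹) := by group
    rw [hC, mem_bot, mul_inv_eq_one] at h2
    exact Subtype.ext h2.symm
  obtain ⟨q, hq⟩ := (Finite.injective_iff_surjective.1 hf) ⟨x, hx⟩
  rw [← show (q : L)⁻¹ * (a * q * a⁻¹) = x from congrArg Subtype.val hq]
  have hai : a⁻¹ = a := inv_eq_of_mul_eq_one_right ha2
  calc a * ((q : L)⁻¹ * (a * q * a⁻¹)) * a⁻¹
      = a * (q : L)⁻¹ * a * q * (a⁻¹ * a⁻¹) := by group
    _ = ((q : L)⁻¹ * (a * q * a⁻¹))⁻¹ := by
      rw [show a⁻¹ * a⁻¹ = 1 by rw [hai]; exact ha2, mul_one, mul_inv_rev, mul_inv_rev, mul_inv_rev,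
        inv_inv, inv_inv, hai, mul_assoc (a * (q : L)⁻¹)]
      group

/-- An involutory outer element with at most two fixed points inverts a self-centralizing element
of order three, if another outer involution fixing at most six points centralizes it. -/
theorem conj_eq_inv {K : Subgroup L} (hidx : K.index = 2) {a a₁ x : L} (ha : a ∉ K)
    (ha2 : a * a = 1) (ha₁ : a₁ ∉ K) (ha₁2 : a₁ * a₁ = 1) (hxK : x ∈ K) (hx : orderOf x = 3)
    (hCx : Nat.card ↥(K ⊓ centralizer ({x} : Set L)) ≤ 3)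
    (hCa : Nat.card ↥(K ⊓ centralizer ({a} : Set L)) ≤ 2)
    (hCa₁ : Nat.card ↥(K ⊓ centralizer ({a₁} : Set L)) ≤ 6) (hcom : a₁ * x = x * a₁) :
    a * x * a⁻¹ = x⁻¹ := by
  classical
  haveI : Fact (Nat.Prime 3) := ⟨Nat.prime_three⟩
  haveI : Fact (Nat.Prime 2) := ⟨Nat.prime_two⟩
  have hN : K.Normal := normal_of_index_eq_two hidx
  have hx3 : x ^ 3 = 1 := by rw [← hx]; exact pow_orderOf_eq_one _
  have hx1 : x ≠ 1 := fun h => by simp [h] at hx
  have hout : ∀ p q : L, p ∉ K → q ∉ K → p * q ∈ K := fun p q hp hq =>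
    (mul_mem_iff_of_index_two hidx).2 ⟨fun h => absurd h hp, fun h => absurd h hq⟩
  have hnx : ¬ Commute a x := by
    intro h
    have h3 : orderOf x ≤ Nat.card ↥(K ⊓ centralizer ({a} : Set L)) := by
      rw [← Nat.card_zpowers]
      exact Nat.le_of_dvd Nat.card_pos (card_dvd_of_le (zpowers_le.2
        ⟨hxK, mem_centralizer_singleton_iff.2 h.eq.symm⟩))
    omega
  -- there is no outer two-element of order greater than two
  have hinv : ∀ w : L, w ∉ K → ∀ n : ℕ, w ^ 2 ^ n = 1 → w * w = 1 := by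
    intro w hw n hn
    by_contra hw2
    have hax : a₁ * x ∉ K := fun h => ha₁ ((mul_mem_cancel_right hxK).1 h)
    have hsq : ∀ {u v : L}, v ∈ cls K u → ∀ m : ℕ, u ^ m = 1 ↔ v ^ m = 1 := by
      rintro u v ⟨k, -, rfl⟩ m
      rw [conj_pow, conj_eq_one_iff]
    have hax2 : (a₁ * x) ^ 2 ≠ 1 := by
      rw [(show Commute a₁ x from hcom).mul_pow, pow_two a₁, ha₁2, one_mul]
      intro h
      rw [pow_succ, h, one_mul] at hx3
      exact hx1 hx3
    have hax6 : (a₁ * x) ^ 6 = 1 := by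
      rw [(show Commute a₁ x from hcom).mul_pow, show a₁ ^ 6 = (a₁ * a₁) ^ 3 by
        rw [← sq, ← pow_mul], ha₁2, one_pow, show x ^ 6 = (x ^ 3) ^ 2 by rw [← pow_mul], hx3,
        one_pow, one_mul]
    have d12 : Disjoint (cls K a) (cls K a₁) := by
      refine Set.disjoint_left.2 fun v h1 h2 => ?_
      obtain ⟨k, hk, rfl⟩ := h1
      obtain ⟨l, hl, he⟩ := h2
      have hxc : (k⁻¹ * l) * x * (k⁻¹ * l)⁻¹ ∈ K ⊓ centralizer ({a} : Set L) := by
        refine ⟨hN.conj_mem x hxK _, mem_centralizer_singleton_iff.2 ?_⟩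
        have ea : (k⁻¹ * l) * a₁ * (k⁻¹ * l)⁻¹ = a := by
          rw [show (k⁻¹ * l) * a₁ * (k⁻¹ * l)⁻¹ = k⁻¹ * (l * a₁ * l⁻¹) * k by group, he]
          group
        have h := congrArg (MulAut.conj (k⁻¹ * l)) hcom
        rw [map_mul (MulAut.conj (k⁻¹ * l)) a₁ x, map_mul (MulAut.conj (k⁻¹ * l)) x a₁,
          MulAut.conj_apply, MulAut.conj_apply, ea] at h
        exact h.symm
      have h3 : orderOf ((k⁻¹ * l) * x * (k⁻¹ * l)⁻¹) ≤
          Nat.card ↥(K ⊓ centralizer ({a} : Set L)) := by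
        rw [← Nat.card_zpowers]
        exact Nat.le_of_dvd Nat.card_pos (card_dvd_of_le (zpowers_le.2 hxc))
      rw [← MulAut.conj_apply, MulEquiv.orderOf_eq, hx] at h3
      omega
    have d3 : ∀ u : L, u * u = 1 → Disjoint (cls K u) (cls K (a₁ * x)) := fun u hu =>
      Set.disjoint_left.2 fun v h1 h2 =>
        hax2 ((hsq h2 2).2 ((hsq h1 2).1 (by rw [sq]; exact hu)))
    have hwnot : w ∉ cls K a ∪ cls K a₁ ∪ cls K (a₁ * x) := by
      rintro ((h | h) | h)
      · exact hw2 (by rw [← sq]; exact (hsq h 2).1 (by rw [sq]; exact ha2))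
      · exact hw2 (by rw [← sq]; exact (hsq h 2).1 (by rw [sq]; exact ha₁2))
      · have h6 : w ^ 6 = 1 := (hsq h 6).1 hax6
        have hg := pow_gcd_eq_one.2 ⟨hn, h6⟩
        refine hw2 ?_
        rw [← sq]
        rcases n with _ | n
        · rw [pow_zero, pow_one] at hn
          rw [hn, one_pow]
        · rw [show Nat.gcd (2 ^ (n + 1)) 6 = 2 by
            rw [pow_succ', show (6 : ℕ) = 2 * 3 from rfl, Nat.gcd_mul_left,
              show Nat.gcd (2 ^ n) 3 = 1 from Nat.Coprime.pow_left _ (by norm_num)]] at hg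
          exact hg
    have hsub : cls K a ∪ cls K a₁ ∪ cls K (a₁ * x) ∪ {w} ⊆ ((K : Set L))ᶜ :=
      Set.union_subset (Set.union_subset (Set.union_subset (cls_subset_compl ha)
        (cls_subset_compl ha₁)) (cls_subset_compl hax)) (Set.singleton_subset_iff.2 hw)
    have hcount := Set.ncard_le_ncard hsub (Set.toFinite _)
    rw [Set.ncard_union_eq (Set.disjoint_singleton_right.2 hwnot) (Set.toFinite _) (Set.toFinite _),
      Set.ncard_union_eq (Set.disjoint_union_left.2 ⟨d3 a ha2, d3 a₁ ha₁2⟩) (Set.toFinite _)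
        (Set.toFinite _), Set.ncard_union_eq d12 (Set.toFinite _) (Set.toFinite _),
      Set.ncard_singleton, Set.ncard_compl _ (Set.toFinite _)] at hcount
    simp only [← Nat.card_coe_set_eq] at hcount
    have h1 := card_cls K a
    have h2 := card_cls K a₁
    have h3 := card_cls K (a₁ * x)
    have hC3 : Nat.card ↥(K ⊓ centralizer ({a₁ * x} : Set L)) ≤ 3 := by
      refine le_trans (Nat.le_of_dvd Nat.card_pos (card_dvd_of_le ?_)) hCx
      refine inf_le_inf_left _ fun v hv => mem_centralizer_singleton_iff.2 ?_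
      have hv' : Commute v ((a₁ * x) ^ 4) :=
        Commute.pow_right (mem_centralizer_singleton_iff.1 hv) 4
      rw [(show Commute a₁ x from hcom).mul_pow, show a₁ ^ 4 = (a₁ * a₁) ^ 2 by
        rw [← sq, ← pow_mul], ha₁2, one_pow, one_mul, show x ^ 4 = x by
        rw [pow_succ, hx3, one_mul]] at hv'
      exact hv'
    have hKL : Nat.card ↥(K : Set L) = Nat.card ↥K := rfl
    have htot := K.card_mul_index
    rw [hidx] at htot
    have e1 := Nat.mul_le_mul_left (Nat.card ↥(cls K a)) hCa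
    have e2 := Nat.mul_le_mul_left (Nat.card ↥(cls K a₁)) hCa₁
    have e3 := Nat.mul_le_mul_left (Nat.card ↥(cls K (a₁ * x))) hC3
    omega
  obtain ⟨P, hP⟩ := (IsPGroup.of_card (p := 2) (n := 1) (G := ↥(zpowers a)) (by
    rw [Nat.card_zpowers, pow_one]
    exact orderOf_eq_prime (by rw [sq]; exact ha2) fun h => ha (h ▸ one_mem _))).exists_le_sylow
  have haP : a ∈ (P : Subgroup L) := hP (mem_zpowers a)
  -- the two-elements of the inner part are inverted
  have hPK : ∀ q ∈ (P : Subgroup L), q ∈ K → a * q * a⁻¹ = q⁻¹ := by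
    intro q hq hqK
    obtain ⟨n, hn⟩ := P.2 ⟨q * a, mul_mem hq haP⟩
    have h := hinv (q * a) (fun h => ha ((mul_mem_cancel_left hqK).1 h)) n (congrArg Subtype.val hn)
    have hai : a⁻¹ = a := inv_eq_of_mul_eq_one_right ha2
    rw [hai]
    exact (inv_eq_of_mul_eq_one_right (by rw [← h]; group)).symm
  haveI := hN
  -- a Sylow subgroup of the inner part is cyclic
  let PK : Subgroup ↥K := (P : Subgroup L).subgroupOf K
  have hPK2 : (K.subgroupOf (P : Subgroup L)).index = 2 := by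
    rw [index_eq_two_iff]
    refine ⟨⟨a, haP⟩, fun b => ?_⟩
    rw [mem_subgroupOf, mem_subgroupOf, coe_mul]
    by_cases hb : (b : L) ∈ K
    · exact Or.inr ⟨hb, fun h => ha ((mul_mem_cancel_left hb).1 h)⟩
    · exact Or.inl ⟨hout _ _ hb ha, hb⟩
  have hcardPK : Nat.card ↥PK = 2 ^ (Nat.card ↥K).factorization 2 := by
    have h1 := (K.subgroupOf (P : Subgroup L)).card_mul_index
    rw [hPK2, P.card_eq_multiplicity,
      show Nat.card ↥(K.subgroupOf (P : Subgroup L)) = Nat.card ↥PK from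
        Nat.card_congr
          { toFun := fun q => ⟨⟨((q : ↥(P : Subgroup L)) : L), q.2⟩, (q : ↥(P : Subgroup L)).2⟩
            invFun := fun q => ⟨⟨((q : ↥K) : L), q.2⟩, (q : ↥K).2⟩
            left_inv := fun q => rfl
            right_inv := fun q => rfl }] at h1
    have h2 := K.card_mul_index
    rw [hidx] at h2
    rw [← h2, Nat.factorization_mul Nat.card_pos.ne' two_ne_zero, Finsupp.add_apply,
      Nat.prime_two.factorization_self, pow_succ] at h1
    omega
  set S : Sylow 2 ↥K := Sylow.ofCard PK hcardPK with hS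
  have hinvS : ∀ q : ↥PK, a * ((q : ↥K) : L) * a⁻¹ = ((q : ↥K) : L)⁻¹ := fun q =>
    hPK _ q.2 (q : ↥K).2
  have hcomm : ∀ q r : ↥PK, q * r = r * q := by
    intro q r
    have h := hinvS (q * r)
    simp only [coe_mul] at h
    rw [show a * (((q : ↥K) : L) * ((r : ↥K) : L)) * a⁻¹ =
      (a * ((q : ↥K) : L) * a⁻¹) * (a * ((r : ↥K) : L) * a⁻¹) by group, hinvS, hinvS,
      mul_inv_rev] at h
    have h' := congrArg (fun v : L => v⁻¹) h
    simp only [mul_inv_rev, inv_inv] at h'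
    exact Subtype.ext (Subtype.ext h'.symm)
  letI : CommGroup ↥PK := { (inferInstance : Group ↥PK) with mul_comm := hcomm }
  have hroots : ∀ e : ℕ, Nat.card {q : ↥PK // q ^ 2 ^ e = 1} ≤ 2 ^ e := by
    intro e
    induction e with
    | zero =>
      haveI : Subsingleton {q : ↥PK // q ^ 2 ^ 0 = 1} :=
        ⟨fun u v => Subtype.ext ((by simpa using u.2 : (u : ↥PK) = 1).trans
          (by simpa using v.2 : (v : ↥PK) = 1).symm)⟩
      exact Finite.card_le_one_iff_subsingleton.2 inferInstance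
    | succ e ih =>
      let f : ↥(powMonoidHom (α := ↥PK) (2 ^ (e + 1))).ker →* ↥PK :=
        (powMonoidHom (α := ↥PK) 2).comp (Subgroup.subtype _)
      have hk := f.ker.card_mul_index
      rw [index_ker] at hk
      have hk2 : Nat.card ↥f.ker ≤ 2 := by
        refine le_trans (Nat.card_le_card_of_injective
          (fun q : ↥f.ker => (⟨(((q : ↥(powMonoidHom (α := ↥PK) (2 ^ (e + 1))).ker) : ↥PK) : ↥K),
            ?_⟩ : ↥(K ⊓ centralizer ({a} : Set L)))) ?_) hCa
        · refine ⟨Subtype.property _, mem_centralizer_singleton_iff.2 ?_⟩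
          have h2 : ((q : ↥(powMonoidHom (α := ↥PK) (2 ^ (e + 1))).ker) : ↥PK) ^ 2 = 1 :=
            MonoidHom.mem_ker.1 q.2
          have h3 := congrArg (fun v : ↥PK => ((v : ↥K) : L)) h2
          simp only [coe_one, sq] at h3
          have h4 := hinvS ((q : ↥(powMonoidHom (α := ↥PK) (2 ^ (e + 1))).ker) : ↥PK)
          rw [inv_eq_of_mul_eq_one_right h3] at h4
          exact (mul_inv_eq_iff_eq_mul.1 h4).symm
        · intro u v huv
          exact Subtype.ext (Subtype.ext (Subtype.ext (Subtype.ext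
            (congrArg (fun w : ↥(K ⊓ centralizer ({a} : Set L)) => (w : L)) huv))))
      have hr : Nat.card ↥f.range ≤ 2 ^ e := by
        refine le_trans (Nat.card_le_card_of_injective
          (fun q : ↥f.range => (⟨(q : ↥PK), ?_⟩ : {q : ↥PK // q ^ 2 ^ e = 1})) ?_) ih
        · obtain ⟨u, hu⟩ := q.2
          rw [← hu]
          show ((u : ↥PK) ^ 2) ^ 2 ^ e = 1
          rw [← pow_mul, ← pow_succ']
          exact MonoidHom.mem_ker.1 u.2
        · intro u v huv
          exact Subtype.ext (congrArg (fun w : {q : ↥PK // q ^ 2 ^ e = 1} => w.1) huv)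
      calc Nat.card {q : ↥PK // q ^ 2 ^ (e + 1) = 1}
          = Nat.card ↥(powMonoidHom (α := ↥PK) (2 ^ (e + 1))).ker :=
            Nat.card_congr (Equiv.subtypeEquivRight fun q => Iff.rfl)
        _ = Nat.card ↥f.ker * Nat.card ↥f.range := hk.symm
        _ ≤ 2 * 2 ^ e := Nat.mul_le_mul hk2 hr
        _ = 2 ^ (e + 1) := (pow_succ' _ _).symm
  have hp : IsPGroup 2 ↥PK := S.2
  obtain ⟨m, hm⟩ := IsPGroup.iff_card.1 hp
  obtain ⟨e, he, hexp⟩ := (Nat.dvd_prime_pow Nat.prime_two).1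
    (hm ▸ Group.exponent_dvd_nat_card (G := ↥PK))
  haveI : IsCyclic ↥PK := IsCyclic.of_exponent_eq_card (by
    refine le_antisymm (Nat.le_of_dvd Nat.card_pos Group.exponent_dvd_nat_card) ?_
    rw [hexp]
    refine le_trans (le_of_eq (Nat.card_congr (Equiv.subtypeUnivEquiv fun q => ?_)).symm) (hroots e)
    rw [← hexp]
    exact Monoid.pow_exponent_eq_one q)
  -- the normal two-complement
  by_cases h2 : 2 ∣ Nat.card ↥K
  swap
  · exact inv_of_fixedPointFree (K := K) (hN.conj_mem · · a) ha2 hCa (Nat.odd_iff.2 (by omega)) x hxK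
  have hmin : (Nat.card ↥K).minFac = 2 := (Nat.minFac_eq_two_iff _).2 h2
  have hSC : normalizer ((S : Subgroup ↥K) : Set ↥K) ≤ centralizer ((S : Subgroup ↥K) : Set ↥K) := by
    exact IsCyclic.normalizer_le_centralizer (P := S) hmin ‹IsCyclic ↥PK›
  set M := (MonoidHom.transferSylow S hSC).ker with hM
  have hcompl := MonoidHom.ker_transferSylow_isComplement' S hSC
  have hModd : Odd (Nat.card ↥(M.map K.subtype)) := by
    rw [card_map_of_injective K.subtype_injective, ← Nat.not_even_iff_odd, even_iff_two_dvd]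
    exact MonoidHom.not_dvd_card_ker_transferSylow S hSC
  have hmem : ∀ q : ↥K, q ∈ M ↔ Odd (orderOf q) := by
    intro q
    constructor
    · intro hq
      refine Odd.of_dvd_nat ?_ (orderOf_mk q hq ▸ orderOf_dvd_natCard (⟨q, hq⟩ : ↥M))
      rwa [card_map_of_injective K.subtype_injective] at hModd
    · intro hq
      rw [hM, MonoidHom.mem_ker]
      obtain ⟨n, hn⟩ := S.2 (MonoidHom.transferSylow S hSC q)
      have h1 : MonoidHom.transferSylow S hSC q ^ orderOf q = 1 := by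
        rw [← map_pow, pow_orderOf_eq_one, map_one]
      have hg := pow_gcd_eq_one.2 ⟨hn, h1⟩
      rwa [show Nat.gcd (2 ^ n) (orderOf q) = 1 from
        Nat.Coprime.pow_left n (Nat.coprime_two_left.2 hq), pow_one] at hg
  refine inv_of_fixedPointFree (K := M.map K.subtype) ?_ ha2 ?_ hModd x
    ⟨⟨x, hxK⟩, (hmem _).2 (by rw [orderOf_mk, hx]; decide), rfl⟩
  · rintro - ⟨q, hq, rfl⟩
    refine ⟨⟨_, hN.conj_mem q q.2 a⟩, (hmem _).2 ?_, rfl⟩
    rw [← orderOf_coe]
    show Odd (orderOf (MulAut.conj a (q : L)))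
    rw [MulEquiv.orderOf_eq, orderOf_coe]
    exact (hmem q).1 hq
  · refine le_trans (Nat.le_of_dvd Nat.card_pos (card_dvd_of_le ?_)) hCa
    exact inf_le_inf_right _ (map_subtype_le _)

end counting

section quotient

variable {G : Type*} [Group G] [Finite G]

theorem map_inf_card_le {K : Subgroup G} {L : Type*} [Group L] [Finite L] (φ : ↥K →* L) {n : ℕ}
    (hker : Nat.card ↥φ.ker = 4) (c : L)
    (hn : Nat.card {k : ↥K // φ k * c = c * φ k} ≤ 4 * n) :
    Nat.card ↥(φ.range ⊓ centralizer ({c} : Set L)) ≤ n := by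
  let P : Subgroup ↥K := (centralizer ({c} : Set L)).comap φ
  have hP : Nat.card ↥P = Nat.card {k : ↥K // φ k * c = c * φ k} :=
    Nat.card_congr (Equiv.subtypeEquivRight fun k => mem_centralizer_singleton_iff)
  have h1 := (φ.comp P.subtype).ker.card_mul_index
  rw [index_ker, MonoidHom.range_comp, range_subtype, map_comap_eq] at h1
  have h2 : Nat.card ↥(φ.comp P.subtype).ker = 4 := by
    rw [← hker]
    exact Nat.card_congr
      { toFun := fun k => ⟨((k : ↥P) : ↥K), k.2⟩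
        invFun := fun k => ⟨⟨(k : ↥K), mem_centralizer_singleton_iff.2 (by
          rw [MonoidHom.mem_ker.1 k.2, one_mul, mul_one])⟩, k.2⟩
        left_inv := fun k => rfl
        right_inv := fun k => rfl }
  rw [h2, hP] at h1
  omega

set_option maxHeartbeats 1000000 in
/-- The counting lemma applied modulo a central four-group. -/
theorem conj_mul_mem {K Z : Subgroup G} (hZK : Z ≤ K) (hZc : ∀ z ∈ Z, ∀ k ∈ K, z * k = k * z)
    (hZ2 : ∀ z ∈ Z, z * z = 1) (hZ : Nat.card ↥Z = 4) {a a₁ x e w w₁ : G} (ha : a ∉ K)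
    (ha2 : a * a = 1) (hK : ∀ k ∈ K, a * k * a⁻¹ ∈ K) (haZ : ∀ z ∈ Z, a * z * a⁻¹ ∈ Z)
    (ha₁ : a₁ * a⁻¹ ∈ K) (ha₁2 : a₁ * a₁ = 1) (hxK : x ∈ K) (hx3 : x ^ 3 = 1) (hx1 : x ≠ 1)
    (hcom : a₁ * x = x * a₁)
    (he : ∀ z ∈ Z, a * z * a⁻¹ = z → z = 1 ∨ z = e)
    (he₁ : ∀ z ∈ Z, a₁ * z * a₁⁻¹ = z → z = 1 ∨ z = e)
    (hwK : w ∈ K) (hw : w * a * w⁻¹ = e * a) (hw₁K : w₁ ∈ K) (hw₁ : w₁ * a₁ * w₁⁻¹ = e * a₁)
    (hCx : Nat.card ↥(K ⊓ centralizer ({x} : Set G)) ≤ 12)
    (hCa : Nat.card ↥(K ⊓ centralizer ({a} : Set G)) ≤ 4)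
    (hCa₁ : Nat.card ↥(K ⊓ centralizer ({a₁} : Set G)) ≤ 12) :
    a * x * a⁻¹ * x ∈ Z := by
  classical
  haveI : Fact (Nat.Prime 3) := ⟨Nat.prime_three⟩
  let L : Subgroup G := K ⊔ zpowers a
  have haN : zpowers a ≤ normalizer (K : Set G) := by
    rw [zpowers_le]
    refine mem_normalizer_fintype ?_
    exact fun k hk => hK k hk
  have hZn : L ≤ normalizer (Z : Set G) := by
    refine sup_le (fun k hk => mem_normalizer_fintype fun z hz => ?_)
      (zpowers_le.2 (mem_normalizer_fintype fun z hz => haZ z hz))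
    rw [SetLike.mem_coe, ← hZc z hz k hk, mul_inv_cancel_right]
    exact hz
  haveI : (Z.subgroupOf L).Normal := normal_subgroupOf_of_le_normalizer hZn
  let q : ↥L →* ↥L ⧸ Z.subgroupOf L := QuotientGroup.mk' _
  have hKL : K ≤ L := le_sup_left
  let φ : ↥K →* ↥L ⧸ Z.subgroupOf L := q.comp (inclusion hKL)
  have hq : ∀ u : ↥L, q u = 1 ↔ (u : G) ∈ Z := fun u =>
    (QuotientGroup.eq_one_iff u).trans mem_subgroupOf
  have hker : Nat.card ↥φ.ker = 4 := by
    rw [← hZ]
    exact Nat.card_congr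
      { toFun := fun k => ⟨((k : ↥K) : G), (hq _).1 k.2⟩
        invFun := fun z => ⟨⟨z, hZK z.2⟩, (hq (inclusion hKL ⟨z, hZK z.2⟩)).2 z.2⟩
        left_inv := fun k => rfl
        right_inv := fun z => rfl }
  have hmemK : ∀ u : ↥L, q u ∈ φ.range → (u : G) ∈ K := by
    rintro u ⟨k, hk⟩
    have h : q ((inclusion hKL k)⁻¹ * u) = 1 := by
      rw [map_mul, map_inv, show q (inclusion hKL k) = q u from hk, inv_mul_cancel]
    have h1 := K.mul_mem k.2 (hZK ((hq _).1 h))
    simpa using h1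
  let A : ↥L := ⟨a, mem_sup_right (mem_zpowers a)⟩
  let A₁ : ↥L := ⟨a₁, by
    have := mul_mem (mem_sup_left ha₁ : a₁ * a⁻¹ ∈ L) A.2
    simpa [A] using this⟩
  let X : ↥K := ⟨x, hxK⟩
  have hidx : φ.range.index = 2 := by
    rw [index_eq_two_iff]
    refine ⟨q A, fun b => ?_⟩
    obtain ⟨u, rfl⟩ := QuotientGroup.mk'_surjective (Z.subgroupOf L) b
    have hu := u.2
    obtain ⟨v, hv, k, hk, hvk⟩ : ∃ v ∈ zpowers a, ∃ k ∈ K, v * k = (u : G) := by
      have hu' : (u : G) ∈ ((zpowers a ⊔ K : Subgroup G) : Set G) := by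
        rw [SetLike.mem_coe, sup_comm]; exact hu
      rw [coe_mul_of_left_le_normalizer_right _ _ haN, Set.mem_mul] at hu'
      exact hu'
    have hv' : v = 1 ∨ v = a := by
      obtain ⟨n, rfl⟩ := hv
      show a ^ n = 1 ∨ a ^ n = a
      rcases Int.even_or_odd n with ⟨j, hj⟩ | ⟨j, hj⟩
      · left; rw [hj, ← two_mul, zpow_mul, zpow_two, ha2, one_zpow]
      · right; rw [hj, zpow_add, zpow_mul, zpow_two, ha2, one_zpow, one_mul, zpow_one]
    have hrange : ∀ u' : ↥L, (u' : G) ∈ K → q u' ∈ φ.range := fun u' h => ⟨⟨u', h⟩, rfl⟩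
    rcases hv' with hv1 | hv1 <;> rw [hv1] at hvk
    · refine Or.inr ⟨hrange u (by rw [← hvk, one_mul]; exact hk), fun h => ha ?_⟩
      rw [← map_mul] at h
      have h1 := hmemK _ h
      rw [coe_mul, ← hvk, one_mul] at h1
      exact (mul_mem_cancel_left hk).1 h1
    · refine Or.inl ⟨?_, fun h => ha ?_⟩
      · rw [← map_mul]
        refine hrange _ ?_
        have h2 := hK k hk
        rw [show a⁻¹ = a from inv_eq_of_mul_eq_one_right ha2] at h2
        rwa [coe_mul, ← hvk]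
      · have h1 := hmemK _ h
        rw [← hvk] at h1
        exact (mul_mem_cancel_right hk).1 h1
  have hout : ∀ u : ↥L, (u : G) ∉ K → q u ∉ φ.range := fun u hu h => hu (hmemK u h)
  have ha₁K : a₁ ∉ K := fun h => ha (by
    have := K.mul_mem (K.inv_mem ha₁) h
    rwa [mul_inv_rev, inv_inv, inv_mul_cancel_right] at this)
  have hX : orderOf (φ X) = 3 := by
    refine orderOf_eq_prime ?_ fun h => hx1 ?_
    · rw [← map_pow, show X ^ 3 = 1 from Subtype.ext hx3, map_one]
    · have h2 : x * x = 1 := hZ2 _ ((hq _).1 h)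
      rwa [pow_succ, pow_two, h2, one_mul] at hx3
  have hcx : Nat.card ↥(φ.range ⊓ centralizer ({φ X} : Set (↥L ⧸ Z.subgroupOf L))) ≤ 3 := by
    refine map_inf_card_le φ hker _ (le_trans (Nat.card_le_card_of_injective
      (fun k => (⟨((k.1 : ↥K) : G), k.1.2, mem_centralizer_singleton_iff.2 ?_⟩ :
        ↥(K ⊓ centralizer ({x} : Set G)))) ?_) hCx)
    · have h1 : ((k.1 : ↥K) : G) * x * ((k.1 : ↥K) : G)⁻¹ * x⁻¹ ∈ Z := by
        have h : q (inclusion hKL (k.1 * X * k.1⁻¹ * X⁻¹)) = 1 := by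
          show φ (k.1 * X * k.1⁻¹ * X⁻¹) = 1
          rw [map_mul, map_mul, map_mul, map_inv, map_inv, k.2]
          group
        exact (hq _).1 h
      set z := ((k.1 : ↥K) : G) * x * ((k.1 : ↥K) : G)⁻¹ * x⁻¹ with hz
      have h3 : (z * x) ^ 3 = 1 := by
        rw [hz, inv_mul_cancel_right, conj_pow, hx3, mul_one, mul_inv_cancel]
      rw [(show Commute z x from hZc z h1 x hxK).mul_pow, hx3, mul_one, pow_succ, pow_two,
        hZ2 z h1, one_mul] at h3
      rw [hz, mul_inv_eq_one] at h3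
      exact mul_inv_eq_iff_eq_mul.1 h3
    · intro u v huv
      exact Subtype.ext (Subtype.ext
        (congrArg (fun t : ↥(K ⊓ centralizer ({x} : Set G)) => (t : G)) huv))
  have hca : ∀ (B : ↥L) (b w : G), (B : G) = b → b * b = 1 →
      (∀ z ∈ Z, b * z * b⁻¹ = z → z = 1 ∨ z = e) → w ∈ K → w * b * w⁻¹ = e * b →
      Nat.card {k : ↥K // φ k * q B = q B * φ k} ≤
        2 * Nat.card ↥(K ⊓ centralizer ({b} : Set G)) := by
    intro B b w hB hb2 hbe hwK hwb
    have hdich : ∀ k : {k : ↥K // φ k * q B = q B * φ k},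
        ((k.1 : ↥K) : G) * b = b * (k.1 : ↥K) ∨
          ((k.1 : ↥K) : G) * w * b = b * (((k.1 : ↥K) : G) * w) := by
      intro k
      have h1 : ((k.1 : ↥K) : G) * b * ((k.1 : ↥K) : G)⁻¹ * b⁻¹ ∈ Z := by
        have h : q (inclusion hKL k.1 * B * (inclusion hKL k.1)⁻¹ * B⁻¹) = 1 := by
          rw [map_mul, map_mul, map_mul, map_inv, map_inv,
            show q (inclusion hKL k.1) * q B = q B * q (inclusion hKL k.1) from k.2]
          group
        simpa [hB] using (hq _).1 h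
      set z := ((k.1 : ↥K) : G) * b * ((k.1 : ↥K) : G)⁻¹ * b⁻¹ with hz
      have hbi : b⁻¹ = b := inv_eq_of_mul_eq_one_right hb2
      have hzb : b * z * b⁻¹ = z := by
        have h2 : b * z * b⁻¹ = z⁻¹ := by
          rw [hz]
          simp only [mul_inv_rev, inv_inv, mul_assoc, hbi, hb2, mul_one]
        rw [h2]
        exact inv_eq_of_mul_eq_one_right (hZ2 z h1)
      rcases hbe z h1 hzb with h | h
      · left
        rw [hz, mul_inv_eq_one] at h
        exact mul_inv_eq_iff_eq_mul.1 h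
      · right
        refine mul_inv_eq_iff_eq_mul.1 ?_
        rw [show ((k.1 : ↥K) : G) * w * b * (((k.1 : ↥K) : G) * w)⁻¹ =
          ((k.1 : ↥K) : G) * (w * b * w⁻¹) * ((k.1 : ↥K) : G)⁻¹ by group, hwb, ← h, ← mul_assoc,
          ← hZc z h1 _ k.1.2, h, mul_assoc e ((k.1 : ↥K) : G) b, mul_assoc e,
          show ((k.1 : ↥K) : G) * b * ((k.1 : ↥K) : G)⁻¹ = z * b by rw [hz]; group, h, ← mul_assoc,
          ← h, hZ2 z h1, one_mul]
    rw [mul_comm, ← Fintype.card_bool, ← Nat.card_eq_fintype_card, ← Nat.card_prod]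
    refine Nat.card_le_card_of_injective
      (fun k => if hk : ((k.1 : ↥K) : G) * b = b * (k.1 : ↥K) then
        ((⟨(k.1 : ↥K), k.1.2, mem_centralizer_singleton_iff.2 hk⟩, false) :
          ↥(K ⊓ centralizer ({b} : Set G)) × Bool)
      else (⟨((k.1 : ↥K) : G) * w, K.mul_mem k.1.2 hwK,
        mem_centralizer_singleton_iff.2 ((hdich k).resolve_left hk)⟩, true)) ?_
    intro u v huv
    have h1 := congrArg (fun t : ↥(K ⊓ centralizer ({b} : Set G)) × Bool => (t.1 : G)) huv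
    have h2 := congrArg Prod.snd huv
    simp only at h1 h2
    split_ifs at h1 h2 with hu hv hv
    · exact Subtype.ext (Subtype.ext h1)
    · exact Subtype.ext (Subtype.ext (mul_right_cancel h1))
  have hres := conj_eq_inv (L := ↥L ⧸ Z.subgroupOf L) hidx (a := q A) (a₁ := q A₁) (x := φ X)
    (hout A ha) (by rw [← map_mul, show A * A = 1 from Subtype.ext ha2, map_one])
    (hout A₁ ha₁K) (by rw [← map_mul, show A₁ * A₁ = 1 from Subtype.ext ha₁2, map_one])
    ⟨X, rfl⟩ hX hcx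
    (map_inf_card_le φ hker _ (le_trans (hca A a w rfl ha2 he hwK hw) (by omega)))
    (map_inf_card_le φ hker _ (le_trans (hca A₁ a₁ w₁ rfl ha₁2 he₁ hw₁K hw₁) (by omega)))
    (by show q A₁ * q (inclusion hKL X) = q (inclusion hKL X) * q A₁
        rw [← map_mul, ← map_mul]; exact congrArg q (Subtype.ext hcom))
  have h : q (A * inclusion hKL X * A⁻¹ * inclusion hKL X) = 1 := by
    rw [map_mul, map_mul, map_mul, map_inv]
    show q A * φ X * (q A)⁻¹ * φ X = 1
    rw [hres, inv_mul_cancel]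
  exact (hq _).1 h

end quotient

section concrete

/-- `(0 1)(2 3)` -/
def pF : KF := (1, swap 0 1 * swap 2 3)

/-- `(0 2)(1 3)` -/
def qF : KF := (1, swap 0 2 * swap 1 3)

/-- the transposition carried to `(3 4)` -/
def hK : KF := zF * eF * tF * zF⁻¹

/-- a rotation of the five letters -/
def piF : KF := (1, swap 0 1 * swap 0 3 * swap 1 2 * swap 1 4)

/-- carries the four-group to `⟨pF, qF⟩` -/
def s4F : KF := (1, swap 0 4)

theorem facts : fF * tF = pF ∧ dF * fF * dF⁻¹ = hF ∧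
    qF * pF = pF * qF ∧ qF * qF = 1 ∧ qF * hK * qF⁻¹ = hK * pF ∧ qF * tF * qF⁻¹ = tF * pF ∧
    tF * qF * tF⁻¹ = pF * qF ∧ hK * qF * hK⁻¹ = pF * qF ∧ zF * qF = qF * zF ∧
    qF * tF * qF * tF = pF ∧ tF * eF = eF * tF ∧ tF * hF = hF * tF ∧ eF * hF = hF * eF ∧
    xF * eF = eF * xF ∧ xF * hF = hF * xF ∧ tF * dF = dF * tF ∧ tF * xF * tF⁻¹ = xF⁻¹ := by
  refine ⟨?_, ?_, ?_, ?_, ?_, ?_, ?_, ?_, ?_, ?_, ?_, ?_, ?_, ?_, ?_, ?_, ?_⟩ <;> decide +kernel

theorem pi_facts : piF * eF * piF⁻¹ = eF ∧ piF * tF * piF⁻¹ = hF ∧ piF * dF * piF⁻¹ = xF ∧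
    s4F * aF * s4F⁻¹ = pF ∧ s4F * bF * s4F⁻¹ = qF ∧
    aF = dF * xF⁻¹ * dF * xF ∧ bF = dF⁻¹ * xF⁻¹ * dF⁻¹ * xF := by
  refine ⟨?_, ?_, ?_, ?_, ?_, ?_, ?_⟩ <;> decide +kernel

theorem basic_facts : xF ^ 3 = 1 ∧ xF ≠ 1 ∧ eF ≠ 1 ∧ hF ≠ 1 ∧ eF ≠ hF ∧ eF * eF = 1 ∧
    hF * hF = 1 ∧ ∀ k : KF, k * k ≠ eF := by
  refine ⟨?_, ?_, ?_, ?_, ?_, ?_, ?_, ?_⟩ <;> decide +kernel

theorem card_cent_H :
    (Finset.univ.filter fun k : KF => k * pF = pF * k ∧ k * qF = qF * k ∧ k * hK = hK * k).card = 4 := by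
  decide +kernel

theorem card_cent_H' :
    (Finset.univ.filter fun k : KF => k * pF = pF * k ∧ k * qF = qF * k ∧ k * tF = tF * k).card = 12 := by
  decide +kernel

theorem card_cent_x :
    (Finset.univ.filter fun k : KF => k * zF = zF * k ∧ k * pF = pF * k ∧ k * tF = tF * k).card = 12 := by
  decide +kernel

end concrete

end Wr

namespace Setup

variable {G : Type u} [Group G] [Finite G] (S : Setup G)

/-- In the wreathed configuration the centralizer of the four-group is not contained in the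
normalizer of the subgroup of order three. -/
theorem wr_big (hX : S.IsWr) : ¬ centralizer (S.V : Set G) ≤ S.ψ.range := by
  classical
  intro hV
  obtain ⟨fp, fh, qp, qq, qh, qt, tq, hq, zq, qtqt, te, th, eh, xe, xh, td, tx⟩ := Wr.facts
  obtain ⟨pe, pt, pd, sa, sb, ea, eb⟩ := Wr.pi_facts
  obtain ⟨x3, x1, e1, h1, ehne, e2, h2, nosq⟩ := Wr.basic_facts
  have hmap : ∀ {f : KF →* G} {a b c : KF}, a * b * a⁻¹ = c → f a * f b * (f a)⁻¹ = f c := by
    intro f a b c h; rw [← h, map_mul, map_mul, map_inv]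
  have hcm : ∀ {f : KF →* G} {a b : KF}, a * b = b * a → f a * f b = f b * f a := by
    intro f a b h; rw [← map_mul, ← map_mul, h]
  have hpe : S.φ Wr.pF = S.ψ eF := by
    rw [← fp, map_mul, S.φ_tF, show S.φ fF = S.ψ (eF * tF) from hX.2, map_mul, mul_assoc,
      ← map_mul S.ψ tF tF, show tF * tF = 1 by decide +kernel, map_one, mul_one]
  have hhK : S.φ Wr.hK = S.ψ hF := by
    rw [← fh, map_mul, map_mul, map_inv, Wr.hK, map_mul, map_mul, map_mul, map_inv, S.φ_zF,
      S.φ_tF, show S.φ eF = S.ψ (fF * tF) from hX.1, map_mul, mul_assoc (S.ψ dF),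
      mul_assoc (S.ψ fF), ← map_mul S.ψ tF tF, show tF * tF = 1 by decide +kernel, map_one, mul_one]
  set e := S.ψ eF with he
  set h := S.ψ hF with hh
  set t := S.ψ tF with ht
  set P := S.ψ Wr.piF with hP
  set H := S.φ Wr.qF with hH
  set H₁ := P * H * P⁻¹ with hH₁
  have hPe : P * e * P⁻¹ = e := hmap pe
  have hPt : P * t * P⁻¹ = h := hmap pt
  have hPd : P * S.ψ dF * P⁻¹ = S.ψ xF := hmap pd
  have hHe : H * e * H⁻¹ = e := by rw [← hpe]; exact hmap (by rw [qp, mul_inv_cancel_right])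
  have hHh : H * h * H⁻¹ = h * e := by
    rw [← hhK, ← hpe]; exact (hmap (f := S.φ) qh).trans (map_mul _ _ _)
  have hHt : H * t * H⁻¹ = t * e := by
    rw [ht, ← S.φ_tF, ← hpe]; exact (hmap (f := S.φ) qt).trans (map_mul _ _ _)
  have hH2 : H * H = 1 := by rw [hH, ← map_mul, qq, map_one]
  have hmemK : ∀ {w : G}, w ∈ centralizer ({e, h} : Set G) ↔ w * e = e * w ∧ w * h = h * w := by
    intro w
    rw [mem_centralizer_iff]
    exact ⟨fun hw => ⟨(hw e (Or.inl rfl)).symm, (hw h (Or.inr rfl)).symm⟩,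
      fun hw v hv => by rcases hv with rfl | rfl; exacts [hw.1.symm, hw.2.symm]⟩
  have hconjcomm : ∀ {u v c : G}, u * v = v * u → (c * u * c⁻¹) * (c * v * c⁻¹) =
      (c * v * c⁻¹) * (c * u * c⁻¹) := by
    intro u v c huv
    rw [show c * u * c⁻¹ * (c * v * c⁻¹) = c * (u * v) * c⁻¹ by group, huv]; group
  have heh : e * h = h * e := hcm eh
  have he2 : e * e = 1 := by rw [he, ← map_mul, e2, map_one]
  have hh2 : h * h = 1 := by rw [hh, ← map_mul, h2, map_one]
  have hne_e : e ≠ 1 := fun he' => e1 (S.inj (he'.trans (map_one _).symm))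
  have hne_h : h ≠ 1 := fun he' => h1 (S.inj (he'.trans (map_one _).symm))
  have hne_eh : e ≠ h := fun he' => ehne (S.inj he')
  have hH₁e : H₁ * e * H₁⁻¹ = e := by
    calc H₁ * e * H₁⁻¹ = P * (H * (P⁻¹ * e * P) * H⁻¹) * P⁻¹ := by rw [hH₁]; group
      _ = P * (H * e * H⁻¹) * P⁻¹ := by
        rw [show P⁻¹ * e * P = e by
          conv_lhs => rw [← hPe]
          group]
      _ = e := by rw [hHe, hPe]
  have hH₁h : H₁ * h * H₁⁻¹ = h * e := by
    calc H₁ * h * H₁⁻¹ = P * (H * (P⁻¹ * h * P) * H⁻¹) * P⁻¹ := by rw [hH₁]; group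
      _ = P * (H * t * H⁻¹) * P⁻¹ := by rw [← hPt]; group
      _ = (P * t * P⁻¹) * (P * e * P⁻¹) := by rw [hHt]; group
      _ = h * e := by rw [hPt, hPe]
  -- the group of order four
  have hZmem : ∀ {w : G}, w ∈ S.Z ↔ w = 1 ∨ w = e ∨ w = h ∨ w = e * h := by
    have hee : ∀ v : G, e * (e * v) = v := fun v => by rw [← mul_assoc, he2, one_mul]
    have hhh : ∀ v : G, h * (h * v) = v := fun v => by rw [← mul_assoc, hh2, one_mul]
    have hhe : ∀ v : G, h * (e * v) = e * (h * v) := fun v => by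
      rw [← mul_assoc, ← heh, mul_assoc]
    intro w
    constructor
    · intro hw
      refine closure_induction (fun v hv => ?_) (Or.inl rfl) (fun u v _ _ hu hv => ?_)
        (fun u _ hu => ?_) hw
      · rcases hv with rfl | rfl
        · exact Or.inr (Or.inl rfl)
        · exact Or.inr (Or.inr (Or.inl rfl))
      · rcases hu with rfl | rfl | rfl | rfl <;> rcases hv with rfl | rfl | rfl | rfl <;>
          simp [mul_assoc, he2, hh2, hee, hhh, hhe, ← heh]
      · rcases hu with rfl | rfl | rfl | rfl <;>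
          simp [inv_eq_of_mul_eq_one_right he2, inv_eq_of_mul_eq_one_right hh2, ← heh]
    · have hme : e ∈ S.Z := subset_closure (Or.inl rfl)
      have hmh : h ∈ S.Z := subset_closure (Or.inr rfl)
      rintro (rfl | rfl | rfl | rfl)
      exacts [one_mem _, hme, hmh, mul_mem hme hmh]
  have hne_prod : e * h ≠ 1 ∧ e * h ≠ e ∧ e * h ≠ h :=
    ⟨fun h' => hne_eh ((eq_inv_of_mul_eq_one_left h').trans (inv_eq_of_mul_eq_one_right hh2)),
      fun h' => hne_h (mul_eq_left.1 h'), fun h' => hne_e (mul_eq_right.1 h')⟩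
  have hZcard : Nat.card ↥S.Z = 4 := by
    rw [show Nat.card ↥S.Z = Nat.card ↥(({1, e, h, e * h} : Finset G) : Set G) from
      Nat.card_congr (Equiv.subtypeEquivRight fun w => by
        simpa using hZmem), Nat.card_coe_set_eq, Set.ncard_coe_finset]
    rw [Finset.card_insert_of_notMem, Finset.card_insert_of_notMem, Finset.card_insert_of_notMem,
      Finset.card_singleton]
    all_goals simp [hne_e.symm, hne_h.symm, hne_prod.1.symm, hne_eh, hne_prod.2.1.symm,
      hne_prod.2.2.symm]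
  have hfixZ : ∀ {b : G}, b * e * b⁻¹ = e → b * h * b⁻¹ = h * e →
      ∀ z ∈ S.Z, b * z * b⁻¹ = z → z = 1 ∨ z = e := by
    intro b hbe hbh z hz hzb
    rcases hZmem.1 hz with rfl | rfl | rfl | rfl
    · exact Or.inl rfl
    · exact Or.inr rfl
    · rw [hbh] at hzb
      exact absurd (mul_eq_left.1 hzb) hne_e
    · rw [show b * (e * h) * b⁻¹ = (b * e * b⁻¹) * (b * h * b⁻¹) by group, hbe, hbh,
        ← mul_assoc] at hzb
      exact absurd (mul_eq_left.1 hzb) hne_e
  have hcz : centralizer ({S.ψ zF} : Set G) ≤ S.ψ.range := by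
    rw [S.range_eq]
    intro w hw
    refine mem_normalizer_fintype ?_
    rintro v ⟨n, rfl⟩
    refine ⟨n, ?_⟩
    show S.ψ zF ^ n = w * S.ψ zF ^ n * w⁻¹
    rw [(Commute.zpow_right (mem_centralizer_singleton_iff.1 hw) n).eq, mul_inv_cancel_right]
  have hφrange : ∀ {w : G}, S.g⁻¹ * w * S.g ∈ S.ψ.range → w ∈ S.φ.range := by
    rintro w ⟨k, hk⟩
    exact ⟨k, by rw [S.φ_apply, hk]; group⟩
  have hCd : ∀ {w : G}, w * S.ψ dF = S.ψ dF * w → w ∈ S.φ.range := by
    intro w hw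
    refine hφrange (hcz (mem_centralizer_singleton_iff.2 ?_))
    have hgz : S.ψ zF = S.g⁻¹ * S.ψ dF * S.g := by rw [← S.g_z]; group
    rw [hgz]
    calc S.g⁻¹ * w * S.g * (S.g⁻¹ * S.ψ dF * S.g) = S.g⁻¹ * (w * S.ψ dF) * S.g := by group
      _ = S.g⁻¹ * (S.ψ dF * w) * S.g := by rw [hw]
      _ = S.g⁻¹ * S.ψ dF * S.g * (S.g⁻¹ * w * S.g) := by group
  have hCpq : ∀ {w : G}, w * e = e * w → w * H = H * w → w ∈ S.φ.range := by
    intro w hwe hwH
    refine hφrange ?_
    set v := S.g⁻¹ * w * S.g with hv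
    clear_value v
    have hvp : v * S.ψ Wr.pF = S.ψ Wr.pF * v := by
      apply (MulAut.conj S.g).injective
      rw [map_mul, map_mul, MulAut.conj_apply, MulAut.conj_apply,
        show S.g * v * S.g⁻¹ = w by rw [hv]; group, ← S.φ_apply, hpe]
      exact hwe
    have hvq : v * S.ψ Wr.qF = S.ψ Wr.qF * v := by
      apply (MulAut.conj S.g).injective
      rw [map_mul, map_mul, MulAut.conj_apply, MulAut.conj_apply,
        show S.g * v * S.g⁻¹ = w by rw [hv]; group, ← S.φ_apply]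
      exact hwH
    set c := S.ψ Wr.s4F with hc
    have ha : S.ψ aF = c⁻¹ * S.ψ Wr.pF * c := by rw [← hmap (f := S.ψ) sa, hc]; group
    have hb : S.ψ bF = c⁻¹ * S.ψ Wr.qF * c := by rw [← hmap (f := S.ψ) sb, hc]; group
    have hu : c⁻¹ * v * c ∈ centralizer (S.V : Set G) := by
      rw [Setup.V, centralizer_closure, mem_centralizer_iff]
      rintro u (rfl | rfl)
      · rw [ha]
        have := hconjcomm (c := c⁻¹) hvp
        simpa [inv_inv] using this.symm
      · rw [hb]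
        have := hconjcomm (c := c⁻¹) hvq
        simpa [inv_inv] using this.symm
    obtain ⟨k, hk⟩ := hV hu
    exact ⟨Wr.s4F * k * Wr.s4F⁻¹, by rw [map_mul, map_mul, map_inv, ← hc, hk]; group⟩
  have hbound : ∀ (pr : KF → Prop) [DecidablePred pr] (T : Set G) (c : G) (n : ℕ),
      (∀ w ∈ T, ∃ k : KF, pr k ∧ S.φ k = c⁻¹ * w * c) →
      (Finset.univ.filter pr).card = n → Nat.card ↥T ≤ n := by
    intro pr _ T c n hT hn
    choose f hf1 hf2 using hT
    rw [← hn, ← Fintype.card_subtype, ← Nat.card_eq_fintype_card]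
    refine Nat.card_le_card_of_injective (fun w : ↥T => (⟨f w w.2, hf1 w w.2⟩ : {k // pr k})) ?_
    intro u v huv
    have h3 : c⁻¹ * (u : G) * c = c⁻¹ * (v : G) * c := by
      rw [← hf2 u u.2, ← hf2 v v.2, show f u u.2 = f v v.2 from congrArg Subtype.val huv]
    exact Subtype.ext (mul_left_cancel (mul_right_cancel h3))
  have hcomm_of : ∀ {k l : KF}, S.φ k * S.φ l = S.φ l * S.φ k → k * l = l * k := fun hkl =>
    S.φ_inj (by rw [map_mul, map_mul, hkl])
  have hback : ∀ {w u v : G}, w * u = u * w → P * v * P⁻¹ = u →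
      (P⁻¹ * w * P) * v = v * (P⁻¹ * w * P) := by
    intro w u v hwu huv
    subst huv
    calc P⁻¹ * w * P * v = P⁻¹ * (w * (P * v * P⁻¹)) * P := by group
      _ = P⁻¹ * (P * v * P⁻¹ * w) * P := by rw [hwu]
      _ = v * (P⁻¹ * w * P) := by group
  have hCx : Nat.card ↥(S.K ⊓ centralizer ({S.ψ xF} : Set G)) ≤ 12 := by
    refine hbound _ (↑(S.K ⊓ centralizer ({S.ψ xF} : Set G)) : Set G) P 12 ?_ Wr.card_cent_x
    rintro w ⟨hwK, hwx⟩
    obtain ⟨hwe, hwh⟩ := hmemK.1 hwK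
    have hd := hback (mem_centralizer_singleton_iff.1 hwx) hPd
    obtain ⟨k, hk⟩ := hCd hd
    refine ⟨k, ⟨hcomm_of ?_, hcomm_of ?_, hcomm_of ?_⟩, hk⟩
    · rw [hk, S.φ_zF]; exact hd
    · rw [hk, hpe]; exact hback hwe hPe
    · rw [hk, S.φ_tF]; exact hback hwh hPt
  have hCH : Nat.card ↥(S.K ⊓ centralizer ({H} : Set G)) ≤ 4 := by
    refine hbound _ (↑(S.K ⊓ centralizer ({H} : Set G)) : Set G) 1 4 ?_ Wr.card_cent_H
    rintro w ⟨hwK, hwH⟩
    obtain ⟨hwe, hwh⟩ := hmemK.1 hwK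
    have hH' := mem_centralizer_singleton_iff.1 hwH
    obtain ⟨k, hk⟩ := hCpq hwe hH'
    refine ⟨k, ⟨hcomm_of ?_, hcomm_of ?_, hcomm_of ?_⟩, by rw [hk, inv_one, one_mul, mul_one]⟩
    · rw [hk, hpe]; exact hwe
    · rw [hk, ← hH]; exact hH'
    · rw [hk, hhK]; exact hwh
  have hCH₁ : Nat.card ↥(S.K ⊓ centralizer ({H₁} : Set G)) ≤ 12 := by
    refine hbound _ (↑(S.K ⊓ centralizer ({H₁} : Set G)) : Set G) P 12 ?_ Wr.card_cent_H'
    rintro w ⟨hwK, hwH⟩
    obtain ⟨hwe, hwh⟩ := hmemK.1 hwK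
    have hH' := hback (mem_centralizer_singleton_iff.1 hwH) hH₁.symm
    have he' := hback hwe hPe
    obtain ⟨k, hk⟩ := hCpq he' hH'
    refine ⟨k, ⟨hcomm_of ?_, hcomm_of ?_, hcomm_of ?_⟩, hk⟩
    · rw [hk, hpe]; exact he'
    · rw [hk, ← hH]; exact hH'
    · rw [hk, S.φ_tF]; exact hback hwh hPt
  have hHi : H⁻¹ = H := inv_eq_of_mul_eq_one_right hH2
  have hxK : S.ψ xF ∈ S.K := hmemK.2 ⟨hcm xe, hcm xh⟩
  have hconjK : ∀ {b : G}, b * e * b⁻¹ = e → b * h * b⁻¹ = h * e → ∀ k ∈ S.K, b * k * b⁻¹ ∈ S.K := by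
    intro b hbe hbh k hk
    obtain ⟨hke, hkh⟩ := hmemK.1 hk
    refine hmemK.2 ⟨?_, ?_⟩
    · have := hconjcomm (c := b) hke
      rwa [hbe] at this
    · have hb2 : b * (e * h) * b⁻¹ = h := by
        rw [show b * (e * h) * b⁻¹ = (b * e * b⁻¹) * (b * h * b⁻¹) by group, hbe, hbh, ← mul_assoc,
          heh, mul_assoc, he2, mul_one]
      have hkeh : k * (e * h) = (e * h) * k := by
        rw [← mul_assoc, hke, mul_assoc, hkh, ← mul_assoc]
      have := hconjcomm (c := b) hkeh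
      rwa [hb2] at this
  have key := Wr.conj_mul_mem (K := S.K) (Z := S.Z) (a := H) (a₁ := H₁) (x := S.ψ xF) (e := e)
    (w := t) (w₁ := P * h * P⁻¹)
    (fun v hv => hmemK.2 (by
      rcases hZmem.1 hv with rfl | rfl | rfl | rfl
      · simp
      · exact ⟨rfl, heh⟩
      · exact ⟨heh.symm, rfl⟩
      · exact ⟨by rw [mul_assoc, ← heh], by rw [heh, mul_assoc, heh]⟩))
    (fun v hv k hk => by
      obtain ⟨hke, hkh⟩ := hmemK.1 hk
      rcases hZmem.1 hv with rfl | rfl | rfl | rfl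
      · simp
      · exact hke.symm
      · exact hkh.symm
      · rw [mul_assoc, ← hkh, ← mul_assoc, ← hke, mul_assoc])
    (fun v hv => by
      rcases hZmem.1 hv with rfl | rfl | rfl | rfl
      · simp
      · exact he2
      · exact hh2
      · rw [show e * h * (e * h) = e * (h * e) * h by group, ← heh, ← mul_assoc, he2, one_mul, hh2])
    hZcard
    (fun hk => by
      have h3 := (hmemK.1 hk).2
      rw [mul_inv_eq_iff_eq_mul] at hHh
      rw [h3, mul_assoc] at hHh
      exact hne_e (mul_eq_right.1 (mul_left_cancel hHh).symm))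
    hH2 (hconjK hHe hHh)
    (fun v hv => by
      rcases hZmem.1 hv with rfl | rfl | rfl | rfl
      · simp [one_mem]
      · rw [hHe]; exact hv
      · rw [hHh, ← heh]; exact hZmem.2 (Or.inr (Or.inr (Or.inr rfl)))
      · rw [show H * (e * h) * H⁻¹ = (H * e * H⁻¹) * (H * h * H⁻¹) by group, hHe, hHh, ← mul_assoc,
          heh, mul_assoc, he2, mul_one]
        exact hZmem.2 (Or.inr (Or.inr (Or.inl rfl))))
    (by
      refine hmemK.2 ⟨?_, ?_⟩
      · refine mul_inv_eq_iff_eq_mul.1 ?_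
        calc H₁ * H⁻¹ * e * (H₁ * H⁻¹)⁻¹ = H₁ * (H⁻¹ * e * H) * H₁⁻¹ := by group
          _ = e := by rw [show H⁻¹ * e * H = e by nth_rw 1 [← hHe]; group, hH₁e]
      · refine mul_inv_eq_iff_eq_mul.1 ?_
        calc H₁ * H⁻¹ * h * (H₁ * H⁻¹)⁻¹ = H₁ * (H⁻¹ * h * H⁻¹⁻¹) * H₁⁻¹ := by group
          _ = (H₁ * h * H₁⁻¹) * (H₁ * e * H₁⁻¹) := by rw [hHi, hHi]; rw [hHi] at hHh; rw [hHh]; group
          _ = h := by rw [hH₁h, hH₁e, mul_assoc, he2, mul_one])
    (by rw [hH₁, show P * H * P⁻¹ * (P * H * P⁻¹) = P * (H * H) * P⁻¹ by group, hH2, mul_one,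
      mul_inv_cancel])
    hxK (by rw [← map_pow, x3, map_one]) (fun h' => x1 (S.inj (h'.trans (map_one _).symm)))
    (by
      rw [hH₁, ← hPd]
      refine hconjcomm ?_
      rw [← S.φ_zF, hH]
      exact hcm zq.symm)
    (hfixZ hHe hHh) (hfixZ hH₁e hH₁h) (hmemK.2 ⟨hcm te, hcm th⟩)
    (by
      rw [ht, ← S.φ_tF, ← hpe, hH, ← map_mul S.φ Wr.pF]
      exact hmap tq)
    (hmemK.2 (by
      have h3 : t * h = h * t := hcm th
      constructor
      · have := hconjcomm (c := P) heh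
        rw [hPe] at this
        exact this.symm
      · have := hconjcomm (c := P) h3
        rw [hPt] at this
        exact this.symm))
    (by
      calc P * h * P⁻¹ * H₁ * (P * h * P⁻¹)⁻¹ = P * (h * H * h⁻¹) * P⁻¹ := by rw [hH₁]; group
        _ = P * (e * H) * P⁻¹ := by rw [← hhK, ← hpe, hH, hmap hq, map_mul]
        _ = (P * e * P⁻¹) * (P * H * P⁻¹) := by group
        _ = e * H₁ := by rw [hPe, hH₁])
    hCx hCH hCH₁
  -- hence `H` inverts `x`
  set x := S.ψ xF with hx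
  have hx3 : x ^ 3 = 1 := by rw [hx, ← map_pow, x3, map_one]
  have hinv : H * x * H⁻¹ = x⁻¹ := by
    have hzk : Commute (H * x * H⁻¹ * x) x := by
      obtain ⟨hxe, hxh⟩ := hmemK.1 hxK
      rcases hZmem.1 key with h3 | h3 | h3 | h3 <;> rw [h3]
      · exact Commute.one_left x
      · exact hxe.symm
      · exact hxh.symm
      · exact Commute.mul_left hxe.symm hxh.symm
    have hz2 : (H * x * H⁻¹ * x) * (H * x * H⁻¹ * x) = 1 := by
      rcases hZmem.1 key with h3 | h3 | h3 | h3 <;> rw [h3]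
      · exact one_mul 1
      · exact he2
      · exact hh2
      · rw [show e * h * (e * h) = e * (h * e) * h by group, ← heh, ← mul_assoc, he2, one_mul, hh2]
    have h4 : ((H * x * H⁻¹ * x) * x⁻¹) ^ 3 = 1 := by
      rw [mul_inv_cancel_right, conj_pow, hx3, mul_one, mul_inv_cancel]
    rw [hzk.inv_right.mul_pow, inv_pow, hx3, inv_one, mul_one, pow_succ, pow_two, hz2, one_mul] at h4
    exact eq_inv_of_mul_eq_one_left h4
  -- so `H * t` centralizes the four-group
  have hd : (H * t) * S.ψ dF * (H * t)⁻¹ = S.ψ dF := by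
    rw [show (H * t) * S.ψ dF * (H * t)⁻¹ = H * (t * S.ψ dF * t⁻¹) * H⁻¹ by group,
      show t * S.ψ dF = S.ψ dF * t from hcm td, mul_inv_cancel_right, ← S.φ_zF, hH]
    exact hmap (by rw [← zq, mul_inv_cancel_right])
  have hxx : (H * t) * x * (H * t)⁻¹ = x := by
    rw [show (H * t) * x * (H * t)⁻¹ = H * (t * x * t⁻¹) * H⁻¹ by group,
      show t * x * t⁻¹ = x⁻¹ by rw [ht, hx, hmap tx, map_inv], ← conj_inv, hinv, inv_inv]
  have hcd : Commute (H * t) (S.ψ dF) := mul_inv_eq_iff_eq_mul.1 hd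
  have hcx' : Commute (H * t) x := mul_inv_eq_iff_eq_mul.1 hxx
  have hmem : H * t ∈ centralizer (S.V : Set G) := by
    rw [Setup.V, centralizer_closure, mem_centralizer_iff]
    rintro u (rfl | rfl)
    · rw [ea, map_mul, map_mul, map_mul, map_inv]
      exact (((hcd.mul_right hcx'.inv_right).mul_right hcd).mul_right hcx').eq.symm
    · rw [eb, map_mul, map_mul, map_mul, map_inv, map_inv]
      exact (((hcd.inv_right.mul_right hcx'.inv_right).mul_right hcd.inv_right).mul_right hcx').eq.symm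
  obtain ⟨k, hk⟩ := hV hmem
  refine nosq k (S.inj ?_)
  rw [map_mul, hk, show H * t * (H * t) = H * t * H * t by group, hH, ht, ← S.φ_tF,
    ← map_mul, ← map_mul, ← map_mul, qtqt, hpe]

end Setup

end CfsgLib.SEightThree
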