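import Cfsg.Agent.Lib.SEightThree.Common

/-!
Finite facts for the two factors of the wreathed configuration.
-/

set_option autoImplicit false
set_option maxRecDepth 100000
set_option maxHeartbeats 4000000

namespace CfsgLib.SEightThree

open Equiv Subgroup

/-- The elements of the four-group generated by `aF` and `bF`. -/
def vList : List KF := [1, aF, bF, aF * bF]

/-- The four-group generated by `aF` and `bF`. -/
def VF : Subgroup KF := closure {aF, bF}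

theorem vList_mul : ∀ k ∈ vList, ∀ l ∈ vList, k * l ∈ vList ∧ k * l = l * k ∧ k⁻¹ = k := by
  decide +kernel

theorem mem_VF_iff {k : KF} : k ∈ VF ↔ k ∈ vList := by
  constructor
  · intro hk
    induction hk using closure_induction with
    | mem y hy => rcases hy with rfl | rfl <;> decide +kernel
    | one => decide +kernel
    | mul y w _ _ hy hw => exact (vList_mul y hy w hw).1
    | inv y _ hy => exact (vList_mul y hy y hy).2.2.symm ▸ hy
  · intro hk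
    have ha : aF ∈ VF := subset_closure (Or.inl rfl)
    have hb : bF ∈ VF := subset_closure (Or.inr rfl)
    simp only [vList, List.mem_cons, List.not_mem_nil, or_false] at hk
    rcases hk with rfl | rfl | rfl | rfl
    exacts [one_mem _, ha, hb, mul_mem ha hb]

theorem card_VF : Nat.card VF = 4 := by
  rw [Nat.card_congr (Equiv.subtypeEquivRight fun k : KF => mem_VF_iff),
    Nat.card_eq_fintype_card]
  decide +kernel

theorem mem_L₁F_iff {k : KF} : k ∈ L₁F ↔ k.1 = 1 ∧ Perm.sign k.2 = 1 := by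
  rw [L₁F, Subgroup.mem_prod, Subgroup.mem_bot, Perm.mem_alternatingGroup]

theorem gens_mem_L₁F : dF ∈ L₁F ∧ xF ∈ L₁F ∧ aF ∈ L₁F ∧ bF ∈ L₁F ∧ fF * tF ∈ L₁F := by
  simp only [mem_L₁F_iff]
  decide +kernel

theorem L₁F_normal : ∀ k m : KF, m ∈ L₁F → k * m * k⁻¹ ∈ L₁F := by
  intro k m hm
  rw [mem_L₁F_iff] at hm ⊢
  refine ⟨?_, ?_⟩
  · simp [hm.1]
  · simp [hm.2]

/-- The centralizer of `zF` is generated by `L₁F`, `zF` and `tF`. -/
theorem cent_z_split : ∀ k : KF, k * zF = zF * k → ∃ i : Fin 3, ∃ j : Fin 2,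
    (k * (zF ^ i.1 * tF ^ j.1)⁻¹).1 = 1 ∧
      Perm.sign (k * (zF ^ i.1 * tF ^ j.1)⁻¹).2 = 1 := by
  decide +kernel

theorem dt_comm_x : ∀ i : Fin 3, ∀ j : Fin 2,
    dF ^ i.1 * tF ^ j.1 * xF = xF * (dF ^ i.1 * tF ^ j.1) → i = 0 ∧ j = 0 := by
  decide +kernel

theorem L₁F_center : ∀ k : KF, k.1 = 1 → k * dF = dF * k → k * xF = xF * k → k = 1 := by
  decide +kernel

theorem L₁F_cent_V : ∀ k : KF, k.1 = 1 → Perm.sign k.2 = 1 → k * aF = aF * k →
    k * bF = bF * k → k ∈ vList := by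
  decide +kernel

theorem cent_z_V : ∀ k : KF, k * zF = zF * k → k * aF = aF * k → k * bF = bF * k →
    ∃ i : Fin 3, (zF ^ i.1)⁻¹ * k ∈ vList := by
  decide +kernel

theorem cent_z_V_four_aux : ∀ i : Fin 3, ∀ v ∈ vList, (zF ^ i.1 * v) ^ 4 = 1 →
    zF ^ i.1 * v ∈ vList := by
  decide +kernel

theorem cent_z_V_four (k : KF) (hz : k * zF = zF * k) (ha : k * aF = aF * k)
    (hb : k * bF = bF * k) (h4 : k ^ 4 = 1) : k ∈ vList := by
  obtain ⟨i, hi⟩ := cent_z_V k hz ha hb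
  have h := cent_z_V_four_aux i _ hi
  rw [mul_inv_cancel_left] at h
  exact h h4

theorem d_normalizes_V : ∀ k ∈ vList, dF * k * dF⁻¹ ∈ vList ∧ dF⁻¹ * k * dF ∈ vList := by
  decide +kernel

theorem vList_cases : ∀ k ∈ vList, k ^ 2 = 1 ∧ k ^ 3 = k ∧ k ≠ zF := by
  decide +kernel

theorem order_three_conj : ∀ s : Perm (Fin 5), Perm.sign s = 1 → s ^ 3 = 1 → s ≠ 1 →
    ∃ r : Perm (Fin 5), Perm.sign r = 1 ∧ r * s * r⁻¹ = swap 2 3 * swap 3 4 := by
  decide +kernel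

theorem zd_comm_ef : ∀ i j : Fin 3, zF ^ i.1 * dF ^ j.1 * eF = eF * (zF ^ i.1 * dF ^ j.1) →
    zF ^ i.1 * dF ^ j.1 * fF = fF * (zF ^ i.1 * dF ^ j.1) → i = 0 ∧ j = 0 := by
  decide +kernel

theorem card_cent_zd :
    Nat.card {k : KF // k * zF = zF * k ∧ k * dF = dF * k} = 18 := by
  rw [Nat.card_eq_fintype_card]
  decide +kernel

theorem diag_conj_inv : eF⁻¹ = eF ∧ tF * tF = 1 ∧ eF * zF * eF = zF⁻¹ ∧ eF * dF * eF = dF := by
  decide +kernel

theorem extra_comm : tF * eF = eF * tF ∧ tF * fF = fF * tF := by decide +kernel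

theorem tF_not_L₁F : Perm.sign tF.2 ≠ 1 := by decide +kernel

theorem card_A5 : Nat.card (alternatingGroup (Fin 5)) = 60 := by
  rw [Nat.card_eq_fintype_card]
  decide +kernel

/-- Cases for an element of the group of order nine. -/
theorem zd_cases : ∀ i j : Fin 3, zF ^ i.1 * dF ^ j.1 = 1 ∨
    zF ^ i.1 * dF ^ j.1 = zF ∨ zF ^ i.1 * dF ^ j.1 = zF⁻¹ ∨
    zF ^ i.1 * dF ^ j.1 = dF ∨ zF ^ i.1 * dF ^ j.1 = dF⁻¹ ∨
    zF ^ i.1 * dF ^ j.1 = zF * dF ∨ zF ^ i.1 * dF ^ j.1 = (zF * dF)⁻¹ ∨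
    zF ^ i.1 * dF ^ j.1 = eF * (zF * dF) * eF⁻¹ ∨
    zF ^ i.1 * dF ^ j.1 = eF * (zF * dF)⁻¹ * eF⁻¹ := by
  decide +kernel

end CfsgLib.SEightThree
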