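import Cfsg.Agent.Lib.SEightThree.Common
import Cfsg.Agent.Lib.SEightThree.WrFacts
import Cfsg.Agent.Lib.Coprime.Action2
import Cfsg.Agent.Lib.Classical.Order
import Cfsg.Agent.S3331

/-!
The two simple factors in the wreathed configuration: centralizers and the normalizer of
their product.
-/

set_option autoImplicit false
set_option linter.style.haveILetI false
set_option linter.unusedVariables false
set_option linter.unusedSectionVars false
set_option maxRecDepth 100000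
set_option maxHeartbeats 1000000

namespace CfsgLib.SEightThree

open Subgroup Equiv

universe u

/-- The embedding of the alternating group of degree five in the second factor. -/
def inA : alternatingGroup (Fin 5) →* KF :=
  (MonoidHom.inr (Perm (Fin 3)) (Perm (Fin 5))).comp (alternatingGroup (Fin 5)).subtype

theorem inA_inj : Function.Injective inA := fun a b h =>
  Subtype.ext (congrArg Prod.snd h)

theorem range_inA : inA.range = L₁F := by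
  ext k
  rw [mem_L₁F_iff]
  constructor
  · rintro ⟨a, rfl⟩
    exact ⟨rfl, Perm.mem_alternatingGroup.1 a.2⟩
  · intro h
    exact ⟨⟨k.2, Perm.mem_alternatingGroup.2 h.2⟩, Prod.ext h.1.symm rfl⟩

theorem inA_mem (a : alternatingGroup (Fin 5)) : inA a ∈ L₁F :=
  range_inA ▸ ⟨a, rfl⟩

theorem sq_of_vList {k : KF} (h : k ∈ vList) : k * k = 1 := by
  rw [← pow_two]; exact (vList_cases k h).1

variable {G : Type u} [Group G] (S : Setup G)

namespace Setup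

theorem φ_comm_of_map {a b : KF} (h : S.φ a * S.φ b = S.φ b * S.φ a) : a * b = b * a :=
  S.φ_inj (by rw [map_mul, h, map_mul])

/-- The first factor as an image of the alternating group. -/
def ι₁ : alternatingGroup (Fin 5) →* G := S.ψ.comp inA

/-- The second factor as an image of the alternating group. -/
def ι₂ : alternatingGroup (Fin 5) →* G := S.φ.comp inA

theorem range_ι₁ : S.ι₁.range = S.L₁ := by
  rw [ι₁, MonoidHom.range_comp, range_inA, L₁]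

theorem range_ι₂ : S.ι₂.range = S.L₂ := by
  rw [ι₂, MonoidHom.range_comp, range_inA, L₂]

theorem ι₁_inj : Function.Injective S.ι₁ := S.inj.comp inA_inj

theorem ι₂_inj : Function.Injective S.ι₂ := S.φ_inj.comp inA_inj

theorem g_mem_cent_y : S.g ∈ centralizer ({S.ψ zF * S.ψ dF} : Set G) := by
  rw [mem_centralizer_singleton_iff]
  calc S.g * (S.ψ zF * S.ψ dF)
      = (S.g * S.ψ zF * S.g⁻¹) * (S.g * S.ψ dF * S.g⁻¹) * S.g := by group
    _ = S.ψ dF * S.ψ zF * S.g := by rw [S.g_z, S.g_d]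
    _ = S.ψ zF * S.ψ dF * S.g := by rw [S.map_comm facts_comm.1.symm]

theorem φ_comm_of_d {x : G} (hx : x * S.ψ dF = S.ψ dF * x) :
    ∃ k : KF, S.φ k = x ∧ k * zF = zF * k := by
  obtain ⟨k, hk⟩ := S.cent_d_le (mem_centralizer_singleton_iff.2 hx)
  exact ⟨k, hk, S.φ_comm_of_map (by rw [hk, S.φ_zF]; exact hx)⟩

theorem V_eq_map : S.V = VF.map S.ψ := by
  rw [VF, MonoidHom.map_closure, Set.image_pair]; rfl

theorem V'_eq_map : S.V' = VF.map S.φ := by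
  rw [VF, MonoidHom.map_closure, Set.image_pair]; rfl

theorem mem_centV {x : G} :
    x ∈ centralizer (S.V : Set G) ↔
      x * S.ψ aF = S.ψ aF * x ∧ x * S.ψ bF = S.ψ bF * x := by
  rw [Setup.V, centralizer_closure, mem_centralizer_iff]
  simp only [Set.mem_insert_iff, Set.mem_singleton_iff, forall_eq_or_imp, forall_eq]
  exact ⟨fun h => ⟨h.1.symm, h.2.symm⟩, fun h => ⟨h.1.symm, h.2.symm⟩⟩

/-- An element commuting with `z` and centralizing the four-group lies in `⟨z⟩ × V`. -/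
theorem centV_cent_z {x : G} (hV : x ∈ centralizer (S.V : Set G))
    (hz : x * S.ψ zF = S.ψ zF * x) : ∃ i : Fin 3, (S.ψ zF ^ i.1)⁻¹ * x ∈ S.V := by
  obtain ⟨k, rfl⟩ := S.cent_z_le (mem_centralizer_singleton_iff.2 hz)
  obtain ⟨ha, hb⟩ := S.mem_centV.1 hV
  obtain ⟨i, hi⟩ := cent_z_V k (S.comm_of_map hz) (S.comm_of_map ha) (S.comm_of_map hb)
  refine ⟨i, ?_⟩
  rw [S.V_eq_map, ← map_pow, ← map_inv, ← map_mul]
  exact mem_map_of_mem _ (mem_VF_iff.2 hi)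

theorem centV_cent_z_four {x : G} (hV : x ∈ centralizer (S.V : Set G))
    (hz : x * S.ψ zF = S.ψ zF * x) (h4 : x ^ 4 = 1) : x ∈ S.V := by
  obtain ⟨k, rfl⟩ := S.cent_z_le (mem_centralizer_singleton_iff.2 hz)
  obtain ⟨ha, hb⟩ := S.mem_centV.1 hV
  rw [← map_pow, ← map_one S.ψ] at h4
  rw [S.V_eq_map]
  exact mem_map_of_mem _ (mem_VF_iff.2
    (cent_z_V_four k (S.comm_of_map hz) (S.comm_of_map ha) (S.comm_of_map hb) (S.inj h4)))

/-- The group of order nine is normal in the centralizer of a diagonal element. -/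
theorem D_conj_of_diag {x : G} {a : G} (ha : a ∈ S.D)
    (hx : x * (S.ψ zF * S.ψ dF) = S.ψ zF * S.ψ dF * x) : x * a * x⁻¹ ∈ S.D := by
  have hay : a * (S.ψ zF * S.ψ dF) = S.ψ zF * S.ψ dF * a := by
    obtain ⟨i, j, rfl⟩ := S.mem_D_iff.1 ha
    rw [← map_mul]
    refine S.map_comm (Commute.eq ?_)
    have hc : Commute zF dF := facts_comm.1
    exact (((Commute.refl zF).mul_right hc).pow_left i.1).mul_left
      ((hc.symm.mul_right (Commute.refl dF)).pow_left j.1)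
  have h1 : x ^ 2 ∈ S.D := S.sq_y x (mem_centralizer_singleton_iff.2 hx)
  have h2 : (x * a) ^ 2 ∈ S.D := S.sq_y (x * a) (mem_centralizer_singleton_iff.2
    (Commute.mul_left (show Commute x (S.ψ zF * S.ψ dF) from hx)
      (show Commute a (S.ψ zF * S.ψ dF) from hay)).eq)
  have e : x * a * x⁻¹ = (x * a) ^ 2 * a⁻¹ * (x ^ 2)⁻¹ := by simp only [pow_two]; group
  rw [e]
  exact mul_mem (mul_mem h2 (inv_mem ha)) (inv_mem h1)

theorem z_mem_D : S.ψ zF ∈ S.D := subset_closure (Set.mem_insert _ _)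

theorem d_mem_D : S.ψ dF ∈ S.D := subset_closure (Set.mem_insert_of_mem _ rfl)

theorem D_conj_e {a : G} (ha : a ∈ S.D) : S.ψ eF * a * (S.ψ eF)⁻¹ ∈ S.D := by
  have he : eF⁻¹ = eF := diag_conj_inv.1
  obtain ⟨i, j, rfl⟩ := S.mem_D_iff.1 ha
  rw [← map_inv, ← map_mul, ← map_mul]
  have h : eF * (zF ^ i.1 * dF ^ j.1) * eF⁻¹ = (zF ^ i.1)⁻¹ * dF ^ j.1 := by
    rw [conj_mul.symm, ← conj_pow, ← conj_pow]
    rw [he, diag_conj_inv.2.2.1, diag_conj_inv.2.2.2, inv_pow]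
  rw [h, map_mul, map_inv, map_pow, map_pow]
  exact mul_mem (inv_mem (pow_mem S.z_mem_D _)) (pow_mem S.d_mem_D _)

/-- Cases for a nontrivial element of `D` commuting with `x`. -/
theorem D_cases {x a : G} (ha : a ∈ S.D) (ha1 : a ≠ 1) (hx : x * a = a * x) :
    x * S.ψ zF = S.ψ zF * x ∨ x * S.ψ dF = S.ψ dF * x ∨
      ∀ c ∈ S.D, x * c * x⁻¹ ∈ S.D := by
  obtain ⟨i, j, rfl⟩ := S.mem_D_iff.1 ha
  have hcy : Commute x (S.ψ (zF * dF)) →
      ∀ c ∈ S.D, x * c * x⁻¹ ∈ S.D := fun h c hc =>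
    S.D_conj_of_diag hc (by rw [← map_mul]; exact h.eq)
  have hcy' : Commute x (S.ψ (eF * (zF * dF) * eF⁻¹)) →
      ∀ c ∈ S.D, x * c * x⁻¹ ∈ S.D := by
    intro h c hc
    have he : (S.ψ eF)⁻¹ = S.ψ eF := by rw [← map_inv, diag_conj_inv.1]
    have h' : (S.ψ eF * x * (S.ψ eF)⁻¹) * (S.ψ zF * S.ψ dF) =
        S.ψ zF * S.ψ dF * (S.ψ eF * x * (S.ψ eF)⁻¹) := by
      have e : S.ψ eF * S.ψ (eF * (zF * dF) * eF⁻¹) * (S.ψ eF)⁻¹ = S.ψ zF * S.ψ dF := by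
        rw [← map_inv, ← map_mul, ← map_mul, ← map_mul]
        congr 1
        have := diag_conj_inv.1
        calc eF * (eF * (zF * dF) * eF⁻¹) * eF⁻¹
            = (eF * eF) * (zF * dF) * (eF * eF)⁻¹ := by group
          _ = zF * dF := by rw [mul_eq_one_iff_eq_inv.2 this.symm]; group
      calc (S.ψ eF * x * (S.ψ eF)⁻¹) * (S.ψ zF * S.ψ dF)
          = (S.ψ eF * x * (S.ψ eF)⁻¹) *
              (S.ψ eF * S.ψ (eF * (zF * dF) * eF⁻¹) * (S.ψ eF)⁻¹) := by rw [e]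
        _ = S.ψ eF * (x * S.ψ (eF * (zF * dF) * eF⁻¹)) * (S.ψ eF)⁻¹ := by group
        _ = S.ψ eF * (S.ψ (eF * (zF * dF) * eF⁻¹) * x) * (S.ψ eF)⁻¹ := by rw [h.eq]
        _ = (S.ψ eF * S.ψ (eF * (zF * dF) * eF⁻¹) * (S.ψ eF)⁻¹) *
              (S.ψ eF * x * (S.ψ eF)⁻¹) := by group
        _ = S.ψ zF * S.ψ dF * (S.ψ eF * x * (S.ψ eF)⁻¹) := by rw [e]
    have h2 := S.D_conj_e (S.D_conj_of_diag (S.D_conj_e hc) h')
    have e2 : S.ψ eF * (S.ψ eF * x * (S.ψ eF)⁻¹ * (S.ψ eF * c * (S.ψ eF)⁻¹) *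
        (S.ψ eF * x * (S.ψ eF)⁻¹)⁻¹) * (S.ψ eF)⁻¹ =
        (S.ψ eF * S.ψ eF) * (x * c * x⁻¹) * (S.ψ eF * S.ψ eF)⁻¹ := by group
    rwa [e2, mul_eq_one_iff_eq_inv.2 he.symm, one_mul, inv_one, mul_one] at h2
  rcases zd_cases i j with h | h | h | h | h | h | h | h | h <;> rw [h] at hx ha1
  · exact absurd (map_one S.ψ) ha1
  · exact Or.inl hx
  · rw [map_inv] at hx
    exact Or.inl (Commute.inv_right_iff.1 hx).eq
  · exact Or.inr (Or.inl hx)
  · rw [map_inv] at hx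
    exact Or.inr (Or.inl (Commute.inv_right_iff.1 hx).eq)
  · exact Or.inr (Or.inr (hcy hx))
  · rw [map_inv] at hx
    exact Or.inr (Or.inr (hcy (Commute.inv_right_iff.1 hx)))
  · exact Or.inr (Or.inr (hcy' hx))
  · rw [show eF * (zF * dF)⁻¹ * eF⁻¹ = (eF * (zF * dF) * eF⁻¹)⁻¹ by group, map_inv] at hx
    exact Or.inr (Or.inr (hcy' (Commute.inv_right_iff.1 hx)))

theorem D_not_cyclic : ¬ IsCyclic S.D := by
  intro h
  obtain ⟨w, hw⟩ := IsCyclic.exists_ofOrder_eq_natCard (α := S.D)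
  obtain ⟨i, j, hij⟩ := S.mem_D_iff.1 w.2
  have h3 : w ^ 3 = 1 := Subtype.ext (by
    rw [SubmonoidClass.coe_pow, hij, ← map_pow]
    have hc : Commute zF dF := facts_comm.1
    rw [(hc.pow_pow i.1 j.1).mul_pow, ← pow_mul, ← pow_mul, mul_comm i.1, mul_comm j.1,
      pow_mul, pow_mul, facts_comm.2.2.2.2.2.2.2.1, facts_comm.2.2.2.2.2.2.2.2.1]
    simp)
  have := Nat.le_of_dvd (by norm_num) (orderOf_dvd_of_pow_eq_one h3)
  rw [hw, S.card_D] at this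
  omega

theorem D_comm : IsMulCommutative S.D := by
  refine ⟨⟨fun a b => Subtype.ext ?_⟩⟩
  obtain ⟨i, j, hij⟩ := S.mem_D_iff.1 a.2
  obtain ⟨i', j', hij'⟩ := S.mem_D_iff.1 b.2
  rw [Subgroup.coe_mul, Subgroup.coe_mul, hij, hij']
  have hc : Commute zF dF := facts_comm.1
  exact S.map_comm (((((Commute.refl zF).pow_pow i.1 i'.1).mul_right (hc.pow_pow i.1 j'.1)).mul_left
    ((hc.symm.pow_pow j.1 i'.1).mul_right ((Commute.refl dF).pow_pow j.1 j'.1))).eq)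

variable [Finite G]

theorem g_mul_g (hX : S.IsWr) : S.g * S.g = 1 := by
  have hcy : S.g ^ 2 ∈ S.D := S.sq_y _ S.g_mem_cent_y
  obtain ⟨i, j, hij⟩ := S.mem_D_iff.1 hcy
  obtain ⟨hte, htf⟩ := extra_comm
  have ht2 : tF * tF = 1 := diag_conj_inv.2.1
  have h1 : S.g * S.ψ (fF * tF) * S.g⁻¹ = S.ψ eF := by
    rw [map_mul, ← conj_mul, hX.2, S.g_t, ← map_mul, mul_assoc, ht2, mul_one]
  have h2 : S.g * S.ψ (eF * tF) * S.g⁻¹ = S.ψ fF := by
    rw [map_mul, ← conj_mul, hX.1, S.g_t, ← map_mul, mul_assoc, ht2, mul_one]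
  have hce : S.g ^ 2 * S.ψ eF = S.ψ eF * S.g ^ 2 := by
    rw [← mul_inv_eq_iff_eq_mul]
    calc S.g ^ 2 * S.ψ eF * (S.g ^ 2)⁻¹
        = S.g * (S.g * S.ψ eF * S.g⁻¹) * S.g⁻¹ := by rw [pow_two]; group
      _ = S.ψ eF := by rw [hX.1, h1]
  have hcf : S.g ^ 2 * S.ψ fF = S.ψ fF * S.g ^ 2 := by
    rw [← mul_inv_eq_iff_eq_mul]
    calc S.g ^ 2 * S.ψ fF * (S.g ^ 2)⁻¹
        = S.g * (S.g * S.ψ fF * S.g⁻¹) * S.g⁻¹ := by rw [pow_two]; group
      _ = S.ψ fF := by rw [hX.2, h2]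
  rw [hij] at hce hcf
  obtain ⟨rfl, rfl⟩ := zd_comm_ef i j (S.comm_of_map hce) (S.comm_of_map hcf)
  rw [← pow_two, hij]
  simp

theorem g_inv (hX : S.IsWr) : S.g⁻¹ = S.g := inv_eq_of_mul_eq_one_right (S.g_mul_g hX)

theorem V_le_L₁ : S.V ≤ S.L₁ := by
  rw [S.V_eq_map, L₁]
  refine map_mono ?_
  rw [VF, closure_le]
  rintro k (rfl | rfl)
  exacts [gens_mem_L₁F.2.2.1, gens_mem_L₁F.2.2.2.1]

theorem V'_le_L₂ : S.V' ≤ S.L₂ := by
  rw [S.V'_eq_map, L₂]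
  refine map_mono ?_
  rw [VF, closure_le]
  rintro k (rfl | rfl)
  exacts [gens_mem_L₁F.2.2.1, gens_mem_L₁F.2.2.2.1]

theorem g_conj_L₁ {x : G} (hx : x ∈ S.L₁) : S.g * x * S.g⁻¹ ∈ S.L₂ := by
  obtain ⟨k, hk, rfl⟩ := hx
  exact ⟨k, hk, rfl⟩

theorem g_conj_L₂ (hX : S.IsWr) {x : G} (hx : x ∈ S.L₂) : S.g * x * S.g⁻¹ ∈ S.L₁ := by
  obtain ⟨k, hk, rfl⟩ := hx
  refine ⟨k, hk, ?_⟩
  rw [φ_apply]
  calc S.ψ k = (S.g * S.g) * S.ψ k * (S.g * S.g)⁻¹ := by rw [S.g_mul_g hX]; group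
    _ = S.g * (S.g * S.ψ k * S.g⁻¹) * S.g⁻¹ := by group

theorem g_conj_V {x : G} (hx : x ∈ S.V) : S.g * x * S.g⁻¹ ∈ S.V' := by
  rw [S.V_eq_map] at hx
  rw [S.V'_eq_map]
  obtain ⟨k, hk, rfl⟩ := hx
  exact ⟨k, hk, rfl⟩

theorem g_conj_V' (hX : S.IsWr) {x : G} (hx : x ∈ S.V') : S.g * x * S.g⁻¹ ∈ S.V := by
  rw [S.V'_eq_map] at hx
  rw [S.V_eq_map]
  obtain ⟨k, hk, rfl⟩ := hx
  refine ⟨k, hk, ?_⟩
  rw [φ_apply]
  calc S.ψ k = (S.g * S.g) * S.ψ k * (S.g * S.g)⁻¹ := by rw [S.g_mul_g hX]; group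
    _ = S.g * (S.g * S.ψ k * S.g⁻¹) * S.g⁻¹ := by group

theorem e_mem_L₂ (hX : S.IsWr) : S.ψ eF ∈ S.L₂ := by
  refine ⟨fF * tF, gens_mem_L₁F.2.2.2.2, ?_⟩
  rw [φ_apply, map_mul, ← conj_mul, hX.2, S.g_t, ← map_mul, mul_assoc, diag_conj_inv.2.1,
    mul_one]

theorem z_mem_L₂ : S.ψ zF ∈ S.L₂ := ⟨dF, gens_mem_L₁F.1, S.φ_dF⟩

theorem dF_mem_L₁ : S.ψ dF ∈ S.L₁ := mem_map_of_mem _ gens_mem_L₁F.1

/-- An element commuting with `d` is in `L₂ · ⟨d⟩ · ⟨t⟩`. -/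
theorem cent_d_split {x : G} (hx : x * S.ψ dF = S.ψ dF * x) :
    ∃ i : Fin 3, ∃ j : Fin 2, x * (S.ψ (dF ^ i.1 * tF ^ j.1))⁻¹ ∈ S.L₂ := by
  obtain ⟨k, rfl, hk⟩ := S.φ_comm_of_d hx
  obtain ⟨i, j, h1, h2⟩ := cent_z_split k hk
  refine ⟨i, j, ?_⟩
  have e : S.ψ (dF ^ i.1 * tF ^ j.1) = S.φ (zF ^ i.1 * tF ^ j.1) := by
    simp only [map_mul, map_pow, S.φ_zF, S.φ_tF]
  rw [e, ← map_inv, ← map_mul]
  exact mem_map_of_mem _ (mem_L₁F_iff.2 ⟨h1, h2⟩)

theorem centralizer_L₁ (hX : S.IsWr) (hcomm : ∀ x ∈ S.L₁, ∀ y ∈ S.L₂, Commute x y) :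
    centralizer (S.L₁ : Set G) = S.L₂ := by
  refine le_antisymm (fun x hx => ?_) (fun y hy => mem_centralizer_iff.2 fun a ha =>
    (hcomm a ha y hy).eq)
  obtain ⟨i, j, hm⟩ := S.cent_d_split ((mem_centralizer_iff.1 hx _ S.dF_mem_L₁).symm)
  set w := S.ψ (dF ^ i.1 * tF ^ j.1) with hw
  have hxF : S.ψ xF ∈ S.L₁ := mem_map_of_mem _ gens_mem_L₁F.2.1
  have h1 : Commute x (S.ψ xF) := ((mem_centralizer_iff.1 hx _ hxF).symm : _)
  have h2 : Commute (x * w⁻¹) (S.ψ xF) := (hcomm _ hxF _ hm).symm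
  have h3 : Commute w (S.ψ xF) := by
    have := h2.inv_left.mul_left h1
    rwa [show (x * w⁻¹)⁻¹ * x = w by group] at this
  obtain ⟨rfl, rfl⟩ := dt_comm_x i j (S.comm_of_map h3.eq)
  simpa [hw] using hm

theorem L₁_inf_L₂ (hX : S.IsWr) (hcomm : ∀ x ∈ S.L₁, ∀ y ∈ S.L₂, Commute x y) :
    S.L₁ ⊓ S.L₂ = ⊥ := by
  rw [eq_bot_iff]
  rintro x ⟨hx1, hx2⟩
  have hd := hcomm _ S.dF_mem_L₁ x hx2
  have hx' := hcomm (S.ψ xF) (mem_map_of_mem _ gens_mem_L₁F.2.1) x hx2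
  obtain ⟨k, hk, rfl⟩ := hx1
  rw [mem_bot, L₁F_center k (mem_L₁F_iff.1 hk).1 (S.comm_of_map hd.eq.symm)
    (S.comm_of_map hx'.eq.symm), map_one]

theorem centralizer_L₂ (hX : S.IsWr) (hcomm : ∀ x ∈ S.L₁, ∀ y ∈ S.L₂, Commute x y) :
    centralizer (S.L₂ : Set G) = S.L₁ := by
  refine le_antisymm (fun x hx => ?_) (fun y hy => mem_centralizer_iff.2 fun a ha =>
    (hcomm y hy a ha).eq.symm)
  have h : S.g * x * S.g⁻¹ ∈ centralizer (S.L₁ : Set G) := by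
    refine mem_centralizer_iff.2 fun a ha => ?_
    have := mem_centralizer_iff.1 hx _ (S.g_conj_L₁ ha)
    rw [S.g_inv hX] at this ⊢
    calc a * (S.g * x * S.g)
        = S.g * ((S.g * a * S.g) * x) * S.g := by
          rw [show S.g * ((S.g * a * S.g) * x) * S.g =
            (S.g * S.g) * a * (S.g * x * S.g) by group, S.g_mul_g hX, one_mul]
      _ = S.g * (x * (S.g * a * S.g)) * S.g := by rw [this]
      _ = (S.g * x * S.g) * a * (S.g * S.g) := by group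
      _ = (S.g * x * S.g) * a := by rw [S.g_mul_g hX, mul_one]
  rw [S.centralizer_L₁ hX hcomm] at h
  have h2 := S.g_conj_L₂ hX h
  rw [show S.g * (S.g * x * S.g⁻¹) * S.g⁻¹ = (S.g * S.g) * x * (S.g * S.g)⁻¹ by group,
    S.g_mul_g hX] at h2
  simpa using h2

theorem V_comm {v w : G} (hv : v ∈ S.V) (hw : w ∈ S.V) : v * w = w * v := by
  rw [S.V_eq_map] at hv hw
  obtain ⟨k, hk, rfl⟩ := hv
  obtain ⟨l, hl, rfl⟩ := hw
  exact S.map_comm (vList_mul k (mem_VF_iff.1 hk) l (mem_VF_iff.1 hl)).2.1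

theorem V_mul_self {v : G} (hv : v ∈ S.V) : v * v = 1 := by
  rw [S.V_eq_map] at hv
  obtain ⟨k, hk, rfl⟩ := hv
  rw [← map_mul, sq_of_vList (mem_VF_iff.1 hk), map_one]

theorem V_le_centralizer : S.V ≤ centralizer (S.V : Set G) := fun v hv =>
  mem_centralizer_iff.2 fun w hw => S.V_comm hw hv

theorem L₂_le_centralizer_V (hcomm : ∀ x ∈ S.L₁, ∀ y ∈ S.L₂, Commute x y) :
    S.L₂ ≤ centralizer (S.V : Set G) := fun y hy =>
  mem_centralizer_iff.2 fun w hw => (hcomm w (S.V_le_L₁ hw) y hy).eq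

theorem d_normalizes_centV {x : G} (hx : x ∈ centralizer (S.V : Set G)) :
    S.ψ dF * x * (S.ψ dF)⁻¹ ∈ centralizer (S.V : Set G) := by
  refine mem_centralizer_iff.2 fun v hv => ?_
  have hv' : (S.ψ dF)⁻¹ * v * S.ψ dF ∈ S.V := by
    rw [SetLike.mem_coe, S.V_eq_map] at hv
    rw [S.V_eq_map]
    obtain ⟨k, hk, rfl⟩ := hv
    rw [← map_inv, ← map_mul, ← map_mul]
    exact mem_map_of_mem _ (mem_VF_iff.2 (d_normalizes_V k (mem_VF_iff.1 hk)).2)
  calc v * (S.ψ dF * x * (S.ψ dF)⁻¹)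
      = S.ψ dF * (((S.ψ dF)⁻¹ * v * S.ψ dF) * x) * (S.ψ dF)⁻¹ := by group
    _ = S.ψ dF * (x * ((S.ψ dF)⁻¹ * v * S.ψ dF)) * (S.ψ dF)⁻¹ := by
        rw [mem_centralizer_iff.1 hx _ hv']
    _ = S.ψ dF * x * (S.ψ dF)⁻¹ * v := by group

/-- A normal subgroup of exponent four of `C(V)` normalized by `D` and meeting `L₂` trivially
lies in `V`. -/
theorem le_V_of_exponent_four (hcomm : ∀ x ∈ S.L₁, ∀ y ∈ S.L₂, Commute x y) {M : Subgroup G}
    (hMC : M ≤ centralizer (S.V : Set G)) (h4 : ∀ x ∈ M, x ^ 4 = 1)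
    (hn : ∀ c ∈ centralizer (S.V : Set G), ∀ x ∈ M, c * x * c⁻¹ ∈ M)
    (hd : ∀ x ∈ M, S.ψ dF * x * (S.ψ dF)⁻¹ ∈ M) (hL : M ⊓ S.L₂ = ⊥) : M ≤ S.V := by
  haveI := S.D_comm
  have hzC : S.ψ zF ∈ centralizer (S.V : Set G) := S.L₂_le_centralizer_V hcomm S.z_mem_L₂
  have hDN : S.D ≤ normalizer (M : Set G) := by
    rw [D, closure_le]
    rintro a (rfl | rfl)
    · exact mem_normalizer_fintype fun x hx => hn _ hzC x hx
    · exact mem_normalizer_fintype fun x hx => hd x hx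
  have hcop : (Nat.card S.D).Coprime (Nat.card M) := by
    rw [S.card_D, show (9 : ℕ) = 3 ^ 2 from rfl]
    refine Nat.Coprime.pow_left _ ((Nat.Prime.coprime_iff_not_dvd Nat.prime_three).2 fun h => ?_)
    haveI : Fact (Nat.Prime 3) := ⟨Nat.prime_three⟩
    obtain ⟨w, hw⟩ := exists_prime_orderOf_dvd_card' 3 h
    have h44 : (w : M) ^ 4 = 1 := Subtype.ext (h4 _ w.2)
    have := orderOf_dvd_of_pow_eq_one h44
    rw [hw] at this
    norm_num at this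
  have key : ∀ x ∈ M, x * S.ψ zF = S.ψ zF * x → x ∈ S.V := fun x hx hz =>
    S.centV_cent_z_four (hMC hx) hz (h4 x hx)
  refine CfsgLib.Coprime.le_of_centralizer_le_of_not_isCyclic S.D_not_cyclic hDN hcop ?_
  rintro a ha ha1 x ⟨hxM, hxa⟩
  rcases S.D_cases ha ha1 (mem_centralizer_singleton_iff.1 hxa) with h | h | h
  · exact key x hxM h
  · refine key x hxM ?_
    obtain ⟨i, j, hm⟩ := S.cent_d_split h
    -- conjugation by `x` preserves `L₂`
    obtain ⟨k, rfl, -⟩ := S.φ_comm_of_d h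
    have hmem : S.φ k * S.ψ zF * (S.φ k)⁻¹ * (S.ψ zF)⁻¹ ∈ M ⊓ S.L₂ := by
      refine ⟨?_, ?_⟩
      · rw [show S.φ k * S.ψ zF * (S.φ k)⁻¹ * (S.ψ zF)⁻¹ =
          S.φ k * (S.ψ zF * (S.φ k)⁻¹ * (S.ψ zF)⁻¹) by group]
        exact mul_mem hxM (hn _ hzC _ (inv_mem hxM))
      · refine S.L₂.mul_mem ?_ (S.L₂.inv_mem S.z_mem_L₂)
        rw [← S.φ_dF, ← map_inv, ← map_mul, ← map_mul]
        exact mem_map_of_mem _ (L₁F_normal k dF gens_mem_L₁F.1)
    rw [hL, mem_bot, mul_inv_eq_one, mul_inv_eq_iff_eq_mul] at hmem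
    exact hmem
  · refine key x hxM ?_
    have h1 : S.ψ zF * x * (S.ψ zF)⁻¹ * x⁻¹ ∈ M := mul_mem (hn _ hzC x hxM) (inv_mem hxM)
    have h2 : S.ψ zF * x * (S.ψ zF)⁻¹ * x⁻¹ ∈ S.D := by
      rw [show S.ψ zF * x * (S.ψ zF)⁻¹ * x⁻¹ = S.ψ zF * (x * (S.ψ zF)⁻¹ * x⁻¹) by group]
      exact mul_mem S.z_mem_D (h _ (inv_mem S.z_mem_D))
    have h3 := disjoint_iff.1 (Subgroup.disjoint_of_coprime_natCard hcop)
    have h4' : S.ψ zF * x * (S.ψ zF)⁻¹ * x⁻¹ ∈ S.D ⊓ M := ⟨h2, h1⟩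
    rw [h3, mem_bot, mul_inv_eq_one, mul_inv_eq_iff_eq_mul] at h4'
    exact h4'.symm

theorem centralizer_V (hX : S.IsWr) (hcomm : ∀ x ∈ S.L₁, ∀ y ∈ S.L₂, Commute x y) :
    centralizer (S.V : Set G) = S.V ⊔ S.L₂ := by
  classical
  refine le_antisymm ?_ (sup_le S.V_le_centralizer (S.L₂_le_centralizer_V hcomm))
  set C := centralizer (S.V : Set G) with hC
  haveI hVn : (S.V.subgroupOf C).Normal := ⟨fun v hv c => by
    rw [mem_subgroupOf] at hv ⊢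
    have := mem_centralizer_iff.1 c.2 _ hv
    rw [Subgroup.coe_mul, Subgroup.coe_mul, Subgroup.coe_inv, ← this, mul_inv_cancel_right]
    exact hv⟩
  set zc : C := ⟨S.ψ zF, S.L₂_le_centralizer_V hcomm S.z_mem_L₂⟩ with hzc
  set zb : C ⧸ S.V.subgroupOf C := QuotientGroup.mk zc with hzb
  have hz3 : zc ^ 3 = 1 := Subtype.ext (by
    show S.ψ zF ^ 3 = 1
    rw [← map_pow, facts_comm.2.2.2.2.2.2.2.1, map_one])
  have hzV : zc ∉ S.V.subgroupOf C := fun h => by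
    rw [mem_subgroupOf] at h
    have h2 : S.ψ zF * S.ψ zF = 1 := S.V_mul_self h
    have h3 : S.ψ zF ^ 3 = 1 := congrArg Subtype.val hz3
    rw [pow_succ, pow_two, h2, one_mul, ← map_one S.ψ] at h3
    exact facts_comm.2.2.2.2.2.2.2.2.2.1 (S.inj h3)
  have hzb1 : zb ≠ 1 := fun h => hzV ((QuotientGroup.eq_one_iff _).1 h)
  haveI : Fact (Nat.Prime 3) := ⟨Nat.prime_three⟩
  have hXc : Nat.card (zpowers zb) = 3 := by
    rw [Nat.card_zpowers]
    exact orderOf_eq_prime (by rw [hzb, ← QuotientGroup.mk_pow, hz3, QuotientGroup.mk_one]) hzb1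
  have hXC : centralizer (zpowers zb : Set (C ⧸ S.V.subgroupOf C)) = zpowers zb := by
    refine le_antisymm (fun w hw => ?_) (fun w hw => mem_centralizer_iff.2 fun u hu => ?_)
    · obtain ⟨y, rfl⟩ := QuotientGroup.mk_surjective w
      have h := mem_centralizer_iff.1 hw zb (mem_zpowers zb)
      have hv : y * zc * y⁻¹ * zc⁻¹ ∈ S.V.subgroupOf C := by
        rw [← QuotientGroup.eq_one_iff]
        simp only [QuotientGroup.mk_mul, QuotientGroup.mk_inv]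
        rw [← hzb, ← h]
        group
      rw [mem_subgroupOf] at hv
      set v : G := ((y * zc * y⁻¹ * zc⁻¹ : C) : G) with hv'
      have e : (y : G) * S.ψ zF * (y : G)⁻¹ = v * S.ψ zF := by
        rw [hv', hzc]; simp
      have h3 : ((y : G) * S.ψ zF * (y : G)⁻¹) ^ 3 = 1 := by
        rw [conj_pow, show S.ψ zF ^ 3 = 1 from congrArg Subtype.val hz3]; simp
      have hcv : Commute v (S.ψ zF) := mem_centralizer_iff.1 zc.2 v hv
      rw [e, hcv.mul_pow, show S.ψ zF ^ 3 = 1 from congrArg Subtype.val hz3, mul_one, pow_succ,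
        pow_two, S.V_mul_self hv, one_mul] at h3
      rw [h3, one_mul, mul_inv_eq_iff_eq_mul] at e
      obtain ⟨i, hi⟩ := S.centV_cent_z y.2 e
      refine mem_zpowers_iff.2 ⟨(i.1 : ℤ), ?_⟩
      rw [zpow_natCast, hzb, ← QuotientGroup.mk_pow, QuotientGroup.eq, mem_subgroupOf]
      exact hi
    · obtain ⟨m, rfl⟩ := mem_zpowers_iff.1 hu
      obtain ⟨n, rfl⟩ := mem_zpowers_iff.1 hw
      exact ((Commute.refl zb).zpow_zpow m n).eq
  set ι : alternatingGroup (Fin 5) →* C ⧸ S.V.subgroupOf C :=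
    (QuotientGroup.mk' _).comp (S.ι₂.codRestrict C fun a =>
      S.L₂_le_centralizer_V hcomm (S.range_ι₂ ▸ ⟨a, rfl⟩)) with hι
  have hzι : ∃ a, ι a = zb := by
    obtain ⟨a, ha⟩ : S.ψ zF ∈ S.ι₂.range := S.range_ι₂.symm ▸ S.z_mem_L₂
    exact ⟨a, congrArg QuotientGroup.mk (Subtype.ext ha : _ = zc)⟩
  have hιinj : Function.Injective ι := by
    rw [← MonoidHom.ker_eq_bot_iff]
    rcases Subgroup.Normal.eq_bot_or_eq_top (inferInstance : ι.ker.Normal) with h | h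
    · exact h
    · obtain ⟨a, ha⟩ := hzι
      exact absurd (ha.symm.trans (MonoidHom.mem_ker.1 (h ▸ mem_top a))) hzb1
  rcases Cfsg.Agent.S3331.result _ hXc hXC with ⟨N, hN, -, hco, hq⟩ | ⟨N, hN, -, hsq, ⟨eq⟩⟩ | h7
  · have hzN : zb ∉ N := fun h => by
      have h3 : 3 ∣ Nat.card N := hXc ▸ card_dvd_of_le (zpowers_le.2 h)
      exact absurd (Nat.Coprime.eq_one_of_dvd hco.symm h3) (by norm_num)
    have hinj : Function.Injective ((QuotientGroup.mk' N).comp ι) := by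
      rw [← MonoidHom.ker_eq_bot_iff]
      rcases Subgroup.Normal.eq_bot_or_eq_top
          (inferInstance : ((QuotientGroup.mk' N).comp ι).ker.Normal) with h | h
      · exact h
      · obtain ⟨a, ha⟩ := hzι
        have := MonoidHom.mem_ker.1 (h ▸ mem_top a)
        rw [MonoidHom.comp_apply, ha] at this
        exact absurd ((QuotientGroup.eq_one_iff _).1 this) hzN
    have hle := Nat.card_le_card_of_injective _ hinj
    rw [card_A5] at hle
    rcases hq with hq | ⟨⟨eq⟩⟩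
    · omega
    · rw [Nat.card_congr eq.toEquiv, Nat.card_perm, Nat.card_eq_fintype_card,
        Fintype.card_fin] at hle
      norm_num [Nat.factorial] at hle
  · set f : C →* alternatingGroup (Fin 5) :=
      eq.toMonoidHom.comp ((QuotientGroup.mk' N).comp (QuotientGroup.mk' _)) with hf
    have hfs : Function.Surjective f := eq.surjective.comp
      ((QuotientGroup.mk'_surjective N).comp (QuotientGroup.mk'_surjective _))
    have hker4 : ∀ x : C, x ∈ f.ker → x ^ 4 = 1 := by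
      intro x hx
      have h1 : (QuotientGroup.mk x : C ⧸ S.V.subgroupOf C) ∈ N := by
        rw [← QuotientGroup.eq_one_iff]
        exact eq.injective (by rw [map_one]; exact MonoidHom.mem_ker.1 hx)
      have h2 : x ^ 2 ∈ S.V.subgroupOf C := by
        rw [← QuotientGroup.eq_one_iff, QuotientGroup.mk_pow]
        exact hsq _ h1
      rw [mem_subgroupOf] at h2
      refine Subtype.ext ?_
      rw [SubmonoidClass.coe_pow, show (4 : ℕ) = 2 * 2 from rfl, pow_mul, pow_two]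
      exact S.V_mul_self (by simpa using h2)
    set M := f.ker.map C.subtype with hM
    have hMC : M ≤ C := map_subtype_le _
    have hM4 : ∀ x ∈ M, x ^ 4 = 1 := by
      rintro _ ⟨x, hx, rfl⟩
      rw [← map_pow, hker4 x hx, map_one]
    have hMn : ∀ c ∈ C, ∀ x ∈ M, c * x * c⁻¹ ∈ M := by
      rintro c hc _ ⟨x, hx, rfl⟩
      exact ⟨⟨c, hc⟩ * x * ⟨c, hc⟩⁻¹, (MonoidHom.normal_ker f).conj_mem x hx _, by simp⟩
    have hL : M ⊓ S.L₂ = ⊥ := by
      rw [eq_bot_iff]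
      rintro _ ⟨⟨x, hx, rfl⟩, hx2⟩
      obtain ⟨a, ha⟩ : (x : G) ∈ S.ι₂.range := S.range_ι₂.symm ▸ hx2
      have hxa : ι a = QuotientGroup.mk x := congrArg QuotientGroup.mk (Subtype.ext ha : _ = x)
      have hker : ∀ b, b ∈ ((eq.toMonoidHom.comp (QuotientGroup.mk' N)).comp ι).ker → b = 1 := by
        rcases Subgroup.Normal.eq_bot_or_eq_top (inferInstance :
            ((eq.toMonoidHom.comp (QuotientGroup.mk' N)).comp ι).ker.Normal) with h | h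
        · intro b hb; rw [h] at hb; exact mem_bot.1 hb
        · obtain ⟨b, hb⟩ := hzι
          have := MonoidHom.mem_ker.1 (h ▸ mem_top b)
          rw [MonoidHom.comp_apply, hb, hzb] at this
          have h4 := hker4 zc (MonoidHom.mem_ker.2 this)
          rw [pow_succ, hz3, one_mul] at h4
          exact absurd (h4 ▸ one_mem _) hzV
      have ha1 : a = 1 := hker a (MonoidHom.mem_ker.2 (by
        rw [MonoidHom.comp_apply, hxa]; exact MonoidHom.mem_ker.1 hx))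
      rw [mem_bot, Subgroup.coe_subtype, ← ha, ha1, map_one]
    have hdM : ∀ x ∈ M, S.ψ dF * x * (S.ψ dF)⁻¹ ∈ M := by
      set dd := MulAut.conj (S.ψ dF) with hdd
      set P := (M.map dd.toMonoidHom).subgroupOf C with hP
      have hPn : P.Normal := ⟨by
        intro p hp c
        rw [hP, mem_subgroupOf] at hp ⊢
        obtain ⟨m, hm, hmp⟩ := hp
        have hc' : (S.ψ dF)⁻¹ * (c : G) * S.ψ dF ∈ C := by
          refine mem_centralizer_iff.2 fun v hv => ?_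
          have hv' : S.ψ dF * v * (S.ψ dF)⁻¹ ∈ S.V := by
            rw [SetLike.mem_coe, S.V_eq_map] at hv
            rw [S.V_eq_map]
            obtain ⟨k, hk, rfl⟩ := hv
            rw [← map_inv, ← map_mul, ← map_mul]
            exact mem_map_of_mem _ (mem_VF_iff.2 (d_normalizes_V k (mem_VF_iff.1 hk)).1)
          calc v * ((S.ψ dF)⁻¹ * (c : G) * S.ψ dF)
              = (S.ψ dF)⁻¹ * ((S.ψ dF * v * (S.ψ dF)⁻¹) * c) * S.ψ dF := by group
            _ = (S.ψ dF)⁻¹ * ((c : G) * (S.ψ dF * v * (S.ψ dF)⁻¹)) * S.ψ dF := by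
                rw [mem_centralizer_iff.1 c.2 _ hv']
            _ = (S.ψ dF)⁻¹ * (c : G) * S.ψ dF * v := by group
        refine ⟨_, hMn _ hc' m hm, ?_⟩
        simp only [Subgroup.coe_mul, Subgroup.coe_inv, ← hmp, hdd, MulEquiv.coe_toMonoidHom,
          MulAut.conj_apply]
        group⟩
      have hPk : P.map f = ⊥ := by
        rcases Subgroup.Normal.eq_bot_or_eq_top (hPn.map f hfs) with h | h
        · exact h
        · obtain ⟨b, hb⟩ := hzι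
          have hzP : f zc ∈ P.map f := h ▸ mem_top _
          obtain ⟨p, hp, hpz⟩ := hzP
          obtain ⟨m, hm, hmp⟩ := mem_subgroupOf.1 hp
          have hp4 : p ^ 4 = 1 := Subtype.ext (by
            rw [SubmonoidClass.coe_pow, ← hmp, ← map_pow, hM4 m hm, map_one]; rfl)
          have h4 : f zc ^ 4 = 1 := by rw [← hpz, ← map_pow, hp4, map_one]
          rw [pow_succ, ← map_pow, hz3, map_one, one_mul] at h4
          have := hker4 zc (MonoidHom.mem_ker.2 h4)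
          rw [pow_succ, hz3, one_mul] at this
          exact absurd (this ▸ one_mem _) hzV
      intro x hx
      have hp : (⟨_, S.d_normalizes_centV (hMC hx)⟩ : C) ∈ P := by
        rw [hP, mem_subgroupOf]
        exact ⟨x, hx, rfl⟩
      refine ⟨⟨_, S.d_normalizes_centV (hMC hx)⟩, MonoidHom.mem_ker.2 ?_, rfl⟩
      exact mem_bot.1 (hPk ▸ mem_map_of_mem f hp)
    have hMV : M ≤ S.V := S.le_V_of_exponent_four hcomm hMC hM4 hMn hdM hL
    have hsurj : Function.Surjective ((eq.toMonoidHom.comp (QuotientGroup.mk' N)).comp ι) := by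
      refine Finite.surjective_of_injective ?_
      rw [← MonoidHom.ker_eq_bot_iff]
      rcases Subgroup.Normal.eq_bot_or_eq_top (inferInstance :
          ((eq.toMonoidHom.comp (QuotientGroup.mk' N)).comp ι).ker.Normal) with h | h
      · exact h
      · obtain ⟨b, hb⟩ := hzι
        have := MonoidHom.mem_ker.1 (h ▸ mem_top b)
        rw [MonoidHom.comp_apply, hb, hzb] at this
        have h4 := hker4 zc (MonoidHom.mem_ker.2 this)
        rw [pow_succ, hz3, one_mul] at h4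
        exact absurd (h4 ▸ one_mem _) hzV
    intro y hy
    obtain ⟨a, ha⟩ := hsurj (f ⟨y, hy⟩)
    have hyM : y * (S.ι₂ a)⁻¹ ∈ M := by
      refine ⟨⟨y, hy⟩ * (⟨S.ι₂ a, S.L₂_le_centralizer_V hcomm (S.range_ι₂ ▸ ⟨a, rfl⟩)⟩ : C)⁻¹,
        MonoidHom.mem_ker.2 ?_, rfl⟩
      rw [map_mul, map_inv, ← ha, mul_inv_eq_one]
      rfl
    have := mul_mem_sup (hMV hyM) (S.range_ι₂ ▸ ⟨a, rfl⟩ : S.ι₂ a ∈ S.L₂)
    rwa [inv_mul_cancel_right] at this
  · obtain ⟨e7⟩ := h7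
    have h := Subgroup.card_dvd_of_injective ι hιinj
    rw [card_A5, Nat.card_congr e7.toEquiv] at h
    haveI : Fact (Nat.Prime 7) := ⟨by norm_num⟩
    rw [CfsgLib.Classical.card_PSL_two, Nat.card_eq_fintype_card, ZMod.card] at h
    norm_num at h

theorem mem_sup_comm {A B : Subgroup G} (h : ∀ a ∈ A, ∀ b ∈ B, Commute a b) {x : G} :
    x ∈ A ⊔ B ↔ ∃ a ∈ A, ∃ b ∈ B, x = a * b := by
  refine ⟨fun hx => ?_, fun ⟨a, ha, b, hb, e⟩ => e ▸ mul_mem_sup ha hb⟩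
  set f := MonoidHom.noncommCoprod A.subtype B.subtype fun a b => h _ a.2 _ b.2 with hf
  have hr : A ⊔ B ≤ f.range := sup_le
    (fun a ha => ⟨(⟨a, ha⟩, 1), mul_one a⟩) (fun b hb => ⟨(1, ⟨b, hb⟩), one_mul b⟩)
  obtain ⟨⟨a, b⟩, hab⟩ := hr hx
  exact ⟨a, a.2, b, b.2, hab.symm⟩

theorem card_sup_comm {A B : Subgroup G} (h : ∀ a ∈ A, ∀ b ∈ B, Commute a b)
    (hd : A ⊓ B = ⊥) : Nat.card (A ⊔ B : Subgroup G) = Nat.card A * Nat.card B := by
  rw [← Nat.card_prod]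
  refine (Nat.card_congr (Equiv.ofBijective
    (fun p : A × B => (⟨p.1 * p.2, mul_mem_sup p.1.2 p.2.2⟩ : (A ⊔ B : Subgroup G))) ⟨?_, ?_⟩)).symm
  · intro p q e
    have e' : (p.1 : G) * p.2 = q.1 * q.2 := congrArg Subtype.val e
    have h1 : (q.1 : G)⁻¹ * p.1 = q.2 * (p.2 : G)⁻¹ := by
      rw [eq_mul_inv_iff_mul_eq, mul_assoc, inv_mul_eq_iff_eq_mul, e']
    have h2 : (q.1 : G)⁻¹ * p.1 ∈ A ⊓ B :=
      ⟨A.mul_mem (A.inv_mem q.1.2) p.1.2, h1 ▸ B.mul_mem q.2.2 (B.inv_mem p.2.2)⟩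
    rw [hd, mem_bot, inv_mul_eq_one] at h2
    refine Prod.ext (Subtype.ext h2.symm) (Subtype.ext ?_)
    rw [h2] at e'
    exact mul_left_cancel e'
  · rintro ⟨x, hx⟩
    obtain ⟨a, ha, b, hb, rfl⟩ := (mem_sup_comm h).1 hx
    exact ⟨(⟨a, ha⟩, ⟨b, hb⟩), rfl⟩

theorem card_four : Nat.card S.V = 4 := by
  rw [S.V_eq_map, card_map_of_injective S.inj, card_VF]

theorem card_V' : Nat.card S.V' = 4 := by
  rw [S.V'_eq_map, card_map_of_injective S.φ_inj, card_VF]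

theorem card_L₁ : Nat.card S.L₁ = 60 := by
  rw [← S.range_ι₁, ← Nat.card_congr (MonoidHom.ofInjective S.ι₁_inj).toEquiv, card_A5]

theorem card_L₂ : Nat.card S.L₂ = 60 := by
  rw [← S.range_ι₂, ← Nat.card_congr (MonoidHom.ofInjective S.ι₂_inj).toEquiv, card_A5]

theorem card_centralizer_V (hX : S.IsWr) (hcomm : ∀ x ∈ S.L₁, ∀ y ∈ S.L₂, Commute x y) :
    Nat.card (centralizer (S.V : Set G)) = 240 := by
  rw [S.centralizer_V hX hcomm, card_sup_comm (fun a ha b hb => hcomm a (S.V_le_L₁ ha) b hb)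
    (le_bot_iff.1 ((inf_le_inf_right _ S.V_le_L₁).trans (S.L₁_inf_L₂ hX hcomm).le)),
    S.card_four, S.card_L₂]

theorem V_V'_comm (hcomm : ∀ x ∈ S.L₁, ∀ y ∈ S.L₂, Commute x y) :
    ∀ a ∈ S.V, ∀ b ∈ S.V', Commute a b :=
  fun a ha b hb => hcomm a (S.V_le_L₁ ha) b (S.V'_le_L₂ hb)

theorem mem_W_iff (hcomm : ∀ x ∈ S.L₁, ∀ y ∈ S.L₂, Commute x y) {x : G} :
    x ∈ S.W ↔ ∃ v ∈ S.V, ∃ w ∈ S.V', x = v * w :=
  mem_sup_comm (S.V_V'_comm hcomm)

theorem card_W (hX : S.IsWr) (hcomm : ∀ x ∈ S.L₁, ∀ y ∈ S.L₂, Commute x y) :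
    Nat.card S.W = 16 := by
  rw [W, card_sup_comm (S.V_V'_comm hcomm)
    (le_bot_iff.1 ((inf_le_inf S.V_le_L₁ S.V'_le_L₂).trans (S.L₁_inf_L₂ hX hcomm).le)),
    S.card_four, S.card_V']

theorem sq_W (hX : S.IsWr) (hcomm : ∀ x ∈ S.L₁, ∀ y ∈ S.L₂, Commute x y) :
    ∀ x ∈ S.W, x * x = 1 := by
  intro x hx
  obtain ⟨v, hv, w, hw, rfl⟩ := (S.mem_W_iff hcomm).1 hx
  have hw2 : w * w = 1 := by
    rw [S.V'_eq_map] at hw
    obtain ⟨k, hk, rfl⟩ := hw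
    rw [← map_mul, sq_of_vList (mem_VF_iff.1 hk), map_one]
  rw [(S.V_V'_comm hcomm v hv w hw).symm.mul_mul_mul_comm, S.V_mul_self hv, hw2, one_mul]

theorem centralizer_W (hX : S.IsWr) (hcomm : ∀ x ∈ S.L₁, ∀ y ∈ S.L₂, Commute x y) :
    centralizer (S.W : Set G) = S.W := by
  refine le_antisymm (fun x hx => ?_) (fun x hx => mem_centralizer_iff.2 fun y hy => ?_)
  · have hxV : x ∈ centralizer (S.V : Set G) :=
      centralizer_le (SetLike.coe_subset_coe.2 le_sup_left) hx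
    rw [S.centralizer_V hX hcomm, mem_sup_comm fun a ha b hb => hcomm a (S.V_le_L₁ ha) b hb]
      at hxV
    obtain ⟨v, hv, l, hl, rfl⟩ := hxV
    obtain ⟨m, hm, rfl⟩ := hl
    have hc : ∀ k ∈ VF, m * k = k * m := by
      intro k hk
      have hw : S.φ k ∈ S.V' := S.V'_eq_map ▸ mem_map_of_mem _ hk
      have h1 : Commute (v * S.φ m) (S.φ k) :=
        (mem_centralizer_iff.1 hx _ (le_sup_right (a := S.V) hw)).symm
      have h2 : Commute v (S.φ k) := S.V_V'_comm hcomm v hv _ hw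
      have := h2.inv_left.mul_left h1
      rw [inv_mul_cancel_left] at this
      exact S.φ_comm_of_map this.eq
    refine mul_mem_sup hv (S.V'_eq_map ▸ mem_map_of_mem _ (mem_VF_iff.2 ?_))
    exact L₁F_cent_V m (mem_L₁F_iff.1 hm).1 (mem_L₁F_iff.1 hm).2
      (hc aF (subset_closure (Or.inl rfl))) (hc bF (subset_closure (Or.inr rfl)))
  · have h1 := S.sq_W hX hcomm x hx
    have h2 := S.sq_W hX hcomm y hy
    have h3 := S.sq_W hX hcomm _ (mul_mem hy hx)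
    rw [← mul_eq_one_iff_eq_inv.1 h3 |>.symm.trans rfl]
    rw [mul_inv_rev, ← mul_eq_one_iff_eq_inv.1 h1, ← mul_eq_one_iff_eq_inv.1 h2]

theorem mem_N_iff (hX : S.IsWr) (hcomm : ∀ x ∈ S.L₁, ∀ y ∈ S.L₂, Commute x y) {x : G} :
    x ∈ S.N ↔ ∃ a ∈ S.L₁, ∃ b ∈ S.L₂, x = a * b :=
  mem_sup_comm hcomm

theorem card_N (hX : S.IsWr) (hcomm : ∀ x ∈ S.L₁, ∀ y ∈ S.L₂, Commute x y) :
    Nat.card S.N = 3600 := by
  rw [N, card_sup_comm hcomm (S.L₁_inf_L₂ hX hcomm), S.card_L₁, S.card_L₂]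

theorem N_iso (hX : S.IsWr) (hcomm : ∀ x ∈ S.L₁, ∀ y ∈ S.L₂, Commute x y) :
    Nonempty (S.N ≃* alternatingGroup (Fin 5) × alternatingGroup (Fin 5)) := by
  have hc : ∀ a b, Commute (S.ι₁ a) (S.ι₂ b) := fun a b =>
    hcomm _ (S.range_ι₁ ▸ ⟨a, rfl⟩) _ (S.range_ι₂ ▸ ⟨b, rfl⟩)
  set f := MonoidHom.noncommCoprod S.ι₁ S.ι₂ hc with hf
  have hinj : Function.Injective f := by
    rw [hf, MonoidHom.noncommCoprod_injective]
    refine ⟨S.ι₁_inj, S.ι₂_inj, ?_⟩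
    rw [disjoint_iff, S.range_ι₁, S.range_ι₂]
    exact S.L₁_inf_L₂ hX hcomm
  have hr : f.range = S.N := by
    rw [hf, MonoidHom.noncommCoprod_range, S.range_ι₁, S.range_ι₂, N]
  exact ⟨((MonoidHom.ofInjective hinj).trans (MulEquiv.subgroupCongr hr)).symm⟩

theorem range_normalizes_L₁ {x : G} (hx : x ∈ S.ψ.range) {y : G} (hy : y ∈ S.L₁) :
    x * y * x⁻¹ ∈ S.L₁ := by
  obtain ⟨k, rfl⟩ := hx
  obtain ⟨m, hm, rfl⟩ := hy
  rw [← map_inv, ← map_mul, ← map_mul]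
  exact mem_map_of_mem _ (L₁F_normal k m hm)

theorem mem_normalizer_of_L₁ (hX : S.IsWr) (hcomm : ∀ x ∈ S.L₁, ∀ y ∈ S.L₂, Commute x y)
    {x : G} (hx : ∀ y ∈ S.L₁, x * y * x⁻¹ ∈ S.L₁) :
    (∀ y ∈ S.L₂, x * y * x⁻¹ ∈ S.L₂) ∧ x ∈ normalizer (S.N : Set G) := by
  have hn : x ∈ normalizer (S.L₁ : Set G) := mem_normalizer_fintype hx
  have h2 : ∀ y ∈ S.L₂, x * y * x⁻¹ ∈ S.L₂ := by
    intro y hy
    rw [← S.centralizer_L₁ hX hcomm] at hy ⊢
    refine mem_centralizer_iff.2 fun a ha => ?_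
    have ha' : x⁻¹ * a * x ∈ S.L₁ := by
      have := (mem_normalizer_iff.1 (inv_mem hn) a).1 ha
      rwa [inv_inv] at this
    calc a * (x * y * x⁻¹) = x * ((x⁻¹ * a * x) * y) * x⁻¹ := by group
      _ = x * (y * (x⁻¹ * a * x)) * x⁻¹ := by rw [mem_centralizer_iff.1 hy _ ha']
      _ = x * y * x⁻¹ * a := by group
  refine ⟨h2, mem_normalizer_fintype fun y hy => ?_⟩
  obtain ⟨a, ha, b, hb, rfl⟩ := (S.mem_N_iff hX hcomm).1 hy
  rw [← conj_mul]
  exact mul_mem_sup (hx a ha) (h2 b hb)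

theorem g_mem_normalizer (hX : S.IsWr) (hcomm : ∀ x ∈ S.L₁, ∀ y ∈ S.L₂, Commute x y) :
    S.g ∈ normalizer (S.N : Set G) := by
  refine mem_normalizer_fintype fun y hy => ?_
  obtain ⟨a, ha, b, hb, rfl⟩ := (S.mem_N_iff hX hcomm).1 hy
  rw [← conj_mul]
  exact mul_mem (mem_sup_right (S.g_conj_L₁ ha)) (mem_sup_left (S.g_conj_L₂ hX hb))

theorem range_le_normalizer (hX : S.IsWr) (hcomm : ∀ x ∈ S.L₁, ∀ y ∈ S.L₂, Commute x y) :
    S.ψ.range ≤ normalizer (S.N : Set G) := fun x hx =>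
  (S.mem_normalizer_of_L₁ hX hcomm fun y hy => S.range_normalizes_L₁ hx hy).2

theorem φ_range_le_normalizer (hX : S.IsWr) (hcomm : ∀ x ∈ S.L₁, ∀ y ∈ S.L₂, Commute x y) :
    S.φ.range ≤ normalizer (S.N : Set G) := by
  rintro _ ⟨k, rfl⟩
  rw [φ_apply]
  exact mul_mem (mul_mem (S.g_mem_normalizer hX hcomm)
    (S.range_le_normalizer hX hcomm ⟨k, rfl⟩)) (inv_mem (S.g_mem_normalizer hX hcomm))

theorem cent_D_le_normalizer (hX : S.IsWr) (hcomm : ∀ x ∈ S.L₁, ∀ y ∈ S.L₂, Commute x y) :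
    centralizer (S.D : Set G) ≤ normalizer (S.N : Set G) :=
  fun x hx => S.range_le_normalizer hX hcomm (S.cent_z_le (mem_centralizer_singleton_iff.2
    (mem_centralizer_iff.1 hx _ S.z_mem_D).symm))

theorem cent_y_le_normalizer (hX : S.IsWr) (hcomm : ∀ x ∈ S.L₁, ∀ y ∈ S.L₂, Commute x y) :
    centralizer ({S.ψ zF * S.ψ dF} : Set G) ≤ normalizer (S.N : Set G) := by
  set H := centralizer ({S.ψ zF * S.ψ dF} : Set G) ⊓ normalizer (S.N : Set G) with hH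
  have hCD : centralizer (S.D : Set G) ≤ H := le_inf (fun x hx => mem_centralizer_singleton_iff.2
    (mem_centralizer_iff.1 hx _ (mul_mem S.z_mem_D S.d_mem_D)).symm)
    (S.cent_D_le_normalizer hX hcomm)
  have hc18 : Nat.card (centralizer (S.D : Set G)) = 18 := by
    rw [← card_cent_zd]
    refine Nat.card_congr (Equiv.ofBijective (fun k : {k : KF // k * zF = zF * k ∧ k * dF = dF * k}
      => (⟨S.ψ k.1, ?_⟩ : centralizer (S.D : Set G))) ⟨?_, ?_⟩).symm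
    · rw [D, centralizer_closure, mem_centralizer_iff]
      rintro w (rfl | rfl)
      exacts [(S.map_comm k.2.1).symm, (S.map_comm k.2.2).symm]
    · intro a b e
      exact Subtype.ext (S.inj (congrArg Subtype.val e))
    · rintro ⟨x, hx⟩
      have hxz := (mem_centralizer_iff.1 hx _ S.z_mem_D).symm
      have hxd := (mem_centralizer_iff.1 hx _ S.d_mem_D).symm
      obtain ⟨k, rfl⟩ := S.cent_z_le (mem_centralizer_singleton_iff.2 hxz)
      exact ⟨⟨k, S.comm_of_map hxz, S.comm_of_map hxd⟩, rfl⟩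
  have hgH : S.g ∈ H := ⟨S.g_mem_cent_y, S.g_mem_normalizer hX hcomm⟩
  have hgC : S.g ∉ centralizer (S.D : Set G) := by
    intro h
    have h1 := mem_centralizer_iff.1 h _ S.z_mem_D
    have h2 : S.g * S.ψ zF * S.g⁻¹ = S.ψ zF := by rw [← h1]; group
    rw [S.g_z] at h2
    exact absurd (S.inj h2) (by decide +kernel)
  have hlt : 18 < Nat.card H := by
    refine lt_of_le_of_ne (hc18 ▸ Nat.le_of_dvd Nat.card_pos (card_dvd_of_le hCD)) fun e => ?_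
    exact hgC ((eq_of_le_of_card_ge hCD (by omega)).symm ▸ hgH)
  have hdvd : Nat.card H ∣ 36 := S.card_y ▸ card_dvd_of_le inf_le_left
  have h36 : Nat.card H = 36 := by
    obtain ⟨c, hc⟩ := hdvd
    rcases c with _ | _ | c
    · omega
    · omega
    · have : Nat.card H * 2 ≤ Nat.card H * (c + 1 + 1) := Nat.mul_le_mul_left _ (by omega)
      omega
  have := eq_of_le_of_card_ge (inf_le_left : H ≤ _) (by rw [h36, S.card_y])
  exact this ▸ inf_le_right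

theorem t_not_mem_N (hX : S.IsWr) (hcomm : ∀ x ∈ S.L₁, ∀ y ∈ S.L₂, Commute x y) :
    S.ψ tF ∉ S.N := by
  intro h
  obtain ⟨a, ⟨k, hk, rfl⟩, b, hb, e⟩ := (S.mem_N_iff hX hcomm).1 h
  have hb' : S.ψ (k⁻¹ * tF) = b := by rw [map_mul, map_inv, e, inv_mul_cancel_left]
  have hd := hcomm _ S.dF_mem_L₁ b hb
  have hx := hcomm (S.ψ xF) (mem_map_of_mem _ gens_mem_L₁F.2.1) b hb
  rw [← hb'] at hd hx
  obtain ⟨hk1, hk2⟩ := mem_L₁F_iff.1 hk
  have h1 : (k⁻¹ * tF).1 = 1 := by simp [hk1, tF]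
  have h0 := L₁F_center _ h1 (S.comm_of_map hd.eq.symm) (S.comm_of_map hx.eq.symm)
  rw [inv_mul_eq_one] at h0
  exact tF_not_L₁F (h0 ▸ hk2)

theorem t_conj_L₁ {y : G} (hy : y ∈ S.L₁) :
    S.ψ tF * y * (S.ψ tF)⁻¹ ∈ S.L₁ := S.range_normalizes_L₁ ⟨tF, rfl⟩ hy

theorem normalizer_L₁_cases (hX : S.IsWr) (hcomm : ∀ x ∈ S.L₁, ∀ y ∈ S.L₂, Commute x y)
    {x : G} (hx : ∀ y ∈ S.L₁, x * y * x⁻¹ ∈ S.L₁) :
    ∃ n ∈ S.N, x = n ∨ x = n * S.ψ tF := by
  obtain ⟨m, hm, hme⟩ := hx _ S.dF_mem_L₁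
  obtain ⟨hm1, hm2⟩ := mem_L₁F_iff.1 hm
  have h3 : m ^ 3 = 1 := S.inj (by
    rw [map_pow, hme, conj_pow, ← map_pow, facts_comm.2.2.2.2.2.2.2.2.1]; simp)
  have hne : m.2 ≠ 1 := by
    intro h
    have hm0 : m = 1 := Prod.ext hm1 h
    rw [hm0, map_one] at hme
    exact facts_comm.2.2.2.2.2.2.2.2.2.2 (S.inj (by rw [map_one]; exact conj_eq_one_iff.1 hme.symm))
  obtain ⟨r, hr, hrm⟩ := order_three_conj m.2 hm2
    (by rw [← Prod.pow_snd, h3]; rfl) hne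
  set k : KF := (1, r) with hk
  have hkL : k ∈ L₁F := mem_L₁F_iff.2 ⟨rfl, hr⟩
  have hkd : k * m * k⁻¹ = dF := Prod.ext (by simp [hk, hm1, dF]) (by simpa [hk, dF] using hrm)
  have hd : (S.ψ k * x) * S.ψ dF = S.ψ dF * (S.ψ k * x) := by
    refine mul_inv_eq_iff_eq_mul.1 ?_
    calc S.ψ k * x * S.ψ dF * (S.ψ k * x)⁻¹
        = S.ψ k * (x * S.ψ dF * x⁻¹) * (S.ψ k)⁻¹ := by group
      _ = S.ψ dF := by rw [← hme, S.map_conj hkd]
  obtain ⟨i, j, hl⟩ := S.cent_d_split hd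
  set l := S.ψ k * x * (S.ψ (dF ^ i.1 * tF ^ j.1))⁻¹ with hl'
  refine ⟨(S.ψ k)⁻¹ * l * S.ψ dF ^ i.1, mul_mem (mul_mem
    (inv_mem (mem_sup_left (mem_map_of_mem _ hkL))) (mem_sup_right hl))
    (pow_mem (mem_sup_left S.dF_mem_L₁) _), ?_⟩
  fin_cases j
  · left
    simp [hl', mul_assoc]
  · right
    simp [hl', mul_assoc]

theorem mem_normalizer_N (hX : S.IsWr) (hcomm : ∀ x ∈ S.L₁, ∀ y ∈ S.L₂, Commute x y) {x : G} :
    x ∈ normalizer (S.N : Set G) ↔ ∃ n ∈ S.N, x = n ∨ x = n * S.ψ tF ∨ x = n * S.g ∨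
      x = n * (S.ψ tF * S.g) := by
  have htN := S.range_le_normalizer hX hcomm ⟨tF, rfl⟩
  have hgN := S.g_mem_normalizer hX hcomm
  constructor
  · intro hx
    have hxn : ∀ y ∈ S.N, x * y * x⁻¹ ∈ S.N := fun y hy => (mem_normalizer_iff.1 hx y).1 hy
    set f := (MulAut.conj x).toMonoidHom.comp S.ι₁ with hf
    have hfN : ∀ a, f a ∈ S.N := fun a => hxn _ (mem_sup_left (S.range_ι₁ ▸ ⟨a, rfl⟩))
    have hNL₁ : ∀ n ∈ S.N, ∀ y ∈ S.L₁, n * y * n⁻¹ ∈ S.L₁ := by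
      intro n hn y hy
      obtain ⟨a, ha, b, hb, rfl⟩ := (S.mem_N_iff hX hcomm).1 hn
      rw [show a * b * y * (a * b)⁻¹ = a * (b * y * b⁻¹) * a⁻¹ by group,
        show b * y * b⁻¹ = y by rw [← (hcomm y hy b hb).eq]; group]
      exact mul_mem (mul_mem ha hy) (inv_mem ha)
    haveI hn : (S.L₁.comap f).Normal := ⟨fun a ha b => by
      rw [mem_comap, map_mul, map_mul, map_inv]
      exact hNL₁ _ (hfN b) _ ha⟩
    rcases Subgroup.Normal.eq_bot_or_eq_top hn with h | h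
    · have hf2 : ∀ a, f a ∈ S.L₂ := by
        intro a
        rw [← S.centralizer_L₁ hX hcomm]
        refine mem_centralizer_iff.2 fun y hy => ?_
        obtain ⟨c, hc⟩ : y ∈ S.ι₁.range := S.range_ι₁.symm ▸ hy
        -- the commutator of `f a` and `y` lies in both groups
        have hK : ∀ n ∈ S.N, ∀ b, ∃ b', n * f b * n⁻¹ = f b' := by
          intro n hn b
          have hn' : x⁻¹ * n * x ∈ S.N := by
            have := (mem_normalizer_iff.1 (inv_mem hx) n).1 hn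
            rwa [inv_inv] at this
          obtain ⟨c', hc'⟩ : x⁻¹ * n * x * S.ι₁ b * (x⁻¹ * n * x)⁻¹ ∈ S.ι₁.range :=
            S.range_ι₁.symm ▸ hNL₁ _ hn' _ (S.range_ι₁ ▸ ⟨b, rfl⟩)
          refine ⟨c', ?_⟩
          simp only [hf, MonoidHom.comp_apply, MulEquiv.coe_toMonoidHom, MulAut.conj_apply, hc']
          group
        obtain ⟨b', hb'⟩ := hK y (mem_sup_left hy) a
        have hmem : b' * a⁻¹ ∈ S.L₁.comap f := by
          rw [mem_comap, map_mul, map_inv, ← hb', show y * f a * y⁻¹ * (f a)⁻¹ =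
            y * (f a * y⁻¹ * (f a)⁻¹) by group]
          exact mul_mem hy (hNL₁ _ (hfN a) _ (inv_mem hy))
        rw [h, mem_bot, mul_inv_eq_one] at hmem
        rw [hmem] at hb'
        exact mul_inv_eq_iff_eq_mul.1 hb'
      have hgx : ∀ y ∈ S.L₁, S.g * x * y * (S.g * x)⁻¹ ∈ S.L₁ := by
        intro y hy
        obtain ⟨a, rfl⟩ : y ∈ S.ι₁.range := S.range_ι₁.symm ▸ hy
        rw [show S.g * x * S.ι₁ a * (S.g * x)⁻¹ = S.g * (x * S.ι₁ a * x⁻¹) * S.g⁻¹ by group]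
        exact S.g_conj_L₂ hX (hf2 a)
      obtain ⟨n, hn, he⟩ := S.normalizer_L₁_cases hX hcomm hgx
      refine ⟨S.g * n * S.g⁻¹, (mem_normalizer_iff.1 hgN n).1 hn, ?_⟩
      have hx' : x = S.g * (S.g * x) := by rw [← mul_assoc, S.g_mul_g hX, one_mul]
      rcases he with he | he
      · right; right; left
        rw [hx', he]; group
      · right; right; right
        have hgt : S.g * S.ψ tF = S.ψ tF * S.g := mul_inv_eq_iff_eq_mul.1 S.g_t
        rw [hx', he, ← hgt]; group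
    · have hx1 : ∀ y ∈ S.L₁, x * y * x⁻¹ ∈ S.L₁ := by
        intro y hy
        obtain ⟨a, rfl⟩ : y ∈ S.ι₁.range := S.range_ι₁.symm ▸ hy
        exact (mem_comap.1 (h ▸ mem_top a) : f a ∈ S.L₁)
      obtain ⟨n, hn, he⟩ := S.normalizer_L₁_cases hX hcomm hx1
      exact ⟨n, hn, he.elim Or.inl fun h => Or.inr (Or.inl h)⟩
  · rintro ⟨n, hn, h⟩
    have hn' : n ∈ normalizer (S.N : Set G) := le_normalizer hn
    rcases h with rfl | rfl | rfl | rfl
    exacts [hn', mul_mem hn' htN, mul_mem hn' hgN, mul_mem hn' (mul_mem htN hgN)]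

theorem t_mul_t : S.ψ tF * S.ψ tF = 1 := by rw [← map_mul, diag_conj_inv.2.1, map_one]

theorem g_comm_t : Commute S.g (S.ψ tF) := mul_inv_eq_iff_eq_mul.1 S.g_t

theorem g_ne_cosets (hX : S.IsWr) (hcomm : ∀ x ∈ S.L₁, ∀ y ∈ S.L₂, Commute x y) {n : G}
    (hn : n ∈ S.N) : S.g ≠ n ∧ S.g ≠ n * S.ψ tF := by
  have key : ∀ x : G, (∀ y ∈ S.L₁, x * y * x⁻¹ ∈ S.L₁) → S.g ≠ x := by
    rintro _ hx rfl
    have h1 : S.g * S.ψ dF * S.g⁻¹ ∈ S.L₁ ⊓ S.L₂ :=
      ⟨hx _ S.dF_mem_L₁, S.g_conj_L₁ S.dF_mem_L₁⟩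
    rw [S.L₁_inf_L₂ hX hcomm, mem_bot, S.g_d, ← map_one S.ψ] at h1
    exact facts_comm.2.2.2.2.2.2.2.2.2.1 (S.inj h1)
  obtain ⟨a, ha, b, hb, rfl⟩ := (S.mem_N_iff hX hcomm).1 hn
  have hn1 : ∀ y ∈ S.L₁, a * b * y * (a * b)⁻¹ ∈ S.L₁ := by
    intro y hy
    rw [show a * b * y * (a * b)⁻¹ = a * (b * y * b⁻¹) * a⁻¹ by group,
      show b * y * b⁻¹ = y by rw [← (hcomm y hy b hb).eq]; group]
    exact mul_mem (mul_mem ha hy) (inv_mem ha)
  refine ⟨key _ hn1, key _ fun y hy => ?_⟩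
  rw [show a * b * S.ψ tF * y * (a * b * S.ψ tF)⁻¹ =
    a * b * (S.ψ tF * y * (S.ψ tF)⁻¹) * (a * b)⁻¹ by group]
  exact hn1 _ (S.t_conj_L₁ hy)

theorem card_normalizer_N (hX : S.IsWr) (hcomm : ∀ x ∈ S.L₁, ∀ y ∈ S.L₂, Commute x y) :
    Nat.card (normalizer (S.N : Set G)) = 14400 := by
  have htN := S.range_le_normalizer hX hcomm ⟨tF, rfl⟩
  have hgN := S.g_mem_normalizer hX hcomm
  have hgg := S.g_mul_g hX
  have htt := S.t_mul_t
  have hgt := S.g_comm_t.eq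
  let q : Fin 2 × Fin 2 → G := fun p => S.ψ tF ^ p.1.1 * S.g ^ p.2.1
  have hq : ∀ p, q p ∈ normalizer (S.N : Set G) := fun p =>
    mul_mem (pow_mem htN _) (pow_mem hgN _)
  have hqN : ∀ p r, q p * (q r)⁻¹ ∈ S.N → p = r := by
    intro p r h
    obtain ⟨i, j⟩ := p
    obtain ⟨i', j'⟩ := r
    have ht : ∀ n ∈ S.N, n * S.ψ tF ∉ S.N := fun n hn h =>
      S.t_not_mem_N hX hcomm (by simpa using mul_mem (inv_mem hn) h)
    have h0 : S.ψ tF ∉ S.N := S.t_not_mem_N hX hcomm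
    have h1 : S.g ∉ S.N := fun h => (S.g_ne_cosets hX hcomm h).1 rfl
    have h2 : S.ψ tF * S.g ∉ S.N := fun h => (S.g_ne_cosets hX hcomm h).2 (by
      rw [mul_assoc, hgt, ← mul_assoc, htt, one_mul])
    have hti : (S.ψ tF)⁻¹ = S.ψ tF := inv_eq_of_mul_eq_one_right htt
    have hgi := S.g_inv hX
    have htt' : ∀ x, S.ψ tF * (S.ψ tF * x) = x := fun x => by rw [← mul_assoc, htt, one_mul]
    have hgt' : ∀ x, S.g * (S.ψ tF * x) = S.ψ tF * (S.g * x) := fun x => by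
      rw [← mul_assoc, hgt, mul_assoc]
    revert h
    fin_cases i <;> fin_cases j <;> fin_cases i' <;> fin_cases j' <;>
      simp [q, hti, hgi, mul_assoc, htt, hgg, hgt, htt', hgt', h0, h1, h2]
  have e := Nat.card_congr (Equiv.ofBijective (fun p : S.N × (Fin 2 × Fin 2) =>
    (⟨p.1 * q p.2, mul_mem (le_normalizer p.1.2) (hq p.2)⟩ : normalizer (S.N : Set G))) ⟨?_, ?_⟩)
  · rw [← e, Nat.card_prod, S.card_N hX hcomm, Nat.card_eq_fintype_card, Fintype.card_prod,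
      Fintype.card_fin]
  · intro p r he
    have he' : (p.1 : G) * q p.2 = r.1 * q r.2 := congrArg Subtype.val he
    have h2 : p.2 = r.2 := hqN _ _ (by
      rw [show q p.2 * (q r.2)⁻¹ = (p.1 : G)⁻¹ * (p.1 * q p.2) * (q r.2)⁻¹ by group, he',
        show (p.1 : G)⁻¹ * (r.1 * q r.2) * (q r.2)⁻¹ = (p.1 : G)⁻¹ * r.1 by group]
      exact mul_mem (inv_mem p.1.2) r.1.2)
    rw [h2] at he'
    exact Prod.ext (Subtype.ext (mul_right_cancel he')) h2
  · rintro ⟨x, hx⟩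
    obtain ⟨n, hn, h⟩ := (S.mem_normalizer_N hX hcomm).1 hx
    rcases h with rfl | rfl | rfl | rfl
    · exact ⟨(⟨x, hn⟩, (0, 0)), Subtype.ext (by simp [q])⟩
    · exact ⟨(⟨n, hn⟩, (1, 0)), Subtype.ext (by simp [q])⟩
    · exact ⟨(⟨n, hn⟩, (0, 1)), Subtype.ext (by simp [q])⟩
    · exact ⟨(⟨n, hn⟩, (1, 1)), Subtype.ext (by simp [q])⟩

theorem index_N (hX : S.IsWr) (hcomm : ∀ x ∈ S.L₁, ∀ y ∈ S.L₂, Commute x y) :
    (S.N.subgroupOf (normalizer (S.N : Set G))).index = 4 := by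
  have h := (S.N.subgroupOf (normalizer (S.N : Set G))).index_mul_card
  rw [Nat.card_congr (subgroupOfEquivOfLe le_normalizer).toEquiv, S.card_N hX hcomm,
    S.card_normalizer_N hX hcomm] at h
  omega

theorem sq_mem_N (hX : S.IsWr) (hcomm : ∀ x ∈ S.L₁, ∀ y ∈ S.L₂, Commute x y) :
    ∀ x ∈ normalizer (S.N : Set G), x ^ 2 ∈ S.N := by
  intro x hx
  obtain ⟨n, hn, h⟩ := (S.mem_normalizer_N hX hcomm).1 hx
  have htN := S.range_le_normalizer hX hcomm ⟨tF, rfl⟩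
  have hgN := S.g_mem_normalizer hX hcomm
  have key : ∀ q ∈ normalizer (S.N : Set G), q * q = 1 → (n * q) ^ 2 ∈ S.N := by
    intro q hq hq2
    rw [show (n * q) ^ 2 = n * (q * n * q⁻¹) * (q * q) by rw [pow_two]; group, hq2, mul_one]
    exact mul_mem hn ((mem_normalizer_iff.1 hq n).1 hn)
  rcases h with rfl | rfl | rfl | rfl
  · exact pow_mem hn 2
  · exact key _ htN S.t_mul_t
  · exact key _ hgN (S.g_mul_g hX)
  · refine key _ (mul_mem htN hgN) ?_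
    rw [S.g_comm_t.mul_mul_mul_comm, S.t_mul_t, S.g_mul_g hX, one_mul]

end Setup

end CfsgLib.SEightThree
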