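import Cfsg.Agent.Lib.SEightThree.WrLocal.Sylow
import Cfsg.Agent.Lib.SEightThree.WrLocal.Odd
import Cfsg.Agent.Lib.Involutions.ZStar.Main
import Cfsg.Agent.Lib.Base.Cores

/-!
The two-local structure in the wreathed configuration: the normalizer of the elementary abelian
subgroup of order sixteen, the order of a Sylow subgroup, fusion and the centralizer of an
involution of a factor.
-/

set_option autoImplicit false
set_option maxRecDepth 100000
set_option linter.unusedSectionVars false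
set_option linter.style.haveILetI false

namespace CfsgLib.SEightThree

open Equiv Subgroup WrLocal

universe u

namespace WrLocal

theorem pm_fix_invol : ∀ p ∈ PM, lin p 4 = 4 → cmp p p = oneM → p ≠ oneM →
    ∃ i : Fin 3, cmp (cmp (pw zM i) p) (pw zM ((3 - i.val) % 3)) = rM := by decide +kernel

theorem pm_fix_eight : ∀ p ∈ PM, lin p 4 = 4 → lin p 8 = 8 ∨ lin p 8 = 12 := by decide +kernel

theorem pow_inv : ∀ i : Fin 3, (zF ^ i.val)⁻¹ = zF ^ ((3 - i.val) % 3) := by decide +kernel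

theorem r_fixed : ∀ j : Fin 16, lin rM j = j.val → ∃ k : Fin 16, k.val ^^^ lin rM k = j.val := by
  decide +kernel

theorem conj_facts : (∃ k : KF, k * bF * k⁻¹ = aF) ∧ (∃ k : KF, k * rF * k⁻¹ = eF * tF) ∧
    (∃ k : KF, k * fF * k⁻¹ = tF) ∧ rF * aF * rF⁻¹ = aF ∧ rF * bF * rF⁻¹ = aF * bF ∧
    rF * rF = 1 := by decide +kernel

theorem r_conj_vk : ∀ v : Fin 4, ∃ w : Fin 4, rF * vk v * rF⁻¹ = vk w := by decide +kernel

theorem vk_mul : ∀ v w : Fin 4, ∃ x : Fin 4, vk v * vk w = vk x := by decide +kernel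

theorem even_r_conj : ∀ k : KF, k.1 = 1 → Perm.sign k.2 = 1 →
    (rF * k * rF⁻¹).1 = 1 ∧ Perm.sign (rF * k * rF⁻¹).2 = 1 := by decide +kernel

theorem alt_cent_a : ∀ k : KF, k.1 = 1 → Perm.sign k.2 = 1 → k * aF = aF * k →
    ∃ u : Fin 4, k = vk u := by decide +kernel

theorem cent_z_a : ∀ k : KF, k * zF = zF * k → k * aF = aF * k →
    k ^ 4 * bF = bF * k ^ 4 := by decide +kernel

set_option synthInstance.maxSize 4000 in
theorem v_facts : dF * aF * dF⁻¹ = aF * bF ∧ dF * (aF * bF) * dF⁻¹ = bF ∧ dF * bF * dF⁻¹ = aF ∧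
    aF * (aF * bF) = bF ∧ aF * bF = bF * aF ∧ aF * aF = 1 ∧ bF * bF = 1 ∧ aF ≠ 1 ∧ bF ≠ 1 ∧
    bF ≠ aF ∧ (aF * zF) ^ 3 ≠ 1 ∧ zF ^ 3 = 1 ∧ zF * aF = aF * zF ∧ zF * bF = bF * zF := by
  decide +kernel

variable {G : Type u} [Group G] [Finite G] {S : Setup G}

namespace Hyp

variable (H : Hyp S)
include H

theorem commute_a {k : KF} (hk : k ∈ L₁F) : S.φ k ∈ centralizer ({S.ψ aF} : Set G) :=
  mem_centralizer_singleton_iff.2 (H.commute_map ((L₁F_iff _).2 (vk_even 1)) hk).eq.symm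

theorem psi_mem {k : KF} (hk : k * aF = aF * k) : S.ψ k ∈ centralizer ({S.ψ aF} : Set G) :=
  mem_centralizer_singleton_iff.2 (by rw [← map_mul, hk, map_mul])

/-- A Sylow subgroup of the centralizer normalizes the subgroup of order sixteen. -/
theorem exists_sylow_cent : ∃ P : Sylow 2 ↥(centralizer ({S.ψ aF} : Set G)),
    ∀ x : ↥(centralizer ({S.ψ aF} : Set G)), x ∈ P → (x : G) ∈ normalizer (S.W : Set G) ∧
      ∀ i, i < 16 → ∀ h : el S i ∈ centralizer ({S.ψ aF} : Set G),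
        (⟨el S i, h⟩ : ↥(centralizer ({S.ψ aF} : Set G))) ∈ P := by
  haveI : Fact (Nat.Prime 2) := ⟨Nat.prime_two⟩
  set R := centralizer ({S.ψ aF} : Set G) with hR
  have hWR : S.W ≤ R := by
    intro w hw
    obtain ⟨i, hi, rfl⟩ := H.mem_W_iff.1 hw
    rw [hR, mem_centralizer_singleton_iff, ← H.el_4, H.el_comm hi (by norm_num)]
  obtain ⟨P, hP⟩ := IsPGroup.exists_le_sylow
    (H.isPGroup_W.comap_of_injective R.subtype Subtype.coe_injective)
  have hle := H.two_group_le (T := (P : Subgroup ↥R).map R.subtype) (P.2.map _)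
    (fun w hw => ⟨⟨w, hWR hw⟩, hP (show w ∈ S.W from hw), rfl⟩)
  exact ⟨P, fun x hx => ⟨hle ⟨x, hx, rfl⟩, fun i hi h => hP (show el S i ∈ S.W from H.el_mem hi)⟩⟩

/-- An involution of the centralizer normalizing the subgroup of order sixteen and conjugate to
an element of a factor lies in it. -/
theorem invol_mem (hat : ¬ IsConj (S.ψ aF) (S.ψ tF)) {x : G} (hxN : x ∈ normalizer (S.W : Set G))
    (hxa : x * S.ψ aF = S.ψ aF * x) (hx2 : x * x = 1) (hxc : IsConj (S.ψ aF) x) : x ∈ S.W := by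
  obtain ⟨p, hp⟩ := H.act_exists hxN
  have hp4 : lin p 4 = 4 := H.el_inj (lin_lt hp.lt1 hp.lt2 hp.lt4 hp.lt8 4) (by norm_num) (by
    rw [← H.act_spec hp (by norm_num), H.el_4, hxa, mul_inv_cancel_right])
  have hpp : cmp p p = oneM := by
    have h := H.act_mul hp hp
    rw [hx2] at h
    exact H.act_unique h act_one
  by_cases hp1 : p = oneM
  · obtain ⟨i, hi, e⟩ := H.mem_of_act_one (hp1 ▸ hp)
    exact e ▸ H.el_mem hi
  exfalso
  obtain ⟨i, hi⟩ := pm_fix_invol p (H.act_mem hp) hp4 hpp hp1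
  set c := S.ψ (zF ^ i.val) with hc
  have hcinv : c⁻¹ = S.ψ (zF ^ ((3 - i.val) % 3)) := by rw [hc, ← map_inv, pow_inv]
  have hx' : Act S (c * x * c⁻¹) rM := by
    rw [hcinv, ← hi]
    exact H.act_mul (H.act_mul (H.act_pow_z _) hp) (H.act_pow_z _)
  obtain ⟨j, hj⟩ := H.ext_act hx' H.act_rF
  have hr2 : S.ψ rF * S.ψ rF = 1 := by rw [← map_mul, conj_facts.2.2.2.2.2, map_one]
  have hlt := (act_r_facts j).1
  have hfix : lin rM j = j.val := by
    have h1 : c * x * c⁻¹ * (c * x * c⁻¹) = 1 := by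
      rw [show c * x * c⁻¹ * (c * x * c⁻¹) = c * (x * x) * c⁻¹ by group, hx2, mul_one,
        mul_inv_cancel]
    rw [hj] at h1
    have h2 : el S j.val * (S.ψ rF * el S j.val * (S.ψ rF)⁻¹) * (S.ψ rF * S.ψ rF) = 1 := by
      rw [← h1]; group
    rw [hr2, mul_one, H.act_spec H.act_rF j.isLt, ← H.el_xor j.isLt hlt] at h2
    exact (Nat.xor_eq_zero_iff.1 (H.el_eq_one (Nat.xor_lt_two_pow (n := 4) j.isLt hlt) h2)).symm
  obtain ⟨k, hk⟩ := r_fixed j hfix
  have h1 : IsConj (S.ψ rF) (c * x * c⁻¹) := isConj_iff.2 ⟨el S k.val, by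
    rw [hj, ← hk, H.el_xor k.isLt (act_r_facts k).1, ← H.act_spec H.act_rF k.isLt,
      inv_eq_of_mul_eq_one_right (H.el_self k.isLt)]
    calc el S k.val * S.ψ rF * el S k.val
        = el S k.val * (S.ψ rF * el S k.val * (S.ψ rF)⁻¹) * S.ψ rF := by group
      _ = _ := rfl⟩
  obtain ⟨-, ⟨m, hm⟩, ⟨m', hm'⟩, -⟩ := conj_facts
  have h2 : IsConj (S.ψ rF) (S.ψ (eF * tF)) :=
    isConj_iff.2 ⟨S.ψ m, by rw [← map_inv, ← map_mul, ← map_mul, hm]⟩
  have h3 : IsConj (S.φ fF) (S.φ tF) :=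
    isConj_iff.2 ⟨S.φ m', by rw [← map_inv, ← map_mul, ← map_mul, hm']⟩
  rw [← H.φ_fF] at h2
  rw [S.φ_tF] at h3
  exact hat (hxc.trans ((isConj_iff.2 ⟨c, rfl⟩ : IsConj x (c * x * c⁻¹)).trans
    (h1.symm.trans (h2.trans h3))))

/-- Elements of the centralizer fixing the image of the second involution. -/
theorem fix_cases {y : G} (hy : y * S.ψ aF = S.ψ aF * y)
    (h : y * S.ψ bF * y⁻¹ = S.ψ bF ∨ y * S.ψ bF * y⁻¹ = S.ψ aF * S.ψ bF) :
    (∃ v : Fin 4, ∃ k ∈ L₁F, y = S.ψ (vk v) * S.φ k) ∨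
      ∃ v : Fin 4, ∃ k ∈ L₁F, y = S.ψ rF * (S.ψ (vk v) * S.φ k) := by
  have key : ∀ x : G, x * S.ψ aF = S.ψ aF * x → x * S.ψ bF = S.ψ bF * x →
      ∃ v : Fin 4, ∃ k ∈ L₁F, x = S.ψ (vk v) * S.φ k := by
    intro x ha hb
    refine H.centV_cases fun u => ?_
    fin_cases u
    · simp [vk]
    · exact ha
    · exact hb
    · show x * S.ψ (aF * bF) = S.ψ (aF * bF) * x
      rw [map_mul, ← mul_assoc, ha, mul_assoc, hb, mul_assoc]
  rcases h with h | h
  · exact Or.inl (key y hy (mul_inv_eq_iff_eq_mul.1 h))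
  · right
    obtain ⟨-, -, -, hra, hrb, hrr⟩ := conj_facts
    obtain ⟨v, k, hk, e⟩ := key ((S.ψ rF)⁻¹ * y) (by
      have e1 : S.ψ rF * S.ψ aF * (S.ψ rF)⁻¹ = S.ψ aF := by
        rw [← map_inv, ← map_mul, ← map_mul, hra]
      calc (S.ψ rF)⁻¹ * y * S.ψ aF = (S.ψ rF)⁻¹ * (S.ψ aF * y) := by rw [← hy, mul_assoc]
        _ = (S.ψ rF)⁻¹ * (S.ψ rF * S.ψ aF * (S.ψ rF)⁻¹ * y) := by rw [e1]
        _ = _ := by group) (by
      have e1 : S.ψ rF * S.ψ bF * (S.ψ rF)⁻¹ = y * S.ψ bF * y⁻¹ := by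
        rw [h, ← map_inv, ← map_mul, ← map_mul, hrb, map_mul]
      calc (S.ψ rF)⁻¹ * y * S.ψ bF = (S.ψ rF)⁻¹ * (y * S.ψ bF * y⁻¹) * y := by group
        _ = (S.ψ rF)⁻¹ * (S.ψ rF * S.ψ bF * (S.ψ rF)⁻¹) * y := by rw [e1]
        _ = _ := by group)
    exact ⟨v, k, hk, by rw [← e, mul_inv_cancel_left]⟩

theorem sq_form {y : G} (h : (∃ v : Fin 4, ∃ k ∈ L₁F, y = S.ψ (vk v) * S.φ k) ∨
    ∃ v : Fin 4, ∃ k ∈ L₁F, y = S.ψ rF * (S.ψ (vk v) * S.φ k)) :
    ∃ k ∈ L₁F, y ^ 4 = S.φ k := by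
  have sq : ∀ (v : Fin 4) (k : KF), k ∈ L₁F → (S.ψ (vk v) * S.φ k) ^ 2 = S.φ (k * k) := by
    intro v k hk
    rw [pow_two]
    have hc := H.commute_map ((L₁F_iff _).2 (vk_even v)) hk
    calc S.ψ (vk v) * S.φ k * (S.ψ (vk v) * S.φ k)
        = S.ψ (vk v) * (S.φ k * S.ψ (vk v)) * S.φ k := by simp only [mul_assoc]
      _ = S.ψ (vk v) * S.ψ (vk v) * (S.φ k * S.φ k) := by rw [← hc.eq]; simp only [mul_assoc]
      _ = _ := by rw [← map_mul, ← map_mul, vk_trivial v, map_one, one_mul]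
  rcases h with ⟨v, k, hk, rfl⟩ | ⟨v, k, hk, rfl⟩
  · refine ⟨(k * k) * (k * k), mul_mem (mul_mem hk hk) (mul_mem hk hk), ?_⟩
    show _ ^ (2 * 2) = _
    rw [pow_mul, sq v k hk, pow_two, ← map_mul]
  · obtain ⟨w, hw⟩ := r_conj_vk v
    obtain ⟨x, hx⟩ := vk_mul w v
    obtain ⟨hk1, hk2⟩ := (L₁F_iff k).1 hk
    have hk' : rF * k * rF⁻¹ ∈ L₁F := (L₁F_iff _).2 (even_r_conj k hk1 hk2)
    have hri : rF⁻¹ = rF := inv_eq_of_mul_eq_one_right conj_facts.2.2.2.2.2
    have e : (S.ψ rF * (S.ψ (vk v) * S.φ k)) ^ 2 = S.ψ (vk x) * S.φ (rF * k * rF⁻¹ * k) := by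
      calc (S.ψ rF * (S.ψ (vk v) * S.φ k)) ^ 2
          = (S.ψ rF * S.ψ (vk v) * S.ψ rF⁻¹) * (S.ψ rF * S.φ k * S.ψ rF) *
              (S.ψ (vk v) * S.φ k) := by rw [pow_two, map_inv]; group
        _ = S.ψ (vk w) * S.φ (rF * k * rF⁻¹) * (S.ψ (vk v) * S.φ k) := by
            rw [← map_mul, ← map_mul, hw, ← H.φ_rF, ← map_mul, ← map_mul, hri]
        _ = S.ψ (vk w) * (S.φ (rF * k * rF⁻¹) * S.ψ (vk v)) * S.φ k := by simp only [mul_assoc]
        _ = _ := by
            rw [← (H.commute_map ((L₁F_iff _).2 (vk_even v)) hk').eq, ← hx, map_mul S.ψ,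
              map_mul S.φ _ k]
            simp only [mul_assoc]
    refine ⟨_, mul_mem (mul_mem hk' hk) (mul_mem hk' hk), ?_⟩
    show _ ^ (2 * 2) = _
    rw [pow_mul, e, sq _ _ (mul_mem hk' hk)]

omit H in
/-- The embedding of the alternating group. -/
def altHom : ↥(alternatingGroup (Fin 5)) →* G :=
  S.φ.comp ((MonoidHom.inr (Perm (Fin 3)) (Perm (Fin 5))).comp (alternatingGroup (Fin 5)).subtype)

omit H in
theorem mem_zpowers_invol {X : Type u} [Group X] {a x : X} (ha : a * a = 1)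
    (hx : x ∈ zpowers a) : x = 1 ∨ x = a := by
  obtain ⟨n, rfl⟩ := mem_zpowers_iff.1 hx
  rcases Int.even_or_odd n with ⟨m, rfl⟩ | ⟨m, rfl⟩
  · left
    rw [← two_mul, zpow_mul, zpow_two, ha, one_zpow]
  · right
    rw [zpow_add, zpow_one, zpow_mul, zpow_two, ha, one_zpow, one_mul]

set_option maxHeartbeats 1000000 in
theorem centralizer_le (hat : ¬ IsConj (S.ψ aF) (S.ψ tF)) :
    centralizer ({S.ψ aF} : Set G) ≤ normalizer (S.N : Set G) := by
  haveI : Fact (Nat.Prime 2) := ⟨Nat.prime_two⟩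
  obtain ⟨hdA, hdAB, hdB, haab, habc, haa, hbb, ha1, hb1, hba, haz, hz3, hza, hzb⟩ := v_facts
  set R := centralizer ({S.ψ aF} : Set G) with hR
  set a : R := ⟨S.ψ aF, mem_centralizer_singleton_iff.2 rfl⟩ with hadef
  have hca : ∀ y : R, (y : G) * S.ψ aF = S.ψ aF * (y : G) :=
    fun y => mem_centralizer_singleton_iff.1 y.2
  have ha2 : a * a = 1 := Subtype.ext (show S.ψ aF * S.ψ aF = 1 by rw [← map_mul, haa, map_one])
  haveI hA : (zpowers a).Normal := ⟨fun n hn g => by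
    rcases mem_zpowers_invol ha2 hn with rfl | rfl
    · simp
    · rw [Subtype.ext (hca g) (a1 := g * a) (a2 := a * g), mul_inv_cancel_right]
      exact mem_zpowers a⟩
  set π := QuotientGroup.mk' (zpowers a) with hπ
  have hsurj : Function.Surjective π := QuotientGroup.mk'_surjective _
  have hπ1 : ∀ x : R, π x = 1 → (x : G) = 1 ∨ (x : G) = S.ψ aF := by
    intro x hx
    rcases mem_zpowers_invol ha2 ((QuotientGroup.eq_one_iff x).1 hx) with rfl | rfl
    · exact Or.inl rfl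
    · exact Or.inr rfl
  have hπeq : ∀ x y : R, π x = π y → (x : G) = y ∨ (x : G) = S.ψ aF * y := by
    intro x y h
    rcases hπ1 (x * y⁻¹) (by rw [map_mul, map_inv, h, mul_inv_cancel]) with h | h
    · exact Or.inl (mul_inv_eq_one.1 h)
    · exact Or.inr (mul_inv_eq_iff_eq_mul.1 h)
  have hπa : π a = 1 := (QuotientGroup.eq_one_iff a).2 (mem_zpowers a)
  set b : R := ⟨S.ψ bF, H.psi_mem habc.symm⟩ with hbdef
  have hb2 : b * b = 1 := Subtype.ext (show S.ψ bF * S.ψ bF = 1 by rw [← map_mul, hbb, map_one])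
  -- the image of the second involution is isolated
  have hu : orderOf (π b) = 2 := by
    refine orderOf_eq_prime (p := 2) (by rw [pow_two, ← map_mul, hb2, map_one]) fun h => ?_
    rcases hπ1 b h with h | h
    · exact hb1 (S.inj (h.trans (map_one _).symm))
    · exact hba (S.inj h)
  obtain ⟨P, hP⟩ := H.exists_sylow_cent
  have hiso : Cfsg.IsIsolatedInvolution (π b) := by
    refine CfsgLib.Involutions.isolated_of_sylow (P.mapSurjective hsurj) hu fun q hq => ?_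
    obtain ⟨y, rfl⟩ := hsurj q
    rw [← map_inv, ← map_mul, ← map_mul] at hq ⊢
    obtain ⟨x, hxP, hx⟩ :=
      Subgroup.mem_map.1 (show π (y * b * y⁻¹) ∈ (P : Subgroup R).map π from hq)
    have hxP' : y * b * y⁻¹ ∈ P := by
      rcases hπeq _ _ hx.symm with h | h
      · rw [show y * b * y⁻¹ = x from Subtype.ext h]; exact hxP
      · rw [show y * b * y⁻¹ = a * x from Subtype.ext h]
        refine mul_mem ?_ hxP
        have := (hP _ hxP).2 4 (by norm_num) (by rw [H.el_4]; exact a.2)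
        convert this using 1
        exact Subtype.ext H.el_4.symm
    set z : G := (y : G) * S.ψ bF * (y : G)⁻¹ with hz
    obtain ⟨m, hm⟩ := conj_facts.1
    have hzc : IsConj (S.ψ aF) z :=
      ((isConj_iff.2 ⟨S.ψ m, by rw [← map_inv, ← map_mul, ← map_mul, hm]⟩ :
        IsConj (S.ψ bF) (S.ψ aF)).symm).trans (isConj_iff.2 ⟨(y : G), rfl⟩)
    have hzW : z ∈ S.W := H.invol_mem hat (hP _ hxP').1 (hca (y * b * y⁻¹))
      (congrArg Subtype.val (show (y * b * y⁻¹) * (y * b * y⁻¹) = 1 by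
        rw [show (y * b * y⁻¹) * (y * b * y⁻¹) = y * (b * b) * y⁻¹ by group, hb2, mul_one,
          mul_inv_cancel])) hzc
    have hya : (y : G) * el S 4 * (y : G)⁻¹ = el S 4 := by
      rw [H.el_4, hca y, mul_inv_cancel_right]
    obtain ⟨p, hp, e4, e8⟩ := H.fusion (n := (y : G)) (i₁ := 4) (i₂ := 8) (by norm_num)
      (by norm_num) (by rw [hya]; exact H.el_mem (by norm_num)) (by rw [H.el_8]; exact hzW)
    have hlt : lin p 4 < 16 := by
      have : ∀ y ∈ PM, lin y 4 < 16 := by decide +kernel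
      exact this p hp
    have h4 := H.el_inj hlt (by norm_num) (e4.symm.trans hya)
    rw [H.el_8] at e8
    rcases pm_fix_eight p hp h4 with h | h <;> rw [h] at e8
    · exact congrArg π (Subtype.ext (e8.trans H.el_8))
    · rw [show y * b * y⁻¹ = a * b from Subtype.ext (e8.trans (by
        rw [show el S 12 = S.ψ (aF * bF) from H.el_four 3, map_mul]; rfl)), map_mul, hπa, one_mul]
  set O := Cfsg.oddCore (↥R ⧸ zpowers a) with hO
  have hodd : Odd (Nat.card O) := CfsgLib.Base.odd_card_oddCore _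
  haveI hON : O.Normal := inferInstance
  have hpow : ∀ x ∈ O, x ^ 4 = 1 → x = 1 := by
    intro x hx h
    have h1 : orderOf x ∣ 4 := orderOf_dvd_of_pow_eq_one h
    have h2 : orderOf x ∣ Nat.card O := by
      rw [← Subgroup.orderOf_mk x hx]; exact orderOf_dvd_natCard _
    have h3 : Nat.Coprime 4 (Nat.card O) :=
      (Nat.coprime_two_left.2 hodd).pow_left 2
    exact orderOf_eq_one_iff.1 (Nat.eq_one_of_dvd_coprimes h3 h1 h2)
  have hconj : ∀ y x : R, π x * π y = π y * π x →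
      (y : G) * x * (y : G)⁻¹ = x ∨ (y : G) * x * (y : G)⁻¹ = S.ψ aF * x := fun y x h =>
    hπeq (y * x * y⁻¹) x (by rw [map_mul, map_mul, map_inv, ← h, mul_inv_cancel_right])
  have hfix : ∀ y : R, π b * π y = π y * π b →
      (∃ v : Fin 4, ∃ k ∈ L₁F, (y : G) = S.ψ (vk v) * S.φ k) ∨
        ∃ v : Fin 4, ∃ k ∈ L₁F, (y : G) = S.ψ rF * (S.ψ (vk v) * S.φ k) :=
    fun y h => H.fix_cases (hca y) (hconj y b h)
  have hφne : ∀ u : Fin 4, u ≠ 0 → S.φ (vk u) ≠ 1 ∧ S.φ (vk u) ≠ S.ψ aF := fun u hu =>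
    ⟨fun h => hu (Fin.ext (vk_eq_one u (S.φ_inj (h.trans (map_one _).symm)))),
     fun h => ha1 (H.inter ((L₁F_iff _).2 (vk_even 1)) ((L₁F_iff _).2 (vk_even u)) h.symm).1⟩
  -- the second factor meets the odd core trivially
  have hmemA : ∀ k : ↥(alternatingGroup (Fin 5)), altHom (S := S) k ∈ R := fun k =>
    H.commute_a ((L₁F_iff _).2 ⟨rfl, Perm.mem_alternatingGroup.1 k.2⟩)
  set θ : ↥(alternatingGroup (Fin 5)) →* ↥R ⧸ zpowers a :=
    π.comp ((altHom (S := S)).codRestrict R hmemA) with hθ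
  have hbot : O.comap θ = ⊥ := by
    rcases (inferInstance : (O.comap θ).Normal).eq_bot_or_eq_top with h | h
    · exact h
    · exfalso
      let k₀ : ↥(alternatingGroup (Fin 5)) := ⟨aF.2, Perm.mem_alternatingGroup.2 (vk_even 1).2⟩
      have hk₀ : θ k₀ ∈ O := (h ▸ Subgroup.mem_top k₀ : k₀ ∈ O.comap θ)
      have e : θ k₀ = 1 := hpow _ hk₀ (by
        rw [← map_pow, show k₀ ^ 4 = 1 from Subtype.ext (by
          show aF.2 ^ 4 = 1
          decide +kernel), map_one])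
      have hk : altHom (S := S) k₀ = S.φ (vk (1 : Fin 4)) := rfl
      rcases hπ1 _ e with h | h
      · exact (hφne 1 (by decide)).1 (hk.symm.trans h)
      · exact (hφne 1 (by decide)).2 (hk.symm.trans h)
  have hL2 : ∀ x : R, ∀ k ∈ L₁F, (x : G) = S.φ k → π x ∈ O → π x = 1 := by
    intro x k hk hxk hxO
    obtain ⟨hk1, hk2⟩ := (L₁F_iff k).1 hk
    let k' : ↥(alternatingGroup (Fin 5)) := ⟨k.2, Perm.mem_alternatingGroup.2 hk2⟩
    have e : θ k' = π x := congrArg π (Subtype.ext (by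
      show S.φ (1, k.2) = (x : G)
      rw [hxk, ← hk1]))
    have : k' ∈ O.comap θ := by
      show θ k' ∈ O
      rw [e]; exact hxO
    rw [hbot, Subgroup.mem_bot] at this
    rw [← e, this, map_one]
  have fb : ∀ x ∈ O, π b * x = x * π b → x = 1 := by
    intro x hx hc
    obtain ⟨y, rfl⟩ := hsurj x
    obtain ⟨k, hk, e⟩ := H.sq_form (hfix y hc)
    have h4 : π (y ^ 4) = 1 := hL2 _ k hk (by simpa using e) (by
      rw [map_pow]; exact pow_mem hx 4)
    exact hpow _ hx (by rw [← map_pow]; exact h4)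
  have hgφ : ∀ u : Fin 4, u ≠ 0 → ¬ IsConj (S.φ (vk u)) (S.ψ aF * S.φ (vk u)) := by
    intro u hu h
    obtain ⟨m, hm⟩ : ∃ m : KF, m * aF * m⁻¹ = vk u := by
      have key : ∀ u : Fin 4, u ≠ 0 → ∃ m : KF, m * aF * m⁻¹ = vk u := by decide +kernel
      exact key u hu
    refine H.not_isConj_mixed (u := 1) (v := u) (by decide) hu (IsConj.trans ?_ h)
    have e1 : IsConj (S.ψ aF) (S.φ aF) := isConj_iff.2 ⟨S.g, rfl⟩
    exact e1.trans (isConj_iff.2 ⟨S.φ m, by rw [← map_inv, ← map_mul, ← map_mul, hm]⟩)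
  set v₁ : R := ⟨S.φ aF, H.commute_a ((L₁F_iff _).2 (vk_even 1))⟩ with hv₁
  set v₂ : R := ⟨S.φ (aF * bF), H.commute_a ((L₁F_iff _).2 (vk_even 3))⟩ with hv₂
  set s : R := ⟨S.ψ zF, H.psi_mem hza⟩ with hs
  have hOtop : O = ⊥ := by
    refine eq_bot_of_fixed O hodd (b := π b) (v₁ := π v₁) (v₂ := π v₂) (s := π s) ?_ ?_ ?_ ?_
      ?_ ?_ ?_ fb ?_ ?_
    · rw [← map_mul, hb2, map_one]
    · rw [← map_mul, ← map_one π]
      exact congrArg π (Subtype.ext (show S.φ aF * S.φ aF = 1 by rw [← map_mul, haa, map_one]))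
    · rw [← map_mul, ← map_one π]
      exact congrArg π (Subtype.ext (show S.φ (aF * bF) * S.φ (aF * bF) = 1 by
        rw [← map_mul, show aF * bF * (aF * bF) = 1 by decide +kernel, map_one]))
    · rw [← map_mul, ← map_mul]
      exact congrArg π (Subtype.ext (show S.φ aF * S.φ (aF * bF) = S.φ (aF * bF) * S.φ aF by
        rw [← map_mul, ← map_mul]; congr 1; decide +kernel))
    · rw [← map_inv, ← map_mul, ← map_mul]
      exact congrArg π (Subtype.ext (show S.ψ zF * S.φ aF * (S.ψ zF)⁻¹ = S.φ (aF * bF) by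
        rw [← S.φ_dF, ← map_inv, ← map_mul, ← map_mul, hdA]))
    · rw [← map_inv, ← map_mul, ← map_mul, ← map_mul]
      exact congrArg π (Subtype.ext (show S.ψ zF * S.φ (aF * bF) * (S.ψ zF)⁻¹ =
          S.φ aF * S.φ (aF * bF) by
        rw [← S.φ_dF, ← map_inv, ← map_mul, ← map_mul, ← map_mul, hdAB, haab]))
    · rw [← map_mul, ← map_mul, ← map_one π]
      exact congrArg π (Subtype.ext (show S.ψ zF * S.ψ zF * S.ψ zF = 1 by
        rw [← map_mul, ← map_mul, ← map_one S.ψ, ← hz3, pow_three, mul_assoc]))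
    · intro x hx h1 h2
      obtain ⟨y, rfl⟩ := hsurj x
      have c1 : (y : G) * S.φ aF = S.φ aF * (y : G) := by
        rcases hconj y v₁ h1 with h | h
        · exact mul_inv_eq_iff_eq_mul.1 h
        · exact absurd (isConj_iff.2 ⟨(y : G), h⟩) (hgφ 1 (by decide))
      have c2 : (y : G) * S.φ (aF * bF) = S.φ (aF * bF) * (y : G) := by
        rcases hconj y v₂ h2 with h | h
        · exact mul_inv_eq_iff_eq_mul.1 h
        · exact absurd (isConj_iff.2 ⟨(y : G), h⟩) (hgφ 3 (by decide))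
      obtain ⟨v, k, hk, e⟩ := H.centV' (x := (y : G)) fun u => by
        fin_cases u
        · simp [vk]
        · exact c1
        · show (y : G) * S.φ bF = S.φ bF * (y : G)
          rw [← haab, map_mul, ← mul_assoc, c1, mul_assoc, c2, mul_assoc]
        · exact c2
      have hka : k * aF = aF * k := S.inj (by
        have h := hca y
        rw [e, mul_assoc, ← mul_assoc (S.ψ aF), (show Commute (S.ψ aF) (S.φ (vk v)) from
          H.commute_map ((L₁F_iff _).2 (vk_even 1)) ((L₁F_iff _).2 (vk_even v))).eq,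
          mul_assoc] at h
        rw [map_mul, map_mul]
        exact mul_left_cancel h)
      obtain ⟨w, rfl⟩ := alt_cent_a k ((L₁F_iff k).1 hk).1 ((L₁F_iff k).1 hk).2 hka
      refine hpow _ hx ?_
      have hy2 : y * y = 1 := Subtype.ext (by
        show (y : G) * y = 1
        rw [e, ← (H.commute_map hk ((L₁F_iff _).2 (vk_even v))).eq]
        calc S.ψ (vk w) * S.φ (vk v) * (S.ψ (vk w) * S.φ (vk v))
            = S.ψ (vk w) * (S.φ (vk v) * S.ψ (vk w)) * S.φ (vk v) := by simp only [mul_assoc]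
          _ = S.ψ (vk w) * S.ψ (vk w) * (S.φ (vk v) * S.φ (vk v)) := by
            rw [← (H.commute_map hk ((L₁F_iff _).2 (vk_even v))).eq]; simp only [mul_assoc]
          _ = 1 := by rw [← map_mul, ← map_mul, vk_trivial w, vk_trivial v, map_one, map_one,
            one_mul])
      show π y ^ (2 * 2) = 1
      rw [← map_pow, pow_mul, pow_two y, hy2, one_pow, map_one]
    · intro x hx h1
      obtain ⟨y, rfl⟩ := hsurj x
      have c1 : (y : G) * S.ψ zF = S.ψ zF * (y : G) := by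
        rcases hconj y s h1 with h | h
        · exact mul_inv_eq_iff_eq_mul.1 h
        · exfalso
          have e : ((y : G) * S.ψ zF * (y : G)⁻¹) ^ 3 = 1 := by
            rw [conj_pow, ← map_pow, hz3, map_one, mul_one, mul_inv_cancel]
          rw [show (y : G) * S.ψ zF * (y : G)⁻¹ = S.ψ aF * S.ψ zF from h, ← map_mul, ← map_pow] at e
          exact haz (S.inj (e.trans (map_one _).symm))
      obtain ⟨k, hk⟩ : (y : G) ∈ S.ψ.range := S.range_eq ▸ centralizer_le_normalizer _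
        (fun t ht => by
          obtain ⟨l, rfl⟩ := mem_zpowers_iff.1 ht
          exact ((show Commute (y : G) (S.ψ zF) from c1).zpow_right l).eq.symm)
      have hkz : k * zF = zF * k := S.inj (by rw [map_mul, map_mul, hk]; exact c1)
      have hka : k * aF = aF * k := S.inj (by rw [map_mul, map_mul, hk]; exact hca y)
      refine hpow _ hx (fb _ (pow_mem hx 4) ?_)
      rw [← map_pow, ← map_mul, ← map_mul]
      exact congrArg π (Subtype.ext (show S.ψ bF * (y : G) ^ 4 = (y : G) ^ 4 * S.ψ bF by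
        rw [← hk, ← map_pow, ← map_mul, ← map_mul, cent_z_a k hkz hka]))
  intro x hx
  obtain ⟨o, ho, c, hc, e⟩ :=
    CfsgLib.Involutions.ZStar.exists_mul_centralizer hiso (π ⟨x, hx⟩)
  rw [← hO, hOtop, Subgroup.mem_bot] at ho
  rw [ho, one_mul] at e
  rw [← e, mem_centralizer_singleton_iff] at hc
  have hψ : ∀ k, S.ψ k ∈ normalizer (S.N : Set G) := fun k => H.range_le ⟨k, rfl⟩
  have hφ : ∀ k, S.φ k ∈ normalizer (S.N : Set G) := fun k => by
    rw [S.φ_apply]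
    exact mul_mem (mul_mem H.g_mem (hψ k)) (inv_mem H.g_mem)
  rcases hfix ⟨x, hx⟩ hc.symm with ⟨v, k, -, e⟩ | ⟨v, k, -, e⟩
  · exact (show x = _ from e) ▸ mul_mem (hψ _) (hφ _)
  · exact (show x = _ from e) ▸ mul_mem (hψ _) (mul_mem (hψ _) (hφ _))

end Hyp

end WrLocal

variable {G : Type u} [Group G] [Finite G] (S : Setup G)

/-- In the wreathed configuration the normalizer of the subgroup of order sixteen normalizes the
product of the factors. -/
theorem Setup.normalizer_W_le (hX : S.IsWr) (hcomm : ∀ x ∈ S.L₁, ∀ y ∈ S.L₂, Commute x y)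
    (hCV : ∀ x ∈ centralizer (S.V : Set G), ∃ v ∈ S.V, ∃ l ∈ S.L₂, x = v * l)
    (hr : S.ψ.range ≤ normalizer (S.N : Set G)) (hg : S.g ∈ normalizer (S.N : Set G)) :
    normalizer (S.W : Set G) ≤ normalizer (S.N : Set G) :=
  Hyp.normalizer_le ⟨hX, hcomm, hCV, hr, hg⟩

/-- A Sylow subgroup has order dividing sixty-four. -/
theorem Setup.wr_not_dvd_128 (hX : S.IsWr) (hcomm : ∀ x ∈ S.L₁, ∀ y ∈ S.L₂, Commute x y)
    (hCV : ∀ x ∈ centralizer (S.V : Set G), ∃ v ∈ S.V, ∃ l ∈ S.L₂, x = v * l)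
    (hr : S.ψ.range ≤ normalizer (S.N : Set G)) (hg : S.g ∈ normalizer (S.N : Set G)) :
    ¬ 128 ∣ Nat.card G :=
  Hyp.not_dvd_128 ⟨hX, hcomm, hCV, hr, hg⟩

/-- An involution of a factor is not conjugate to a product of involutions of both factors. -/
theorem Setup.not_isConj_mixed (hX : S.IsWr) (hcomm : ∀ x ∈ S.L₁, ∀ y ∈ S.L₂, Commute x y)
    (hCV : ∀ x ∈ centralizer (S.V : Set G), ∃ v ∈ S.V, ∃ l ∈ S.L₂, x = v * l)
    (hr : S.ψ.range ≤ normalizer (S.N : Set G)) (hg : S.g ∈ normalizer (S.N : Set G))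
    {v v' : G} (hv : v ∈ S.V) (hv' : v' ∈ S.V') (h : v ≠ 1) (h' : v' ≠ 1) :
    ¬ IsConj (S.ψ aF) (v * v') := by
  obtain ⟨u, rfl⟩ := Hyp.mem_four S.ψ hv
  obtain ⟨u', rfl⟩ := Hyp.mem_four S.φ hv'
  exact Hyp.not_isConj_mixed ⟨hX, hcomm, hCV, hr, hg⟩
    (fun e => h (by subst e; simp [vk])) (fun e => h' (by subst e; simp [vk]))

/-- The centralizer of an involution of a factor normalizes the product of the factors. -/
theorem Setup.wr_cent_a_le (hX : S.IsWr) (hcomm : ∀ x ∈ S.L₁, ∀ y ∈ S.L₂, Commute x y)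
    (hCV : ∀ x ∈ centralizer (S.V : Set G), ∃ v ∈ S.V, ∃ l ∈ S.L₂, x = v * l)
    (hr : S.ψ.range ≤ normalizer (S.N : Set G)) (hg : S.g ∈ normalizer (S.N : Set G))
    (hat : ¬ IsConj (S.ψ aF) (S.ψ tF)) :
    centralizer ({S.ψ aF} : Set G) ≤ normalizer (S.N : Set G) :=
  Hyp.centralizer_le ⟨hX, hcomm, hCV, hr, hg⟩ hat

end CfsgLib.SEightThree
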