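import Cfsg.Agent.Lib.SEightThree.WrInvol.OfFactors
import Cfsg.Agent.Lib.SEightThree.WrLocal

/-!
The outer involutions in the wreathed configuration.
-/

set_option autoImplicit false
set_option linter.style.haveILetI false

namespace CfsgLib.SEightThree.Setup

open Subgroup

universe u

variable {G : Type u} [Group G] [Finite G] (S : Setup G)

theorem frame_of_wr (hX : S.IsWr) (hcomm : ∀ x ∈ S.L₁, ∀ y ∈ S.L₂, Commute x y) :
    WrInvol.Frame S := by
  have hCV : ∀ x ∈ centralizer (S.V : Set G), ∃ v ∈ S.V, ∃ l ∈ S.L₂, x = v * l := fun x hx => by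
    rw [S.centralizer_V hX hcomm] at hx
    exact (mem_sup_comm (fun a ha b hb => hcomm a (S.V_le_L₁ ha) b hb)).1 hx
  have hr := S.range_le_normalizer hX hcomm
  have hg := S.g_mem_normalizer hX hcomm
  have hv : S.ψ aF ∈ S.V := Subgroup.subset_closure (Or.inl rfl)
  have hv' : S.φ aF ∈ S.V' := Subgroup.subset_closure (Or.inl rfl)
  have ha1 : aF ≠ 1 := by decide +kernel
  refine frameOf S hX hcomm (S.wr_cent_a_le hX hcomm hCV hr hg S.not_isConj_a_t)
    (S.wr_not_dvd_128 hX hcomm hCV hr hg) (S.not_isConj_mixed hX hcomm hCV hr hg hv hv' ?_ ?_)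
  · exact fun e => ha1 (S.inj (e.trans (map_one _).symm))
  · exact fun e => ha1 (S.φ_inj (e.trans (map_one _).symm))

/-- The centralizer of `t` normalizes the product of the factors. -/
theorem cent_t_le (hX : S.IsWr) (hcomm : ∀ x ∈ S.L₁, ∀ y ∈ S.L₂, Commute x y) :
    centralizer ({S.ψ tF} : Set G) ≤ normalizer (S.N : Set G) :=
  WrInvol.cent_t (S.frame_of_wr hX hcomm)

/-- An outer involution is not conjugate into the subgroup of order sixteen. -/
theorem not_isConj_outer (hX : S.IsWr) (hcomm : ∀ x ∈ S.L₁, ∀ y ∈ S.L₂, Commute x y) {x w : G}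
    (hx : x ∈ normalizer (S.N : Set G)) (hxN : x ∉ S.N) (hx2 : x * x = 1) (hw : w ∈ S.W)
    (hw1 : w ≠ 1) : ¬ IsConj x w :=
  WrInvol.outer_not_W (S.frame_of_wr hX hcomm) hx hxN hx2 hw hw1

/-- The outer involutions in the coset of `t` are not conjugate to those in the swapping cosets. -/
theorem not_isConj_t_swap (hX : S.IsWr) (hcomm : ∀ x ∈ S.L₁, ∀ y ∈ S.L₂, Commute x y)
    {x y n m : G} (hn : n ∈ S.N) (hm : m ∈ S.N) (hx : x = n * S.ψ tF) (hx2 : x * x = 1)
    (hy : y = m * S.g ∨ y = m * (S.ψ tF * S.g)) (hy2 : y * y = 1) : ¬ IsConj x y :=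
  WrInvol.t_coset_not_swap (S.frame_of_wr hX hcomm) hn hm hx hx2 hy hy2

end CfsgLib.SEightThree.Setup
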