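import Cfsg.Agent.Lib.SEightThree.Common
import Cfsg.Agent.Lib.SEightThree.WrFactors
import Cfsg.Agent.Lib.SEightThree.WrLocal

/-!
The two-local structure of the wreathed configuration from the facts on the factors.
-/

set_option autoImplicit false

namespace CfsgLib.SEightThree.Setup

open Subgroup

universe u

variable {G : Type u} [Group G] [Finite G] (S : Setup G)

theorem wrLocalHyp (hX : S.IsWr) (hcomm : ∀ x ∈ S.L₁, ∀ y ∈ S.L₂, Commute x y) :
    WrLocal.Hyp S where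
  wr := hX
  comm := hcomm
  range_le := S.range_le_normalizer hX hcomm
  g_mem := S.g_mem_normalizer hX hcomm
  centV := fun x hx => by
    rw [S.centralizer_V hX hcomm, ← SetLike.mem_coe,
      coe_mul_of_left_le_normalizer_right _ _ (le_trans (fun v hv => mem_centralizer_iff.2
        fun l hl => (hcomm v (S.V_le_L₁ hv) l hl).eq.symm) (centralizer_le_normalizer _))] at hx
    obtain ⟨v, hv, l, hl, rfl⟩ := hx
    exact ⟨v, hv, l, hl, rfl⟩

theorem normalizer_W_le_normalizer_N (hX : S.IsWr)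
    (hcomm : ∀ x ∈ S.L₁, ∀ y ∈ S.L₂, Commute x y) :
    normalizer (S.W : Set G) ≤ normalizer (S.N : Set G) :=
  (S.wrLocalHyp hX hcomm).normalizer_le

theorem not_dvd_128_of_comm (hX : S.IsWr) (hcomm : ∀ x ∈ S.L₁, ∀ y ∈ S.L₂, Commute x y) :
    ¬ 128 ∣ Nat.card G :=
  (S.wrLocalHyp hX hcomm).not_dvd_128

theorem not_isConj_a_c (hX : S.IsWr) (hcomm : ∀ x ∈ S.L₁, ∀ y ∈ S.L₂, Commute x y) :
    ¬ IsConj (S.ψ aF) (S.ψ aF * S.φ aF) :=
  (S.wrLocalHyp hX hcomm).not_isConj_mixed (u := 1) (v := 1) (by decide) (by decide)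

theorem cent_a_le_normalizer (hX : S.IsWr) (hcomm : ∀ x ∈ S.L₁, ∀ y ∈ S.L₂, Commute x y) :
    centralizer ({S.ψ aF} : Set G) ≤ normalizer (S.N : Set G) :=
  (S.wrLocalHyp hX hcomm).centralizer_le S.not_isConj_a_t

end CfsgLib.SEightThree.Setup
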