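import Cfsg.Agent.Lib.SEightThree.WrEndCore
import Cfsg.Agent.Lib.SEightThree.WrFactors
import Cfsg.Agent.Lib.SEightThree.WrLocalFacts
import Cfsg.Agent.Lib.SEightThree.WrInvol

/-!
The conclusion in the wreathed configuration.
-/

set_option autoImplicit false

namespace CfsgLib.SEightThree

open Subgroup Equiv

universe u

theorem Setup.exists_normal {G : Type u} [Group G] [Finite G] (S : Setup G) (hX : S.IsWr)
    (hcomm : ∀ x ∈ S.L₁, ∀ y ∈ S.L₂, Commute x y) :
    ∃ N : Subgroup G, N.Normal ∧ Cfsg.generalizedFittingSubgroup G = N ∧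
      Nonempty (N ≃* alternatingGroup (Fin 5) × alternatingGroup (Fin 5)) ∧
      (∀ K : Subgroup G, K.Normal → K ≤ N → K = ⊥ ∨ K = N) ∧
      N.index = 4 ∧ ∀ g : G, g ^ 2 ∈ N := by
  refine Setup.WrInputs.conclusion (S := S) ?_
  exact
  { hcomm := hcomm
    g_sq := S.g_mul_g hX
    g_conj := fun x hx => S.g_conj_L₁ hx
    L₁_inf := S.L₁_inf_L₂ hX hcomm
    cent_L₁ := S.centralizer_L₁ hX hcomm
    card_W := S.card_W hX hcomm
    sq_W := S.sq_W hX hcomm
    card_N := S.card_N hX hcomm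
    g_mem := S.g_mem_normalizer hX hcomm
    mem_M := fun x hx => (S.mem_normalizer_N hX hcomm).1 hx
    t_mem := (S.mem_normalizer_N hX hcomm).2 ⟨1, one_mem _, Or.inr (Or.inl (one_mul _).symm)⟩
    card_M := S.card_normalizer_N hX hcomm
    sq_mem_N := S.sq_mem_N hX hcomm
    iso_N := S.N_iso hX hcomm
    not_dvd := S.not_dvd_128_of_comm hX hcomm
    not_conj_ac := S.not_isConj_a_c hX hcomm
    cent_a := S.cent_a_le_normalizer hX hcomm
    norm_W := S.normalizer_W_le_normalizer_N hX hcomm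
    outer := fun x hx hxN hx2 w hw hw1 => S.not_isConj_outer hX hcomm hx hxN hx2 hw hw1
    t_swap := fun n hn y hy hy2 => S.not_isConj_t_swap hX hcomm (one_mem _) hn
      (one_mul _).symm (by rw [← map_mul, end_facts.2.2.2.2.2.2.2.2.2.1, map_one]) hy hy2 }

end CfsgLib.SEightThree
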