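import Cfsg.Agent.Lib.SEightThree.Common
import Cfsg.Agent.Lib.Transfer.ThompsonTransfer
import Cfsg.Agent.Lib.Coprime.Action2
import Cfsg.Agent.Lib.Involutions.Dihedral
import Cfsg.Agent.Lib.Components.FStar

/-!
The end of the wreathed configuration: the product of the two factors is normal, of index four, and
is the generalized Fitting subgroup.
-/

set_option autoImplicit false
set_option linter.style.haveILetI false
set_option linter.unusedSectionVars false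
set_option maxRecDepth 100000

namespace CfsgLib.SEightThree

open Subgroup Equiv CfsgLib.Involutions

universe u

theorem fours_mul : ∀ x ∈ [1, aF, bF, aF * bF], ∀ y ∈ [1, aF, bF, aF * bF],
    x * y ∈ [1, aF, bF, aF * bF] ∧ x⁻¹ ∈ [1, aF, bF, aF * bF] := by decide +kernel

theorem fours_conj : ∀ k ∈ [aF, bF, aF * bF],
    ∃ i : Fin 3, dF ^ i.1 * aF * (dF ^ i.1)⁻¹ = k := by decide +kernel

theorem fours_cent : ∀ k : KF, k.1 = 1 → Perm.sign k.2 = 1 → k * aF = aF * k →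
    k ∈ [1, aF, bF, aF * bF] := by decide +kernel

theorem end_facts : aF.1 = 1 ∧ Perm.sign aF.2 = 1 ∧ bF.1 = 1 ∧ Perm.sign bF.2 = 1 ∧ dF.1 = 1 ∧
    Perm.sign dF.2 = 1 ∧ aF ≠ 1 ∧ aF * aF = 1 ∧ dF * dF ≠ 1 ∧ tF * tF = 1 ∧ tF ≠ 1 := by
  decide +kernel

theorem mem_L₁F {k : KF} : k ∈ L₁F ↔ k.1 = 1 ∧ Perm.sign k.2 = 1 := by
  rw [L₁F, Subgroup.mem_prod, Subgroup.mem_bot, Perm.mem_alternatingGroup]

theorem mem_fours {k : KF} (hk : k ∈ closure ({aF, bF} : Set KF)) :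
    k ∈ [1, aF, bF, aF * bF] := by
  induction hk using closure_induction with
  | mem y hy => rcases hy with rfl | rfl <;> simp
  | one => simp
  | mul y w _ _ hy hw => exact (fours_mul y hy w hw).1
  | inv y _ hy => exact (fours_mul y hy y hy).2

/-- The even permutations of five letters, embedded. -/
def incA : alternatingGroup (Fin 5) →* KF :=
  (MonoidHom.inr (Perm (Fin 3)) (Perm (Fin 5))).comp (alternatingGroup (Fin 5)).subtype

/-- A subgroup containing the squares of a simple group with an element of order above two contains it. -/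
theorem simple_le_of_sq {G : Type u} [Group G] {L K : Subgroup G} [IsSimpleGroup L]
    {d : G} (hd : d ∈ L) (hd2 : d * d ≠ 1) (hsq : ∀ x ∈ L, x * x ∈ K) : L ≤ K := by
  have hn : (K.subgroupOf L).Normal := ⟨fun k hk l => by
    rw [mem_subgroupOf] at hk ⊢
    have h1 := hsq _ (l * k).2
    have h2 := hsq _ l.2
    have : ((l * k * l⁻¹ : L) : G) = ((l * k : L) : G) * ((l * k : L) : G) * (k : G)⁻¹ *
        ((l : G) * (l : G))⁻¹ := by
      simp only [coe_mul, coe_inv]; group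
    rw [this]
    exact mul_mem (mul_mem h1 (inv_mem hk)) (inv_mem h2)⟩
  rcases IsSimpleGroup.eq_bot_or_eq_top_of_normal _ hn with h | h
  · exfalso
    refine hd2 ?_
    have : (⟨d, hd⟩ : L) * ⟨d, hd⟩ ∈ K.subgroupOf L := hsq d hd
    rw [h, Subgroup.mem_bot] at this
    exact congrArg Subtype.val this
  · exact subgroupOf_eq_top.1 h

variable {G : Type u} [Group G]

/-- What the other pieces of the wreathed configuration supply. -/
structure Setup.WrInputs (S : Setup G) : Prop where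
  hcomm : ∀ x ∈ S.L₁, ∀ y ∈ S.L₂, Commute x y
  g_sq : S.g * S.g = 1
  g_conj : ∀ x ∈ S.L₁, S.g * x * S.g⁻¹ ∈ S.L₂
  L₁_inf : S.L₁ ⊓ S.L₂ = ⊥
  cent_L₁ : centralizer (S.L₁ : Set G) = S.L₂
  card_W : Nat.card S.W = 16
  sq_W : ∀ x ∈ S.W, x * x = 1
  card_N : Nat.card S.N = 3600
  g_mem : S.g ∈ normalizer (S.N : Set G)
  mem_M : ∀ x ∈ normalizer (S.N : Set G), ∃ n ∈ S.N,
    x = n ∨ x = n * S.ψ tF ∨ x = n * S.g ∨ x = n * (S.ψ tF * S.g)
  t_mem : S.ψ tF ∈ normalizer (S.N : Set G)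
  card_M : Nat.card (normalizer (S.N : Set G)) = 14400
  sq_mem_N : ∀ x ∈ normalizer (S.N : Set G), x ^ 2 ∈ S.N
  iso_N : Nonempty (S.N ≃* alternatingGroup (Fin 5) × alternatingGroup (Fin 5))
  not_dvd : ¬ 128 ∣ Nat.card G
  not_conj_ac : ¬ IsConj (S.ψ aF) (S.ψ aF * S.φ aF)
  cent_a : centralizer ({S.ψ aF} : Set G) ≤ normalizer (S.N : Set G)
  norm_W : normalizer (S.W : Set G) ≤ normalizer (S.N : Set G)
  outer : ∀ x ∈ normalizer (S.N : Set G), x ∉ S.N → x * x = 1 →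
    ∀ w ∈ S.W, w ≠ 1 → ¬ IsConj x w
  t_swap : ∀ n ∈ S.N, ∀ y : G, y = n * S.g ∨ y = n * (S.ψ tF * S.g) → y * y = 1 → ¬ IsConj (S.ψ tF) y

namespace Setup

variable (S : Setup G)

theorem mem_L₁ {x : G} : x ∈ S.L₁ ↔ ∃ k : KF, (k.1 = 1 ∧ Perm.sign k.2 = 1) ∧ S.ψ k = x := by
  simp only [Setup.L₁, mem_map, mem_L₁F]

theorem mem_L₂ {x : G} : x ∈ S.L₂ ↔ ∃ k : KF, (k.1 = 1 ∧ Perm.sign k.2 = 1) ∧ S.φ k = x := by
  simp only [Setup.L₂, mem_map, mem_L₁F]

theorem L₁_eq_range : S.L₁ = (S.ψ.comp incA).range := by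
  ext x
  rw [S.mem_L₁]
  constructor
  · rintro ⟨⟨k1, k2⟩, ⟨h1, h2⟩, rfl⟩
    refine ⟨⟨k2, Perm.mem_alternatingGroup.2 h2⟩, ?_⟩
    simp only at h1
    subst h1
    rfl
  · rintro ⟨k, rfl⟩
    exact ⟨incA k, ⟨rfl, Perm.mem_alternatingGroup.1 k.2⟩, rfl⟩

theorem L₂_eq_range : S.L₂ = (S.φ.comp incA).range := by
  ext x
  rw [S.mem_L₂]
  constructor
  · rintro ⟨⟨k1, k2⟩, ⟨h1, h2⟩, rfl⟩
    refine ⟨⟨k2, Perm.mem_alternatingGroup.2 h2⟩, ?_⟩
    simp only at h1
    subst h1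
    rfl
  · rintro ⟨k, rfl⟩
    exact ⟨incA k, ⟨rfl, Perm.mem_alternatingGroup.1 k.2⟩, rfl⟩

theorem incA_injective : Function.Injective incA := fun _ _ h =>
  Subtype.ext (congrArg Prod.snd h)

theorem isSimple_L₁ : IsSimpleGroup S.L₁ := by
  rw [S.L₁_eq_range]
  haveI := alternatingGroup.isSimpleGroup_five
  exact (MonoidHom.ofInjective (f := S.ψ.comp incA)
    (S.inj.comp incA_injective)).symm.isSimpleGroup

theorem isSimple_L₂ : IsSimpleGroup S.L₂ := by
  rw [S.L₂_eq_range]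
  haveI := alternatingGroup.isSimpleGroup_five
  exact (MonoidHom.ofInjective (f := S.φ.comp incA)
    (S.φ_inj.comp incA_injective)).symm.isSimpleGroup

theorem d_mem_L₁ : S.ψ dF ∈ S.L₁ :=
  S.mem_L₁.2 ⟨dF, ⟨end_facts.2.2.2.2.1, end_facts.2.2.2.2.2.1⟩, rfl⟩

theorem φd_mem_L₂ : S.φ dF ∈ S.L₂ :=
  S.mem_L₂.2 ⟨dF, ⟨end_facts.2.2.2.2.1, end_facts.2.2.2.2.2.1⟩, rfl⟩

theorem L₁_le_N : S.L₁ ≤ S.N := le_sup_left
theorem L₂_le_N : S.L₂ ≤ S.N := le_sup_right

/-- A subgroup containing all squares of the product contains the product. -/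
theorem N_le_of_sq {K : Subgroup G} (h : ∀ x ∈ S.N, x * x ∈ K) : S.N ≤ K := by
  haveI := S.isSimple_L₁
  haveI := S.isSimple_L₂
  refine sup_le (simple_le_of_sq S.d_mem_L₁ ?_ fun x hx => h x (S.L₁_le_N hx))
    (simple_le_of_sq S.φd_mem_L₂ ?_ fun x hx => h x (S.L₂_le_N hx))
  · rw [← map_mul]
    exact fun e => end_facts.2.2.2.2.2.2.2.2.1 (S.inj (e.trans (map_one _).symm))
  · rw [← map_mul]
    exact fun e => end_facts.2.2.2.2.2.2.2.2.1 (S.φ_inj (e.trans (map_one _).symm))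

theorem V_eq : S.V = (closure ({aF, bF} : Set KF)).map S.ψ := by
  rw [MonoidHom.map_closure, Set.image_pair]; rfl

theorem V'_eq : S.V' = (closure ({aF, bF} : Set KF)).map S.φ := by
  rw [MonoidHom.map_closure, Set.image_pair]; rfl

theorem V_le : S.V ≤ S.L₁ := by
  rw [Setup.V, closure_le]
  rintro _ (rfl | rfl)
  · exact S.mem_L₁.2 ⟨aF, ⟨end_facts.1, end_facts.2.1⟩, rfl⟩
  · exact S.mem_L₁.2 ⟨bF, ⟨end_facts.2.2.1, end_facts.2.2.2.1⟩, rfl⟩

theorem V'_le : S.V' ≤ S.L₂ := by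
  rw [Setup.V', closure_le]
  rintro _ (rfl | rfl)
  · exact S.mem_L₂.2 ⟨aF, ⟨end_facts.1, end_facts.2.1⟩, rfl⟩
  · exact S.mem_L₂.2 ⟨bF, ⟨end_facts.2.2.1, end_facts.2.2.2.1⟩, rfl⟩

theorem W_le_N : S.W ≤ S.N :=
  sup_le (S.V_le.trans S.L₁_le_N) (S.V'_le.trans S.L₂_le_N)

theorem V_cases {x : G} (hx : x ∈ S.V) :
    x = 1 ∨ ∃ i : Fin 3, x = S.ψ dF ^ i.1 * S.ψ aF * (S.ψ dF ^ i.1)⁻¹ := by
  rw [S.V_eq] at hx
  obtain ⟨k, hk, rfl⟩ := hx
  rcases List.mem_cons.1 (mem_fours hk) with rfl | h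
  · exact Or.inl (map_one _)
  · obtain ⟨i, rfl⟩ := fours_conj k h
    exact Or.inr ⟨i, by rw [map_mul, map_mul, map_inv, map_pow]⟩

theorem V'_cases {x : G} (hx : x ∈ S.V') :
    x = 1 ∨ ∃ i : Fin 3, x = S.φ dF ^ i.1 * S.φ aF * (S.φ dF ^ i.1)⁻¹ := by
  rw [S.V'_eq] at hx
  obtain ⟨k, hk, rfl⟩ := hx
  rcases List.mem_cons.1 (mem_fours hk) with rfl | h
  · exact Or.inl (map_one _)
  · obtain ⟨i, rfl⟩ := fours_conj k h
    exact Or.inr ⟨i, by rw [map_mul, map_mul, map_inv, map_pow]⟩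

theorem φa_eq : S.φ aF = S.g * S.ψ aF * S.g⁻¹ := rfl

/-- `c = a * a'` -/
def cW : G := S.ψ aF * S.φ aF

theorem aV : S.ψ aF ∈ S.V := subset_closure (Set.mem_insert _ _)
theorem aV' : S.φ aF ∈ S.V' := subset_closure (Set.mem_insert _ _)

variable {S}

namespace WrInputs

variable (I : S.WrInputs)
include I

theorem mem_N {x : G} : x ∈ S.N ↔ ∃ a ∈ S.L₁, ∃ b ∈ S.L₂, x = a * b := by
  constructor
  · intro hx
    have hn : S.L₁ ≤ normalizer (S.L₂ : Set G) := by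
      refine le_trans ?_ (centralizer_le_normalizer _)
      exact fun a ha => mem_centralizer_iff.2 fun b hb => (I.hcomm a ha b hb).eq.symm
    rw [Setup.N, ← SetLike.mem_coe, coe_mul_of_left_le_normalizer_right _ _ hn] at hx
    obtain ⟨a, ha, b, hb, rfl⟩ := hx
    exact ⟨a, ha, b, hb, rfl⟩
  · rintro ⟨a, ha, b, hb, rfl⟩
    exact mul_mem (S.L₁_le_N ha) (S.L₂_le_N hb)

theorem mem_W {x : G} (hx : x ∈ S.W) : ∃ a ∈ S.V, ∃ b ∈ S.V', x = a * b := by
  have hn : S.V ≤ normalizer (S.V' : Set G) := by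
    refine le_trans ?_ (centralizer_le_normalizer _)
    exact fun a ha => mem_centralizer_iff.2 fun b hb =>
      (I.hcomm a (S.V_le ha) b (S.V'_le hb)).eq.symm
  rw [Setup.W, ← SetLike.mem_coe, coe_mul_of_left_le_normalizer_right _ _ hn] at hx
  obtain ⟨a, ha, b, hb, rfl⟩ := hx
  exact ⟨a, ha, b, hb, rfl⟩

theorem N_cent_c {x : G} (hx : x ∈ S.N) (hc : x * S.cW = S.cW * x) : x ∈ S.W := by
  obtain ⟨p, hp, q, hq, rfl⟩ := I.mem_N.1 hx
  have ha1 := S.V_le S.aV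
  have ha2 := S.V'_le S.aV'
  have e1 : p * q * S.cW = p * S.ψ aF * (q * S.φ aF) := by
    rw [Setup.cW, mul_assoc p q, ← mul_assoc q (S.ψ aF), ← (I.hcomm _ ha1 q hq).eq]
    group
  have e2 : S.cW * (p * q) = S.ψ aF * p * (S.φ aF * q) := by
    rw [Setup.cW, mul_assoc (S.ψ aF), ← mul_assoc (S.φ aF) p, ← (I.hcomm p hp _ ha2).eq]
    group
  rw [e1, e2] at hc
  have h12 : (S.ψ aF * p)⁻¹ * (p * S.ψ aF) = (S.φ aF * q) * (q * S.φ aF)⁻¹ := by
    rw [eq_mul_inv_iff_mul_eq, mul_assoc, hc]; group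
  have hmem : (S.ψ aF * p)⁻¹ * (p * S.ψ aF) ∈ S.L₁ ⊓ S.L₂ :=
    Subgroup.mem_inf.2 ⟨mul_mem (inv_mem (mul_mem ha1 hp)) (mul_mem hp ha1),
      h12 ▸ mul_mem (mul_mem ha2 hq) (inv_mem (mul_mem hq ha2))⟩
  rw [I.L₁_inf, Subgroup.mem_bot] at hmem
  have hpa : p * S.ψ aF = S.ψ aF * p := (inv_mul_eq_one.1 hmem).symm
  rw [hmem, eq_comm, mul_inv_eq_one] at h12
  obtain ⟨k, ⟨hk1, hk2⟩, rfl⟩ := S.mem_L₁.1 hp
  obtain ⟨l, ⟨hl1, hl2⟩, rfl⟩ := S.mem_L₂.1 hq
  have hk := fours_cent k hk1 hk2 (S.inj (by rw [map_mul, map_mul, hpa]))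
  have hl := fours_cent l hl1 hl2 (S.φ_inj (by rw [map_mul, map_mul, h12]))
  have hin : ∀ m ∈ [1, aF, bF, aF * bF], m ∈ closure ({aF, bF} : Set KF) := by
    intro m hm
    simp only [List.mem_cons, List.not_mem_nil, or_false] at hm
    rcases hm with rfl | rfl | rfl | rfl
    · exact one_mem _
    · exact subset_closure (Set.mem_insert _ _)
    · exact subset_closure (Set.mem_insert_of_mem _ rfl)
    · exact mul_mem (subset_closure (Set.mem_insert _ _))
        (subset_closure (Set.mem_insert_of_mem _ rfl))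
  exact mul_mem
    (le_sup_left (a := S.V) (b := S.V') (by rw [S.V_eq]; exact mem_map_of_mem _ (hin k hk)))
    (le_sup_right (a := S.V) (b := S.V') (by rw [S.V'_eq]; exact mem_map_of_mem _ (hin l hl)))

/-- The normalizer of the product. -/
theorem conj_cent_le {m v : G} (hm : m ∈ normalizer (S.N : Set G))
    (h : centralizer ({v} : Set G) ≤ normalizer (S.N : Set G)) :
    centralizer ({m * v * m⁻¹} : Set G) ≤ normalizer (S.N : Set G) := by
  intro x hx
  have hx' := mem_centralizer_singleton_iff.1 hx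
  have : m⁻¹ * x * m ∈ normalizer (S.N : Set G) := h (mem_centralizer_singleton_iff.2 (by
    calc m⁻¹ * x * m * v = m⁻¹ * (x * (m * v * m⁻¹)) * m := by group
      _ = m⁻¹ * (m * v * m⁻¹ * x) * m := by rw [hx']
      _ = _ := by group))
  rw [show x = m * (m⁻¹ * x * m) * m⁻¹ by group]
  exact mul_mem (mul_mem hm this) (inv_mem hm)

theorem cent_V {v : G} (hv : v ∈ S.V) (h1 : v ≠ 1) :
    centralizer ({v} : Set G) ≤ normalizer (S.N : Set G) := by
  obtain ⟨i, rfl⟩ := (S.V_cases hv).resolve_left h1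
  exact I.conj_cent_le (le_normalizer (S.L₁_le_N (pow_mem S.d_mem_L₁ _))) I.cent_a

theorem cent_V' {v : G} (hv : v ∈ S.V') (h1 : v ≠ 1) :
    centralizer ({v} : Set G) ≤ normalizer (S.N : Set G) := by
  obtain ⟨i, rfl⟩ := (S.V'_cases hv).resolve_left h1
  refine I.conj_cent_le (le_normalizer (S.L₂_le_N (pow_mem S.φd_mem_L₂ _))) ?_
  rw [S.φa_eq]
  exact I.conj_cent_le I.g_mem I.cent_a

variable [Finite G]

theorem le_M_eq {H : Subgroup G} (hNH : S.N ≤ H) (h32 : ¬ 32 ∣ Nat.card H) {x : G} (hx : x ∈ H)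
    (hM : x ∈ normalizer (S.N : Set G)) : x ∈ S.N := by
  have hle : S.N ≤ H ⊓ normalizer (S.N : Set G) := le_inf hNH le_normalizer
  obtain ⟨j, hj⟩ := card_dvd_of_le hle
  have hd : 3600 * j ∣ 14400 := by
    rw [← I.card_N, ← hj, ← I.card_M]
    exact card_dvd_of_le inf_le_right
  have hj4 : j ∣ 4 := Nat.dvd_of_mul_dvd_mul_left (by norm_num : 0 < 3600) (by simpa using hd)
  have h32' : ¬ 32 ∣ 3600 * j := by
    rw [← I.card_N, ← hj]
    exact fun h => h32 (h.trans (card_dvd_of_le inf_le_left))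
  have hj1 : j = 1 := by
    have := Nat.le_of_dvd (by norm_num) hj4
    interval_cases j <;> omega
  have he : S.N = H ⊓ normalizer (S.N : Set G) :=
    eq_of_le_of_card_ge hle (by rw [hj, hj1, mul_one])
  rw [he]
  exact Subgroup.mem_inf.2 ⟨hx, hM⟩

omit [Finite G] in
theorem factorization_16 {C : Subgroup G} [Finite C] (hW : S.W ≤ C) (h32 : ¬ 32 ∣ Nat.card C) :
    Nat.card S.W = 2 ^ (Nat.card C).factorization 2 := by
  have h16 : 2 ^ 4 ∣ Nat.card C := by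
    have := card_dvd_of_le hW
    rw [I.card_W] at this
    simpa using this
  have h1 : 4 ≤ (Nat.card C).factorization 2 :=
    (Nat.prime_two.pow_dvd_iff_le_factorization Nat.card_pos.ne').1 h16
  have h2 : ¬ 5 ≤ (Nat.card C).factorization 2 := fun h =>
    h32 ((Nat.prime_two.pow_dvd_iff_le_factorization Nat.card_pos.ne').2 h)
  rw [I.card_W, show (Nat.card C).factorization 2 = 4 by omega]
  norm_num

theorem isPGroup_W : IsPGroup 2 S.W := IsPGroup.of_card (n := 4) (by rw [I.card_W]; norm_num)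

/-- The centralizer of `c` in a subgroup with Sylow group `W`. -/
theorem cent_c {H : Subgroup G} (hNH : S.N ≤ H) (h32 : ¬ 32 ∣ Nat.card H) :
    H ⊓ centralizer ({S.cW} : Set G) ≤ S.N := by
  haveI : Fact (Nat.Prime 2) := ⟨Nat.prime_two⟩
  set C := H ⊓ centralizer ({S.cW} : Set G) with hC
  have hcW : S.cW ∈ S.W :=
    mul_mem (le_sup_left (a := S.V) (b := S.V') S.aV) (le_sup_right (a := S.V) (b := S.V') S.aV')
  have hWcomm : ∀ x ∈ S.W, ∀ y ∈ S.W, x * y = y * x := by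
    intro x hx y hy
    have h1 := I.sq_W _ (mul_mem hx hy)
    have hxi : x⁻¹ = x := inv_eq_of_mul_eq_one_right (I.sq_W x hx)
    have hyi : y⁻¹ = y := inv_eq_of_mul_eq_one_right (I.sq_W y hy)
    rw [← inv_eq_of_mul_eq_one_right h1, mul_inv_rev, hxi, hyi]
  have hWC : S.W ≤ C := le_inf (S.W_le_N.trans hNH) fun w hw =>
    mem_centralizer_singleton_iff.2 (hWcomm w hw _ hcW)
  have h32C : ¬ 32 ∣ Nat.card C := fun h => h32 (h.trans (card_dvd_of_le inf_le_left))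
  let P : Sylow 2 C := Sylow.ofCard (S.W.subgroupOf C)
    (by rw [Nat.card_congr (subgroupOfEquivOfLe hWC).toEquiv]; exact I.factorization_16 hWC h32C)
  have hPW : (P : Subgroup C) = S.W.subgroupOf C := Sylow.coe_ofCard _ _
  have hP : normalizer ((P : Subgroup C) : Set C) ≤ centralizer ((P : Subgroup C) : Set C) := by
    rw [hPW]
    intro n hn
    have hnW : (n : G) ∈ normalizer (S.W : Set G) := by
      refine mem_normalizer_fintype fun w hw => ?_
      exact mem_subgroupOf.1 ((mem_normalizer_iff.1 hn ⟨w, hWC hw⟩).1 (mem_subgroupOf.2 hw))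
    have hnN := I.le_M_eq hNH h32 (Subgroup.mem_inf.1 n.2).1 (I.norm_W hnW)
    have hnW' := I.N_cent_c hnN (mem_centralizer_singleton_iff.1 (Subgroup.mem_inf.1 n.2).2)
    rw [mem_centralizer_iff]
    intro w hw
    exact Subtype.ext (hWcomm _ (mem_subgroupOf.1 hw) _ hnW')
  obtain ⟨K0, hK0n, hK0d, hcomp⟩ : ∃ K0 : Subgroup C, K0.Normal ∧ ¬ 2 ∣ Nat.card K0 ∧
      IsComplement' K0 (P : Subgroup C) :=
    ⟨_, MonoidHom.normal_ker _, MonoidHom.not_dvd_card_ker_transferSylow P hP,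
      MonoidHom.ker_transferSylow_isComplement' P hP⟩
  set K := K0.map C.subtype with hK
  have hodd : ¬ 2 ∣ Nat.card K := by
    rwa [← Nat.card_congr (K0.equivMapOfInjective _ C.subtype_injective).toEquiv]
  have hVW : S.V ≤ S.W := le_sup_left
  have hVK : S.V ≤ normalizer (K : Set G) := by
    intro v hv
    refine mem_normalizer_fintype fun x hx => ?_
    obtain ⟨y, hy, rfl⟩ := mem_map.1 hx
    exact mem_map.2 ⟨⟨v, hWC (hVW hv)⟩ * y * ⟨v, hWC (hVW hv)⟩⁻¹,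
      hK0n.conj_mem y hy _, rfl⟩
  haveI : IsMulCommutative S.V :=
    ⟨⟨fun a b => Subtype.ext (hWcomm _ (hVW a.2) _ (hVW b.2))⟩⟩
  have hVsq : ∀ v : S.V, orderOf v ∣ 2 := fun v => orderOf_dvd_of_pow_eq_one (Subtype.ext (by
    rw [coe_pow, coe_one, sq]; exact I.sq_W _ (hVW v.2)))
  have hV : ¬ IsCyclic S.V := by
    intro hcyc
    obtain ⟨v, hv⟩ := IsCyclic.exists_ofOrder_eq_natCard (α := S.V)
    have h2 : Nat.card S.V ≤ 2 := hv ▸ Nat.le_of_dvd (by norm_num) (hVsq v)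
    have hab : S.ψ aF ≠ S.ψ bF := fun e => absurd (S.inj e) (by decide +kernel)
    have ha : S.ψ aF ≠ 1 := fun e => end_facts.2.2.2.2.2.2.1 (S.inj (e.trans (map_one _).symm))
    have hb : S.ψ bF ≠ 1 := fun e => absurd (S.inj (e.trans (map_one S.ψ).symm)) (by decide +kernel)
    have h3 : ({1, S.ψ aF, S.ψ bF} : Set G).ncard = 3 :=
      Set.ncard_eq_three.2 ⟨_, _, _, ha.symm, hb.symm, hab, rfl⟩
    have hsub : ({1, S.ψ aF, S.ψ bF} : Set G) ⊆ (S.V : Set G) := by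
      rintro x (rfl | rfl | rfl)
      exacts [one_mem _, S.aV, subset_closure (Set.mem_insert_of_mem _ rfl)]
    have hle := Set.ncard_le_ncard hsub
    rw [h3, ← Nat.card_coe_set_eq] at hle
    change 3 ≤ Nat.card S.V at hle
    omega
  have hcop : (Nat.card S.V).Coprime (Nat.card K) := by
    have hd := card_dvd_of_le hVW
    rw [I.card_W] at hd
    refine Nat.Coprime.of_dvd_left hd ?_
    rw [show (16 : ℕ) = 2 ^ 4 by norm_num]
    exact ((Nat.Prime.coprime_iff_not_dvd Nat.prime_two).2 hodd).pow_left 4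
  have hKN : K ≤ S.N := CfsgLib.Coprime.le_of_centralizer_le_of_not_isCyclic hV hVK hcop
    fun v hv h1 x hx => by
      obtain ⟨hxK, hxv⟩ := Subgroup.mem_inf.1 hx
      exact I.le_M_eq hNH h32 (Subgroup.mem_inf.1 (map_subtype_le _ hxK)).1 (I.cent_V hv h1 hxv)
  have hKW : K ≤ S.W := fun x hx =>
    I.N_cent_c (hKN hx) (mem_centralizer_singleton_iff.1 (Subgroup.mem_inf.1 (map_subtype_le _ hx)).2)
  have hK1 : Nat.card K = 1 := by
    have hd := card_dvd_of_le hKW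
    rw [I.card_W, show (16 : ℕ) = 2 ^ 4 by norm_num] at hd
    obtain ⟨m, -, hm⟩ := (Nat.dvd_prime_pow Nat.prime_two).1 hd
    rcases Nat.eq_zero_or_pos m with rfl | hpos
    · simpa using hm
    · exact absurd (hm ▸ dvd_pow_self 2 hpos.ne') hodd
  intro x hx
  obtain ⟨⟨⟨k, hk⟩, ⟨p, hp⟩⟩, he⟩ := hcomp.2 ⟨x, hx⟩
  have hk1 : (k : G) = 1 := by
    have hb : K = ⊥ := K.eq_bot_of_card_eq hK1
    have : (k : G) ∈ K := mem_map.2 ⟨k, hk, rfl⟩
    rwa [hb, Subgroup.mem_bot] at this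
  have e := congrArg Subtype.val he
  simp only [coe_mul, hk1, one_mul] at e
  rw [← e]
  exact S.W_le_N (mem_subgroupOf.1 (hPW ▸ hp))

theorem cent_W {H : Subgroup G} (hNH : S.N ≤ H) (h32 : ¬ 32 ∣ Nat.card H) {w : G} (hw : w ∈ S.W)
    (h1 : w ≠ 1) : H ⊓ centralizer ({w} : Set G) ≤ S.N := by
  intro x hx
  obtain ⟨hxH, hxw⟩ := Subgroup.mem_inf.1 hx
  obtain ⟨p, hp, q, hq, rfl⟩ := I.mem_W hw
  by_cases hp1 : p = 1
  · subst hp1
    rw [one_mul] at h1 hxw
    exact I.le_M_eq hNH h32 hxH (I.cent_V' hq h1 hxw)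
  by_cases hq1 : q = 1
  · subst hq1
    rw [mul_one] at h1 hxw
    exact I.le_M_eq hNH h32 hxH (I.cent_V hp h1 hxw)
  obtain ⟨i, rfl⟩ := (S.V_cases hp).resolve_left hp1
  obtain ⟨j, rfl⟩ := (S.V'_cases hq).resolve_left hq1
  set n1 := S.ψ dF ^ i.1 with hn1
  set n2 := S.φ dF ^ j.1 with hn2
  have m1 : n1 ∈ S.L₁ := pow_mem S.d_mem_L₁ _
  have m2 : n2 ∈ S.L₂ := pow_mem S.φd_mem_L₂ _
  have c1 : Commute n2 (n1 * S.ψ aF * n1⁻¹) :=
    (I.hcomm _ (mul_mem (mul_mem m1 (S.V_le S.aV)) (inv_mem m1)) _ m2).symm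
  have c2 : Commute n1 (S.φ aF) := I.hcomm _ m1 _ (S.V'_le S.aV')
  have e : n1 * S.ψ aF * n1⁻¹ * (n2 * S.φ aF * n2⁻¹) = n2 * n1 * S.cW * (n2 * n1)⁻¹ := by
    calc n1 * S.ψ aF * n1⁻¹ * (n2 * S.φ aF * n2⁻¹)
        = (n1 * S.ψ aF * n1⁻¹) * n2 * S.φ aF * n2⁻¹ := by group
      _ = n2 * (n1 * S.ψ aF * n1⁻¹) * S.φ aF * n2⁻¹ := by rw [c1.eq]
      _ = n2 * (n1 * S.ψ aF) * (n1⁻¹ * S.φ aF) * n2⁻¹ := by group
      _ = n2 * (n1 * S.ψ aF) * (S.φ aF * n1⁻¹) * n2⁻¹ := by rw [c2.inv_left.eq]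
      _ = n2 * n1 * S.cW * (n2 * n1)⁻¹ := by rw [Setup.cW]; group
  rw [e] at hxw
  have hn : n2 * n1 ∈ S.N := mul_mem (S.L₂_le_N m2) (S.L₁_le_N m1)
  have hx' := mem_centralizer_singleton_iff.1 hxw
  have hy : (n2 * n1)⁻¹ * x * (n2 * n1) ∈ H ⊓ centralizer ({S.cW} : Set G) := by
    refine Subgroup.mem_inf.2 ⟨mul_mem (mul_mem (inv_mem (hNH hn)) hxH) (hNH hn),
      mem_centralizer_singleton_iff.2 ?_⟩
    generalize n2 * n1 = n at hx'
    calc n⁻¹ * x * n * S.cW = n⁻¹ * (x * (n * S.cW * n⁻¹)) * n := by group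
      _ = n⁻¹ * (n * S.cW * n⁻¹ * x) * n := by rw [hx']
      _ = _ := by group
  have hy' := I.cent_c hNH h32 hy
  rw [show x = (n2 * n1) * ((n2 * n1)⁻¹ * x * (n2 * n1)) * (n2 * n1)⁻¹ by group]
  exact mul_mem (mul_mem hn hy') (inv_mem hn)

theorem conj_into_W {R : Subgroup S.N} (hR : IsPGroup 2 R) :
    ∃ n : S.N, ∀ r ∈ R, ((n * r * n⁻¹ : S.N) : G) ∈ S.W := by
  haveI : Fact (Nat.Prime 2) := ⟨Nat.prime_two⟩
  let P : Sylow 2 S.N := Sylow.ofCard (S.W.subgroupOf S.N)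
    (by rw [Nat.card_congr (subgroupOfEquivOfLe S.W_le_N).toEquiv]
        exact I.factorization_16 S.W_le_N (by rw [I.card_N]; norm_num))
  obtain ⟨Q, hQ⟩ := hR.exists_le_sylow
  obtain ⟨n, hn⟩ := MulAction.exists_smul_eq S.N Q P
  refine ⟨n, fun r hr => ?_⟩
  have h : n * r * n⁻¹ ∈ (P : Subgroup S.N) := by
    rw [← hn, Sylow.coe_subgroup_smul, Subgroup.mem_pointwise_smul_iff_inv_smul_mem,
      ← map_inv, MulAut.smul_def, MulAut.conj_apply, inv_inv,
      show n⁻¹ * (n * r * n⁻¹) * n = r by group]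
    exact hQ hr
  rw [Sylow.coe_ofCard] at h
  exact mem_subgroupOf.1 h

theorem invol_into_W {x : G} (hx : x ∈ S.N) (h2 : orderOf x = 2) :
    ∃ n ∈ S.N, n * x * n⁻¹ ∈ S.W := by
  have hR : IsPGroup 2 (zpowers (⟨x, hx⟩ : S.N)) :=
    IsPGroup.of_card (n := 1) (by rw [Nat.card_zpowers, orderOf_mk, h2, pow_one])
  obtain ⟨n, hn⟩ := I.conj_into_W hR
  exact ⟨n, n.2, hn _ (mem_zpowers _)⟩

theorem cent_invol {H : Subgroup G} (hNH : S.N ≤ H) (h32 : ¬ 32 ∣ Nat.card H) {x : G}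
    (hx : x ∈ S.N) (h2 : orderOf x = 2) {y : G} (hy : y ∈ H) (hxy : y * x = x * y) : y ∈ S.N := by
  obtain ⟨n, hn, hw⟩ := I.invol_into_W hx h2
  have h1 : n * x * n⁻¹ ≠ 1 := fun e => invol_ne_one h2 (conj_eq_one_iff.1 e)
  have h := I.cent_W hNH h32 hw h1 (show n * y * n⁻¹ ∈ _ from Subgroup.mem_inf.2
    ⟨mul_mem (mul_mem (hNH hn) hy) (inv_mem (hNH hn)), mem_centralizer_singleton_iff.2 (by
      calc n * y * n⁻¹ * (n * x * n⁻¹) = n * (y * x) * n⁻¹ := by group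
        _ = n * (x * y) * n⁻¹ := by rw [hxy]
        _ = _ := by group)⟩)
  rw [show y = n⁻¹ * (n * y * n⁻¹) * n by group]
  exact mul_mem (mul_mem (inv_mem hn) h) hn

theorem orderOf_a : orderOf (S.ψ aF) = 2 :=
  invol_iff.2 ⟨by rw [← map_mul, end_facts.2.2.2.2.2.2.2.1, map_one],
    fun e => end_facts.2.2.2.2.2.2.1 (S.inj (e.trans (map_one _).symm))⟩

theorem cW_mem : S.cW ∈ S.W :=
  mul_mem (le_sup_left (a := S.V) (b := S.V') S.aV) (le_sup_right (a := S.V) (b := S.V') S.aV')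

theorem orderOf_c : orderOf S.cW = 2 := by
  refine invol_iff.2 ⟨I.sq_W _ I.cW_mem, fun e => invol_ne_one I.orderOf_a ?_⟩
  have hmem : S.ψ aF ∈ S.L₁ ⊓ S.L₂ := Subgroup.mem_inf.2 ⟨S.V_le S.aV,
    eq_inv_of_mul_eq_one_left e ▸ inv_mem (S.V'_le S.aV')⟩
  rwa [I.L₁_inf, Subgroup.mem_bot] at hmem

/-- A subgroup with Sylow group `W` containing the product equals it. -/
theorem eq_N {H : Subgroup G} (hNH : S.N ≤ H) (h32 : ¬ 32 ∣ Nat.card H) : H ≤ S.N := by
  intro h hh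
  have haN : S.ψ aF ∈ S.N := S.L₁_le_N (S.V_le S.aV)
  set j := h * S.cW * h⁻¹ with hj
  have hjH : j ∈ H := mul_mem (mul_mem hh (hNH (S.W_le_N I.cW_mem))) (inv_mem hh)
  have hj2 : orderOf j = 2 := conj_invol h I.orderOf_c
  have heven : Even (orderOf (S.ψ aF * j)) := by
    by_contra hodd
    exact I.not_conj_ac ((isConj_of_odd_prod I.orderOf_a hj2 (Nat.not_even_iff_odd.1 hodd)).trans
      (isConj_iff.2 ⟨h, rfl⟩).symm)
  set k := (S.ψ aF * j) ^ (orderOf (S.ψ aF * j) / 2) with hk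
  have hkN : k ∈ S.N := I.cent_invol hNH h32 haN I.orderOf_a
    (pow_mem (mul_mem (hNH haN) hjH) _) (half_comm_left I.orderOf_a hj2 heven).eq
  have hjN : j ∈ S.N := I.cent_invol hNH h32 hkN (half_invol heven) hjH
    (half_comm_right I.orderOf_a hj2 heven).eq.symm
  have hWh : ∀ w ∈ S.W, h * w * h⁻¹ ∈ S.N := fun w hw => by
    refine I.cent_invol hNH h32 hjN hj2
      (mul_mem (mul_mem hh (hNH (S.W_le_N hw))) (inv_mem hh)) ?_
    have hwc : w * S.cW = S.cW * w := by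
      have h1 := I.sq_W _ (mul_mem hw I.cW_mem)
      rw [← inv_eq_of_mul_eq_one_right h1, mul_inv_rev,
        inv_eq_of_mul_eq_one_right (I.sq_W w hw),
        inv_eq_of_mul_eq_one_right (I.sq_W _ I.cW_mem)]
    calc h * w * h⁻¹ * j = h * (w * S.cW) * h⁻¹ := by rw [hj]; group
      _ = h * (S.cW * w) * h⁻¹ := by rw [hwc]
      _ = _ := by rw [hj]; group
  set R : Subgroup S.N := (S.W.map (MulAut.conj h).toMonoidHom).subgroupOf S.N with hR
  have hRp : IsPGroup 2 R := (I.isPGroup_W.map _).of_equiv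
    (subgroupOfEquivOfLe (by rintro _ ⟨w, hw, rfl⟩; exact hWh w hw)).symm
  obtain ⟨n, hn⟩ := I.conj_into_W hRp
  have hnh : (n : G) * h ∈ normalizer (S.W : Set G) := by
    refine mem_normalizer_fintype fun w hw => ?_
    have := hn ⟨h * w * h⁻¹, hWh w hw⟩ (mem_subgroupOf.2 ⟨w, hw, rfl⟩)
    simpa [mul_assoc] using this
  have hN := I.le_M_eq hNH h32 (mul_mem (hNH n.2) hh) (I.norm_W hnh)
  exact (Subgroup.mul_mem_cancel_left _ n.2).1 hN

theorem two_part : (Nat.card G).factorization 2 = 6 := by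
  have h64 : 2 ^ 6 ∣ Nat.card G := by
    refine dvd_trans ?_ (card_subgroup_dvd_card (normalizer (S.N : Set G)))
    rw [I.card_M]; norm_num
  apply le_antisymm
  · by_contra h
    exact I.not_dvd ((Nat.prime_two.pow_dvd_iff_le_factorization Nat.card_pos.ne').2
      (show 7 ≤ _ by omega))
  · exact (Nat.prime_two.pow_dvd_iff_le_factorization Nat.card_pos.ne').1 h64

theorem swap_invol : S.ψ tF * S.g * (S.ψ tF * S.g) = 1 := by
  have hc : S.g * S.ψ tF = S.ψ tF * S.g := mul_inv_eq_iff_eq_mul.1 S.g_t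
  rw [mul_assoc, ← mul_assoc S.g, hc, mul_assoc (S.ψ tF) S.g, I.g_sq, mul_one, ← map_mul,
    end_facts.2.2.2.2.2.2.2.2.2.1, map_one]

theorem g_not_mem : S.g ∉ S.N := by
  intro hg
  obtain ⟨p, hp, q, hq, e⟩ := I.mem_N.1 hg
  have h1 : S.g * S.ψ dF * S.g⁻¹ ∈ S.L₁ := by
    rw [e, show p * q * S.ψ dF * (p * q)⁻¹ = p * (q * S.ψ dF * q⁻¹) * p⁻¹ by group,
      ← (I.hcomm _ S.d_mem_L₁ q hq).eq, mul_inv_cancel_right]
    exact mul_mem (mul_mem hp S.d_mem_L₁) (inv_mem hp)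
  have h2 : S.g * S.ψ dF * S.g⁻¹ ∈ S.L₁ ⊓ S.L₂ :=
    Subgroup.mem_inf.2 ⟨h1, I.g_conj _ S.d_mem_L₁⟩
  rw [I.L₁_inf, Subgroup.mem_bot, conj_eq_one_iff] at h2
  exact end_facts.2.2.2.2.2.2.2.2.1 (by
    have : dF = 1 := S.inj (h2.trans (map_one _).symm)
    rw [this, one_mul])

theorem N_normal : S.N.Normal := by
  classical
  haveI : Fact (Nat.Prime 2) := ⟨Nat.prime_two⟩
  set M := normalizer (S.N : Set G) with hM
  -- the subgroup generated by the product and `g`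
  set B := S.N ⊔ zpowers S.g with hB
  have hBM : B ≤ M := sup_le le_normalizer (zpowers_le.2 I.g_mem)
  have hg1 : S.g ≠ 1 := fun e => I.g_not_mem (e ▸ one_mem _)
  have hgo : orderOf S.g = 2 := invol_iff.2 ⟨I.g_sq, hg1⟩
  have hBmem : ∀ x ∈ B, ∃ n ∈ S.N, x = n ∨ x = n * S.g := by
    intro x hx
    rw [hB, ← SetLike.mem_coe, coe_mul_of_right_le_normalizer_left _ _
      (zpowers_le.2 I.g_mem)] at hx
    obtain ⟨n, hn, y, hy, rfl⟩ := hx
    obtain ⟨i, rfl⟩ := mem_powers_iff_mem_zpowers.2 hy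
    rcases Nat.mod_two_eq_zero_or_one i with h | h <;>
      refine ⟨n, hn, ?_⟩ <;>
      simp only [← pow_mod_orderOf S.g i, hgo, h, pow_zero, pow_one, mul_one, true_or, or_true]
  have hBcard : Nat.card B = 7200 := by
    obtain ⟨j, hj⟩ := card_dvd_of_le (le_sup_left : S.N ≤ B)
    rw [I.card_N] at hj
    have hle : Nat.card B ≤ 7200 := by
      let f : S.N × Fin 2 → G := fun p => (p.1 : G) * S.g ^ p.2.1
      have : (B : Set G) ⊆ Set.range f := by
        intro x hx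
        obtain ⟨n, hn, rfl | rfl⟩ := hBmem x hx
        · exact ⟨(⟨x, hn⟩, 0), by simp [f]⟩
        · exact ⟨(⟨n, hn⟩, 1), by simp [f]⟩
      calc Nat.card B = (B : Set G).ncard := (Nat.card_coe_set_eq _)
        _ ≤ (Set.range f).ncard := Set.ncard_le_ncard this
        _ ≤ Nat.card (S.N × Fin 2) := by
            rw [← Nat.card_coe_set_eq]; exact Finite.card_range_le f
        _ = 7200 := by rw [Nat.card_prod, I.card_N, Nat.card_fin]
    have hne : Nat.card B ≠ 3600 := fun e => I.g_not_mem (by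
      rw [eq_of_le_of_card_ge (le_sup_left : S.N ≤ B) (by rw [e, I.card_N])]
      exact mem_sup_right (mem_zpowers _))
    have hpos := Nat.card_pos (α := B)
    have hj' : Nat.card B = 3600 * j := hj
    omega
  -- a Sylow subgroup in the normalizer
  obtain ⟨R, hR⟩ := (I.isPGroup_W.of_equiv (subgroupOfEquivOfLe
    (S.W_le_N.trans le_normalizer : S.W ≤ M)).symm).exists_le_sylow
  set P0 := (R : Subgroup M).map M.subtype with hP0
  have hP0card : Nat.card P0 = 2 ^ 6 := by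
    rw [← Nat.card_congr ((R : Subgroup M).equivMapOfInjective _ M.subtype_injective).toEquiv,
      R.card_eq_multiplicity, I.card_M]
    have h1 : 6 ≤ (14400 : ℕ).factorization 2 :=
      (Nat.prime_two.pow_dvd_iff_le_factorization (by norm_num)).1 (by norm_num)
    have h2 : ¬ 7 ≤ (14400 : ℕ).factorization 2 := fun h => by
      have := (Nat.prime_two.pow_dvd_iff_le_factorization (by norm_num : (14400 : ℕ) ≠ 0)).2 h
      norm_num at this
    rw [show (14400 : ℕ).factorization 2 = 6 by omega]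
  have hP0M : P0 ≤ M := map_subtype_le _
  have hWP0 : S.W ≤ P0 := fun w hw =>
    mem_map.2 ⟨⟨w, le_normalizer (S.W_le_N hw)⟩, hR (mem_subgroupOf.2 hw), rfl⟩
  let P : Sylow 2 G := Sylow.ofCard P0 (by rw [hP0card, I.two_part])
  have hP : (P : Subgroup G) = P0 := Sylow.coe_ofCard _ _
  have hPN : ∀ x ∈ P0, x ∈ S.N → x ∈ S.W := by
    intro x hx hxN
    have hle : S.W ≤ P0 ⊓ S.N := le_inf hWP0 S.W_le_N
    have hd1 := card_dvd_of_le (inf_le_left : P0 ⊓ S.N ≤ P0)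
    have hd2 := card_dvd_of_le (inf_le_right : P0 ⊓ S.N ≤ S.N)
    rw [hP0card] at hd1
    rw [I.card_N] at hd2
    have h16 : Nat.card (P0 ⊓ S.N : Subgroup G) ∣ 16 := by
      have := Nat.dvd_gcd hd1 hd2
      simpa using this
    rw [eq_of_le_of_card_ge hle (by rw [I.card_W]; exact Nat.le_of_dvd (by norm_num) h16)]
    exact Subgroup.mem_inf.2 ⟨hx, hxN⟩
  -- first transfer
  have hQP : P0 ⊓ B ≤ (P : Subgroup G) := hP ▸ inf_le_left
  have hQi : (P0 ⊓ B).relIndex (P : Subgroup G) = 2 := by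
    rw [hP, inf_relIndex_left]
    have hBM2 : B.relIndex M = 2 := by
      have := relIndex_mul_relIndex ⊥ B M bot_le hBM
      rw [relIndex_bot_left, relIndex_bot_left, hBcard, I.card_M] at this
      omega
    have h2 : B.relIndex P0 ≤ 2 := hBM2 ▸ relIndex_le_of_le_right hP0M (by rw [hBM2]; norm_num)
    have h0 : B.relIndex P0 ≠ 0 := (B.subgroupOf P0).index_ne_zero_of_finite
    have h1 : B.relIndex P0 ≠ 1 := fun e => by
      have := card_dvd_of_le (relIndex_eq_one.1 e)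
      rw [hP0card, hBcard] at this
      norm_num at this
    omega
  have htN : S.ψ tF ∉ S.N ∧ S.ψ tF * S.g ∉ S.N := by
    have key : ∀ r, r ∈ S.N → (∀ x ∈ M, ∃ n ∈ S.N, x = n ∨ x = n * r ∨ x = n * S.g ∨
        x = n * (r * S.g)) → False := by
      intro r hr hall
      have hle : M ≤ B := by
        intro x hx
        obtain ⟨n, hn, h⟩ := hall x hx
        have hnB : n ∈ B := mem_sup_left hn
        have hrB : r ∈ B := mem_sup_left hr
        have hgB : S.g ∈ B := mem_sup_right (mem_zpowers _)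
        rcases h with rfl | rfl | rfl | rfl
        exacts [hnB, mul_mem hnB hrB, mul_mem hnB hgB, mul_mem hnB (mul_mem hrB hgB)]
      have := card_dvd_of_le hle
      rw [hBcard, I.card_M] at this
      norm_num at this
    refine ⟨fun h => key _ h I.mem_M, fun h => key (S.ψ tF * S.g) h fun x hx => ?_⟩
    obtain ⟨n, hn, h'⟩ := I.mem_M x hx
    have e : S.ψ tF = S.ψ tF * S.g * S.g := by rw [mul_assoc, I.g_sq, mul_one]
    rcases h' with h' | h' | h' | h'
    · exact ⟨n, hn, Or.inl h'⟩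
    · exact ⟨n, hn, Or.inr (Or.inr (Or.inr (by rw [h', ← e])))⟩
    · exact ⟨n, hn, Or.inr (Or.inr (Or.inl h'))⟩
    · exact ⟨n, hn, Or.inr (Or.inl h')⟩
  have ht2 : S.ψ tF * S.ψ tF = 1 := by
    rw [← map_mul, end_facts.2.2.2.2.2.2.2.2.2.1, map_one]
  have hto : orderOf (S.ψ tF) = 2 :=
    invol_iff.2 ⟨ht2, fun e => htN.1 (e ▸ one_mem _)⟩
  have hnoQ : ∀ x : G, x * S.ψ tF * x⁻¹ ∉ P0 ⊓ B := by
    intro x hx
    obtain ⟨hxP, hxB⟩ := Subgroup.mem_inf.1 hx
    have hy2 : orderOf (x * S.ψ tF * x⁻¹) = 2 := conj_invol x hto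
    obtain ⟨n, hn, e | e⟩ := hBmem _ hxB
    · exact I.outer _ I.t_mem htN.1 ht2 _ (hPN _ hxP (e ▸ hn)) (invol_ne_one hy2)
        (isConj_iff.2 ⟨x, rfl⟩)
    · exact I.t_swap n hn _ (Or.inl e) (invol_mul_self hy2)
        (isConj_iff.2 ⟨x, rfl⟩)
  obtain ⟨G1, hG1n, hG1i, htG1⟩ := Transfer.exists_index_two_of_not_conj_mem P hQP hQi hto hnoQ
  haveI := hG1n
  have hsq1 : ∀ x : G, x * x ∈ G1 := fun x => mul_self_mem_of_index_two hG1i x
  have hNG1 : S.N ≤ G1 := S.N_le_of_sq fun x _ => hsq1 x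
  obtain ⟨σ, hσ, hσG1, hσN⟩ :
      ∃ σ, (σ * σ = 1 ∧ σ ∈ M) ∧ σ ∈ G1 ∧ σ ∉ S.N := by
    by_cases hgG : S.g ∈ G1
    · exact ⟨S.g, ⟨I.g_sq, I.g_mem⟩, hgG, I.g_not_mem⟩
    · exact ⟨S.ψ tF * S.g, ⟨I.swap_invol, mul_mem I.t_mem I.g_mem⟩,
        (mul_mem_iff_of_index_two hG1i).2 ⟨fun h => absurd h htG1, fun h => absurd h hgG⟩, htN.2⟩
  -- the Sylow subgroup of `G1`
  set P1 := P0 ⊓ G1 with hP1
  have hP1card : Nat.card P1 = 2 ^ 5 := by
    have h2 : G1.relIndex P0 ≤ 2 := by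
      have h := relIndex_le_of_le_right (le_top : P0 ≤ ⊤) (by rw [relIndex_top_right, hG1i]; norm_num :
        G1.relIndex ⊤ ≠ 0)
      rwa [relIndex_top_right, hG1i] at h
    have hmul : Nat.card P1 * G1.relIndex P0 = 64 := by
      have := relIndex_mul_relIndex ⊥ P1 P0 bot_le inf_le_left
      rwa [relIndex_bot_left, relIndex_bot_left, hP1, inf_relIndex_left, hP0card] at this
    have h1 : G1.relIndex P0 ≠ 1 := fun e => by
      have hle : P0 ≤ G1 := relIndex_eq_one.1 e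
      have hd : 2 ^ 6 ∣ Nat.card G1 := hP0card ▸ card_dvd_of_le hle
      have hG : Nat.card G = Nat.card G1 * 2 := by rw [← hG1i, card_mul_index]
      exact I.not_dvd (hG ▸ (show 128 = 2 ^ 6 * 2 by norm_num) ▸ Nat.mul_dvd_mul_right hd 2)
    have h0 : G1.relIndex P0 ≠ 0 := fun e => by rw [e, mul_zero] at hmul; norm_num at hmul
    rw [show G1.relIndex P0 = 2 by omega] at hmul
    norm_num
    omega
  have hG1card : (Nat.card G1).factorization 2 = 5 := by
    have hG : Nat.card G = Nat.card G1 * 2 := by rw [← hG1i, card_mul_index]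
    have := I.two_part
    rw [hG, Nat.factorization_mul Nat.card_pos.ne' (by norm_num)] at this
    simp only [Finsupp.coe_add, Pi.add_apply, Nat.Prime.factorization_self Nat.prime_two] at this
    omega
  let Q1 : Sylow 2 G1 := Sylow.ofCard (P1.subgroupOf G1)
    (by rw [Nat.card_congr (subgroupOfEquivOfLe inf_le_right).toEquiv, hP1card, hG1card])
  have hWP1 : S.W ≤ P1 := le_inf hWP0 (S.W_le_N.trans hNG1)
  have hQ1 : (Q1 : Subgroup G1) = P1.subgroupOf G1 := Sylow.coe_ofCard _ _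
  have hW1 : (S.W.subgroupOf G1) ≤ (Q1 : Subgroup G1) := by
    rw [hQ1]; exact fun x hx => hWP1 hx
  have hW2 : (S.W.subgroupOf G1).relIndex (Q1 : Subgroup G1) = 2 := by
    rw [hQ1, relIndex_subgroupOf inf_le_right]
    show S.W.relIndex P1 = 2
    have := relIndex_mul_relIndex ⊥ S.W P1 bot_le hWP1
    rw [relIndex_bot_left, relIndex_bot_left, I.card_W, hP1card] at this
    norm_num at this
    omega
  have hσo : orderOf (⟨σ, hσG1⟩ : G1) = 2 := by
    rw [orderOf_mk]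
    exact invol_iff.2 ⟨hσ.1, fun e => hσN (e ▸ one_mem _)⟩
  have hnoW : ∀ x : G1, x * ⟨σ, hσG1⟩ * x⁻¹ ∉ S.W.subgroupOf G1 := by
    intro x hx
    rw [mem_subgroupOf, coe_mul, coe_mul, coe_inv] at hx
    refine I.outer σ hσ.2 hσN hσ.1 _ hx (fun e => hσN ?_) (isConj_iff.2 ⟨x, rfl⟩)
    exact (show σ = 1 from conj_eq_one_iff.1 e) ▸ one_mem S.N
  obtain ⟨M2, hM2n, hM2i, hσM2⟩ := Transfer.exists_index_two_of_not_conj_mem Q1 hW1 hW2 hσo hnoW
  set H := M2.map G1.subtype with hH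
  have hNH : S.N ≤ H := S.N_le_of_sq fun x hx =>
    mem_map.2 ⟨_, mul_self_mem_of_index_two hM2i ⟨x, hNG1 hx⟩, rfl⟩
  have hHcard : Nat.card H * 2 = Nat.card G1 := by
    rw [← Nat.card_congr (M2.equivMapOfInjective _ G1.subtype_injective).toEquiv, ← hM2i,
      card_mul_index]
  have h32 : ¬ 32 ∣ Nat.card H := fun h => by
    have : 2 ^ 6 ∣ Nat.card G1 := by
      rw [← hHcard, show (2 : ℕ) ^ 6 = 32 * 2 by norm_num]; exact Nat.mul_dvd_mul_right h 2
    have := (Nat.prime_two.pow_dvd_iff_le_factorization Nat.card_pos.ne').1 this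
    omega
  have hHN : H = S.N := le_antisymm (I.eq_N hNH h32) hNH
  have hGM : normalizer (S.N : Set G) = ⊤ := by
    refine eq_top_of_card_eq _ ?_
    rw [I.card_M, ← G1.card_mul_index, hG1i, ← hHcard, hHN, I.card_N]
  exact normalizer_eq_top_iff.1 hGM

theorem L₂_conj {x : G} (hx : x ∈ S.L₂) : S.g * x * S.g⁻¹ ∈ S.L₁ := by
  obtain ⟨k, hk, rfl⟩ := S.mem_L₂.1 hx
  have hi : S.g⁻¹ = S.g := inv_eq_of_mul_eq_one_right I.g_sq
  rw [S.φ_apply, hi, show S.g * (S.g * S.ψ k * S.g) * S.g =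
    S.g * S.g * S.ψ k * (S.g * S.g) by group, I.g_sq, one_mul, mul_one]
  exact S.mem_L₁.2 ⟨k, hk, rfl⟩

/-- The conclusion for the wreathed configuration. -/
theorem conclusion : ∃ N : Subgroup G, N.Normal ∧ Cfsg.generalizedFittingSubgroup G = N ∧
    Nonempty (N ≃* alternatingGroup (Fin 5) × alternatingGroup (Fin 5)) ∧
    (∀ K : Subgroup G, K.Normal → K ≤ N → K = ⊥ ∨ K = N) ∧
    N.index = 4 ∧ ∀ g : G, g ^ 2 ∈ N := by
  haveI hNn := I.N_normal
  haveI := S.isSimple_L₁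
  haveI := S.isSimple_L₂
  have hM : normalizer (S.N : Set G) = ⊤ := normalizer_eq_top_iff.2 hNn
  have hG : Nat.card G = 14400 := by rw [← I.card_M, hM, card_top]
  have norm : ∀ L : Subgroup G, (L = S.L₁ ∨ L = S.L₂) → S.N ≤ normalizer (L : Set G) := by
    rintro L (rfl | rfl)
    · exact sup_le le_normalizer ((le_centralizer_iff.1 (fun a ha => mem_centralizer_iff.2
        fun b hb => (I.hcomm a ha b hb).eq.symm)).trans (centralizer_le_normalizer _))
    · refine sup_le (le_trans ?_ (centralizer_le_normalizer _)) le_normalizer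
      exact fun a ha => mem_centralizer_iff.2 fun b hb => (I.hcomm a ha b hb).eq.symm
  have hLle : ∀ L : Subgroup G, (L = S.L₁ ∨ L = S.L₂) → L ≤ S.N := by
    rintro L (rfl | rfl)
    exacts [S.L₁_le_N, S.L₂_le_N]
  have hmin : ∀ K : Subgroup G, K.Normal → K ≤ S.N → K = ⊥ ∨ K = S.N := by
    intro K hK hKN
    have hn : ((K ⊓ S.L₁).subgroupOf S.L₁).Normal := by
      rw [inf_subgroupOf_right]; infer_instance
    rcases IsSimpleGroup.eq_bot_or_eq_top_of_normal _ hn with h | h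
    · left
      have hbot : K ⊓ S.L₁ = ⊥ := by
        simpa [subgroupOf_eq_bot, disjoint_iff, inf_assoc] using h
      have hc : ∀ k ∈ K, ∀ l ∈ S.L₁, k * l = l * k := by
        intro k hk l hl
        have hm : k * l * k⁻¹ * l⁻¹ ∈ K ⊓ S.L₁ := by
          refine Subgroup.mem_inf.2 ⟨?_, mul_mem ?_ (inv_mem hl)⟩
          · rw [show k * l * k⁻¹ * l⁻¹ = k * (l * k⁻¹ * l⁻¹) by group]
            exact mul_mem hk (hK.conj_mem _ (inv_mem hk) _)
          · exact (mem_normalizer_iff.1 (norm _ (Or.inl rfl) (hKN hk)) l).1 hl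
        rw [hbot, Subgroup.mem_bot, mul_inv_eq_one, mul_inv_eq_iff_eq_mul] at hm
        exact hm
      refine eq_bot_iff.2 fun k hk => ?_
      have h2 : ∀ k ∈ K, k ∈ S.L₂ := fun k hk =>
        I.cent_L₁ ▸ mem_centralizer_iff.2 fun l hl => (hc k hk l hl).symm
      have hk1 : k ∈ S.L₁ := by
        have := I.L₂_conj (h2 _ (hK.conj_mem k hk S.g⁻¹))
        simpa [mul_assoc] using this
      rw [← I.L₁_inf]
      exact Subgroup.mem_inf.2 ⟨hk1, h2 k hk⟩
    · right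
      have h1 : S.L₁ ≤ K := le_trans (subgroupOf_eq_top.1 h) inf_le_left
      refine le_antisymm hKN (sup_le h1 fun x hx => ?_)
      have := hK.conj_mem _ (h1 (I.L₂_conj hx)) S.g⁻¹
      simpa [mul_assoc] using this
  have hcomp : ∀ L : Subgroup G, (L = S.L₁ ∨ L = S.L₂) → IsSimpleGroup L → ¬ IsMulCommutative L →
      Cfsg.IsComponent L := fun L hL hs hna =>
    ⟨IsSubnormal.step _ S.N (hLle L hL) hNn.isSubnormal
      (normal_subgroupOf_of_le_normalizer (norm L hL)),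
      haveI := hs; CfsgLib.Components.isQuasisimple_of_isSimpleGroup hna⟩
  have hna1 : ¬ IsMulCommutative S.L₁ := fun h => by
    have := congrArg Subtype.val (h.is_comm.comm ⟨_, S.d_mem_L₁⟩ ⟨_, S.V_le S.aV⟩)
    exact absurd (S.comm_of_map this) (by decide +kernel)
  have hna2 : ¬ IsMulCommutative S.L₂ := fun h => by
    have := congrArg Subtype.val (h.is_comm.comm ⟨_, S.φd_mem_L₂⟩ ⟨_, S.V'_le S.aV'⟩)
    have e : dF * aF = aF * dF := S.φ_inj (by rw [map_mul, map_mul]; exact this)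
    exact absurd e (by decide +kernel)
  have hCN : centralizer (S.N : Set G) = ⊥ := by
    refine eq_bot_iff.2 fun x hx => ?_
    have h2 : ∀ y, y ∈ centralizer (S.N : Set G) → y ∈ S.L₂ := fun y hy =>
      I.cent_L₁ ▸ centralizer_le (fun a ha => S.L₁_le_N ha) hy
    have hx1 : x ∈ S.L₁ := by
      have := I.L₂_conj (h2 _ ((inferInstance : (centralizer (S.N : Set G)).Normal).conj_mem x hx
        S.g⁻¹))
      simpa [mul_assoc] using this
    rw [← I.L₁_inf]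
    exact Subgroup.mem_inf.2 ⟨hx1, h2 x hx⟩
  have hfit : Cfsg.fittingSubgroup G ⊓ S.N = ⊥ := by
    haveI := CfsgLib.Base.fittingSubgroup_normal' G
    refine (hmin _ inferInstance inf_le_right).resolve_right fun e => ?_
    exact CfsgLib.Components.component_not_le_fitting (hcomp _ (Or.inl rfl) S.isSimple_L₁ hna1)
      ((S.L₁_le_N.trans e.ge).trans inf_le_left)
  refine ⟨S.N, hNn, le_antisymm (sup_le ?_ ?_) ?_, I.iso_N, hmin, ?_, fun x =>
    I.sq_mem_N x (hM ▸ mem_top x)⟩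
  · refine CfsgLib.Components.layer_le_iff.2 fun K hK => ?_
    rcases CfsgLib.Components.component_le_or_commutator_eq_bot hK hNn.isSubnormal with h | h
    · exact h
    · exfalso
      apply CfsgLib.Components.component_ne_bot hK
      rw [eq_bot_iff, ← hCN]
      exact commutator_eq_bot_iff_le_centralizer.1 h
  · haveI := CfsgLib.Base.fittingSubgroup_normal' G
    refine le_trans ?_ (hCN.le.trans bot_le)
    exact CfsgLib.Base.le_centralizer_of_normal_disjoint hfit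
  · refine le_trans (sup_le ?_ ?_) CfsgLib.Components.layer_le_fstar
    · exact CfsgLib.Components.component_le_layer (hcomp _ (Or.inl rfl) S.isSimple_L₁ hna1)
    · exact CfsgLib.Components.component_le_layer (hcomp _ (Or.inr rfl) S.isSimple_L₂ hna2)
  · have := S.N.card_mul_index
    rw [I.card_N, hG] at this
    omega

end WrInputs

end Setup

end CfsgLib.SEightThree
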